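import Cfsg.Agent.Zassenhaus.Swap
import Cfsg.Agent.S0040
import Mathlib.GroupTheory.SpecificGroups.ZGroup
import Mathlib.GroupTheory.Transfer

/-!
Zassenhaus groups with two-point stabilisers of odd order and without the normal complements:
the two-point stabiliser is cyclic, self-centralising and inverted by every swapper.
-/

set_option autoImplicit false
set_option linter.unusedSectionVars false
set_option linter.style.haveILetI false

namespace Cfsg.Agent.Zassenhaus

open Subgroup MulAction

variable {G Ω : Type*} [Group G] [MulAction G Ω]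

/-- A subgroup containing a Sylow subgroup for every prime is everything. -/
theorem eq_top_of_sylow_le {E : Type*} [Group E] [Finite E] (M : Subgroup E)
    (h : ∀ (q : ℕ) (_ : Fact q.Prime) (Q : Sylow q E), q ∣ Nat.card E → (Q : Subgroup E) ≤ M) :
    M = ⊤ := by
  refine Subgroup.eq_top_of_card_eq _ (Nat.dvd_antisymm (card_subgroup_dvd_card M) ?_)
  rw [Nat.dvd_iff_prime_pow_dvd_dvd]
  intro q k hq hk
  rcases Nat.eq_zero_or_pos k with rfl | hk0
  · simp
  haveI := Fact.mk hq
  obtain ⟨Q⟩ : Nonempty (Sylow q E) := inferInstance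
  refine dvd_trans ?_ (Subgroup.card_dvd_of_le
    (h q inferInstance Q ((dvd_pow_self q hk0.ne').trans hk)))
  rw [Q.card_eq_multiplicity]
  exact pow_dvd_pow q ((hq.pow_dvd_iff_le_factorization Nat.card_pos.ne').1 hk)

theorem mem_zpowers_sq {g : G} (h : Odd (orderOf g)) : g ∈ zpowers (g * g) := by
  obtain ⟨j, hj⟩ := h
  refine mem_zpowers_iff.2 ⟨((j + 1 : ℕ) : ℤ), ?_⟩
  rw [zpow_natCast, ← pow_two, ← pow_mul, show 2 * (j + 1) = orderOf g + 1 by omega, pow_succ,
    pow_orderOf_eq_one, one_mul]

theorem eq_one_of_sq {g : G} (h : Odd (orderOf g)) (h2 : g * g = 1) : g = 1 := by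
  simpa [h2] using mem_zpowers_sq h

/-- The point stabiliser is a Frobenius group, so the odd two-point stabiliser has cyclic Sylow
subgroups. -/
theorem ZCtx.isZGroup_twoPt [Finite G] [Finite Ω] (C : ZCtx G Ω) (h3 : 3 ≤ Nat.card Ω) {a b : Ω}
    (hab : a ≠ b) (hodd : Odd (Nat.card (twoPt G a b))) (hne : twoPt G a b ≠ ⊥) :
    IsZGroup (twoPt G a b) := by
  classical
  obtain ⟨F, hF⟩ := C.exists_kernel h3 hab hne
  set L := stabilizer G a
  set K := F.subgroupOf L
  set H := (twoPt G a b).subgroupOf L with hH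
  have : K.Normal := ⟨fun u hu g => hF.norm (g : G) g.2 _ hu⟩
  have hc : IsComplement' K H := by
    refine isComplement'_of_disjoint_and_mul_eq_univ (disjoint_iff.2 (eq_bot_iff.2 ?_))
      (Set.eq_univ_iff_forall.2 fun l => ?_)
    · rintro u ⟨hu, hu'⟩
      exact mem_bot.2 (Subtype.ext (hF.eq_one_of_fix hu (Ne.symm hab) hu'.2))
    · obtain ⟨u, hu, -⟩ := hF.reg b ((l : G) • b) (Ne.symm hab) fun e =>
        hab (MulAction.injective (l : G) (l.2.trans e.symm))
      let u' : L := ⟨u, hF.fix u u.2⟩
      refine ⟨u', u.2, u'⁻¹ * l, ⟨(u'⁻¹ * l).2, ?_⟩, mul_inv_cancel_left _ _⟩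
      show ((u : G)⁻¹ * l) • b = b
      rw [mul_smul, inv_smul_eq_iff, hu]
  have hK : K ≠ ⊥ := fun e => by
    obtain ⟨x, hxa, hxb⟩ := exists_third h3 a b
    obtain ⟨u, hu, -⟩ := hF.reg b x (Ne.symm hab) hxa
    have h1 : (⟨u, hF.fix u u.2⟩ : L) ∈ K := u.2
    rw [e, mem_bot] at h1
    apply hxb
    rw [← hu, show (u : G) = 1 from congrArg Subtype.val h1, one_smul]
  have hfpf : ∀ h ∈ H, h ≠ 1 → K ⊓ centralizer {h} = ⊥ := by
    intro h hh hh1
    refine eq_bot_iff.2 ?_
    rintro u ⟨hu, hu'⟩
    refine mem_bot.2 (Subtype.ext ?_)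
    have hc' : (h : G) * (u : G) = (u : G) * h :=
      congrArg Subtype.val (mem_centralizer_singleton_iff.1 hu').symm
    have h5 := hF.act_fpf C hab ⟨h, hh⟩
      (fun e => hh1 (Subtype.ext (congrArg Subtype.val e :))) ⟨u, hu⟩
      (Subtype.ext (by rw [hF.act_coe]; simp [hc']))
    exact (congrArg Subtype.val h5 :)
  let e := subgroupOfEquivOfLe (inf_le_left : twoPt G a b ≤ L)
  have : IsZGroup H := ⟨fun q hq P => by
    haveI := Fact.mk hq
    rcases S0040.result K H hc hK hfpf q P with h | ⟨n, ⟨φ⟩⟩
    · exact h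
    · exfalso
      have h1 := hodd.of_dvd_nat ((Nat.card_congr e.toEquiv) ▸ card_subgroup_dvd_card (P : Subgroup H))
      have h2 : Nat.card (P : Subgroup H) = Nat.card (QuaternionGroup (2 ^ n)) := Nat.card_congr φ.toEquiv
      rw [h2, Nat.card_eq_fintype_card, QuaternionGroup.card] at h1
      exact Nat.not_even_iff_odd.2 h1 ⟨2 * 2 ^ n, by ring⟩⟩
  exact IsZGroup.of_injective (f := e.symm.toMonoidHom) e.symm.injective

/-- A normaliser of a nontrivial subgroup of the two-point stabiliser preserves the pair. -/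
theorem ZCtx.normalizer_pair (C : ZCtx G Ω) {a b : Ω} (hab : a ≠ b) {Q : Subgroup G}
    (hQ : Q ≤ twoPt G a b) (hQ1 : Q ≠ ⊥) {g : G} (hg : g ∈ normalizer (Q : Set G)) :
    g ∈ twoPt G a b ∨ (g • a = b ∧ g • b = a) := by
  obtain ⟨x, hx, hx1⟩ := (Q.bot_or_exists_ne_one).resolve_left hQ1
  have hy : g * x * g⁻¹ ∈ Q := (mem_normalizer_iff.1 hg x).1 hx
  have hy1 : g * x * g⁻¹ ≠ 1 := fun e => hx1 (conj_eq_one_iff.1 e)
  have key : ∀ z : Ω, x • z = z → g • z = a ∨ g • z = b := by
    intro z hz
    by_contra hcon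
    rw [not_or] at hcon
    refine hy1 (C.eq_one hab (hQ hy) hcon.1 hcon.2 ?_)
    rw [mul_smul, mul_smul, inv_smul_smul, hz]
  rcases key a (hQ hx).1 with h1 | h1 <;> rcases key b (hQ hx).2 with h2 | h2
  · exact absurd (MulAction.injective g (h1.trans h2.symm)) hab
  · exact Or.inl ⟨h1, h2⟩
  · exact Or.inr ⟨h1, h2⟩
  · exact absurd (MulAction.injective g (h1.trans h2.symm)) hab

/-- An element of odd order does not interchange two points. -/
theorem not_swap_of_odd {a b : Ω} (hab : a ≠ b) {g : G} (hg : Odd (orderOf g)) :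
    ¬ (g • a = b ∧ g • b = a) := by
  rintro ⟨h1, h2⟩
  have h3 : g * g ∈ stabilizer G a := by
    show (g * g) • a = a
    rw [mul_smul, h1, h2]
  have h4 := (zpowers_le.2 h3) (mem_zpowers_sq hg)
  exact hab ((show g • a = a from h4).symm.trans h1)

theorem ZCtx.twoPt_inverted_odd [Finite G] [Finite Ω] (C : ZCtx G Ω) (h3 : 3 ≤ Nat.card Ω)
    {a b : Ω} (hab : a ≠ b) (hodd : Odd (Nat.card (twoPt G a b)))
    (hne : twoPt G a b ≠ ⊥)
    (hnil : ∀ q : ℕ, q.Prime → q ∣ Nat.card (twoPt G a b) →
      ¬ ∃ N : Subgroup G, N.Normal ∧ N.index = q ^ (Nat.card G).factorization q) :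
    IsCyclic (twoPt G a b) ∧ centralizer ((twoPt G a b : Subgroup G) : Set G) = twoPt G a b ∧
      ∀ s : G, s • a = b → s • b = a → ∀ h ∈ twoPt G a b, s * h * s⁻¹ = h⁻¹ := by
  classical
  haveI := C.isZGroup_twoPt h3 hab hodd hne
  set E := twoPt G a b with hE
  have hoddE : ∀ x : E, Odd (orderOf x) := fun x => hodd.of_dvd_nat (orderOf_dvd_natCard x)
  have main : ∀ s : G, s • a = b → s • b = a → IsCyclic E ∧ ∀ h ∈ E, s * h * s⁻¹ = h⁻¹ := by
    intro s hsa hsb
    let σ : E →* E :=
      { toFun := fun h => ⟨s * h * s⁻¹, swap_conj_mem hsa hsb h.2⟩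
        map_one' := Subtype.ext (by simp)
        map_mul' := fun h k => Subtype.ext (by simp [mul_assoc]) }
    have hσ : Function.Injective σ := fun h k e => Subtype.ext
      (mul_left_cancel (mul_right_cancel (congrArg Subtype.val e)))
    -- the elements inverted modulo the derived group
    let π : E →* Abelianization E := Abelianization.of
    let φ : E →* Abelianization E := (π.comp σ) * π
    have hker : ∀ x, x ∈ _root_.commutator E ↔ π x = 1 := fun x => by
      rw [← Abelianization.ker_of]; exact MonoidHom.mem_ker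
    have hM : φ.ker = ⊤ := by
      refine eq_top_of_sylow_le _ fun q _ Q hq => ?_
      have hqp : q.Prime := Fact.out
      have hq2 : Odd q := hodd.of_dvd_nat hq
      by_cases hqD : q ∣ Nat.card (_root_.commutator E)
      · -- the Sylow subgroup lies in the derived group
        have hco := IsZGroup.coprime_commutator_index (G := E)
        have hle : (Q : Subgroup E) ≤ _root_.commutator E := by
          intro x hx
          have h1 : orderOf (QuotientGroup.mk x : E ⧸ _root_.commutator E) ∣ 1 := by
            obtain ⟨k, hk⟩ := IsPGroup.iff_orderOf.1 Q.isPGroup' ⟨x, hx⟩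
            rw [Subgroup.orderOf_mk] at hk
            have h2 : (q ^ k).Coprime (_root_.commutator E).index :=
              (hco.coprime_dvd_left hqD).pow_left k
            rw [← Nat.Coprime.gcd_eq_one h2]
            exact Nat.dvd_gcd (hk ▸ orderOf_map_dvd (QuotientGroup.mk' (_root_.commutator E)) x)
              ((index_eq_card (_root_.commutator E)).symm ▸ orderOf_dvd_natCard _)
          exact (QuotientGroup.eq_one_iff x).1 (orderOf_eq_one_iff.1 (Nat.dvd_one.1 h1))
        have hσD : ∀ x ∈ _root_.commutator E, σ x ∈ _root_.commutator E := fun x hx =>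
          (hker _).2 (by
            have h1 : _root_.commutator E ≤ (π.comp σ).ker := Abelianization.commutator_subset_ker _
            exact h1 hx)
        intro x hx
        show π (σ x) * π x = 1
        rw [(hker x).1 (hle hx), (hker _).1 (hσD x (hle hx)), one_mul]
      · -- the Sylow subgroup is inverted
        set Qg := (Q : Subgroup E).map E.subtype with hQg
        have hQgE : Qg ≤ E := map_subtype_le _
        have hQp : IsPGroup q Qg := Q.isPGroup'.map _
        have hQg1 : Qg ≠ ⊥ := fun e => by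
          rw [hQg, map_eq_bot_iff_of_injective _ E.subtype_injective] at e
          exact Q.ne_bot_of_dvd_card hq e
        obtain ⟨P, hP⟩ := hQp.exists_le_sylow
        have hPQ : (P : Subgroup G) = Qg := by
          by_contra hcon
          haveI : Group.IsNilpotent (P : Subgroup G) := P.isPGroup'.isNilpotent
          have hlt : Qg.subgroupOf (P : Subgroup G) < ⊤ := lt_top_iff_ne_top.2 fun e =>
            hcon (le_antisymm (subgroupOf_eq_top.1 e) hP)
          obtain ⟨g, hgN, hgQ⟩ := SetLike.exists_of_lt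
            (Group.normalizerCondition_of_isNilpotent _ hlt)
          have hgN' : (g : G) ∈ normalizer (Qg : Set G) := by
            rw [mem_normalizer_iff]
            intro x
            constructor
            · intro hx
              exact (mem_normalizer_iff.1 hgN ⟨x, hP hx⟩).1 hx
            · intro hx
              have h1 : x ∈ (P : Subgroup G) := by
                have := (P : Subgroup G).mul_mem ((P : Subgroup G).mul_mem
                  ((P : Subgroup G).inv_mem g.2) (hP hx)) g.2
                simpa [mul_assoc] using this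
              exact (mem_normalizer_iff.1 hgN ⟨x, h1⟩).2 hx
          rcases C.normalizer_pair hab hQgE hQg1 hgN' with hgE | hgs
          · -- a larger subgroup inside the two-point stabiliser
            have h1 : IsPGroup q ((P : Subgroup G).subgroupOf E) :=
              P.isPGroup'.comap_of_injective E.subtype E.subtype_injective
            have h2 : (Q : Subgroup E) ≤ (P : Subgroup G).subgroupOf E := fun x hx =>
              hP (mem_map_of_mem _ hx)
            have h3 : (⟨(g : G), hgE⟩ : E) ∈ (Q : Subgroup E) := Q.is_maximal' h1 h2 ▸ g.2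
            exact hgQ (mem_map_of_mem E.subtype h3)
          · refine not_swap_of_odd hab ?_ hgs
            obtain ⟨k, hk⟩ := IsPGroup.iff_orderOf.1 P.isPGroup' g
            rw [← Subgroup.orderOf_coe] at hk
            rw [hk]
            exact hq2.pow
        -- Burnside's transfer gives a non-centralising swapper
        obtain ⟨g, hg, x, hx, hgx⟩ : ∃ g ∈ normalizer (Qg : Set G), ∃ x ∈ Qg, g * x ≠ x * g := by
          by_contra! hall
          have hle : normalizer ((P : Subgroup G) : Set G) ≤ centralizer ((P : Subgroup G) : Set G) := by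
            rw [hPQ]
            exact fun g hg => mem_centralizer_iff.2 fun x hx => (hall g hg x hx).symm
          refine hnil q hqp hq ⟨(MonoidHom.transferSylow P hle).ker, MonoidHom.normal_ker _, ?_⟩
          rw [(MonoidHom.ker_transferSylow_isComplement' P hle).symm.index_eq_card,
            P.card_eq_multiplicity]
        -- inside the two-point stabiliser the normaliser centralises
        have hcen : ∀ e ∈ E, e ∈ normalizer (Qg : Set G) → ∀ y ∈ Qg, e * y = y * e := by
          intro e he hen y hy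
          obtain ⟨y', hy', rfl⟩ := hy
          obtain ⟨z, hz, hz'⟩ := (mem_normalizer_iff.1 hen _).1 (mem_map_of_mem E.subtype hy')
          have hz'' : z = (⟨e, he⟩ : E) * y' * (⟨e, he⟩ : E)⁻¹ := Subtype.ext hz'
          have h1 : z * y'⁻¹ ∈ (Q : Subgroup E) ⊓ _root_.commutator E := by
            refine ⟨(Q : Subgroup E).mul_mem hz ((Q : Subgroup E).inv_mem hy'), (hker _).2 ?_⟩
            rw [hz'', map_mul, map_mul, map_mul, map_inv, map_inv, mul_comm (π _) (π y'),
              mul_inv_cancel_right, mul_inv_cancel]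
          have h2 : (Q : Subgroup E) ⊓ _root_.commutator E = ⊥ := by
            obtain ⟨k, hk⟩ := IsPGroup.iff_card.1 Q.isPGroup'
            refine disjoint_iff.1 (disjoint_of_coprime_natCard ?_)
            rw [hk]
            exact (hqp.coprime_iff_not_dvd.2 hqD).pow_left k
          rw [h2, mem_bot, mul_inv_eq_one, hz''] at h1
          exact mul_inv_eq_iff_eq_mul.1 (congrArg Subtype.val h1)
        rcases C.normalizer_pair hab hQgE hQg1 hg with hgE | ⟨hga, hgb⟩
        · exact absurd (hcen g hgE hg x hx) hgx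
        have hgg : g * g ∈ E := ⟨by show (g * g) • a = a; rw [mul_smul, hga, hgb],
          by show (g * g) • b = b; rw [mul_smul, hgb, hga]⟩
        obtain ⟨x₀, hx₀⟩ := (inferInstance : IsCyclic (Q : Subgroup E)).exists_generator
        set y₀ : G := ((x₀ : E) : G) with hy₀
        have hgen : ∀ y ∈ Qg, ∃ j : ℤ, y = y₀ ^ j := by
          rintro _ ⟨y, hy, rfl⟩
          obtain ⟨j, hj⟩ := mem_zpowers_iff.1 (hx₀ ⟨y, hy⟩)
          refine ⟨j, ?_⟩
          have := congrArg (fun z : (Q : Subgroup E) => ((z : E) : G)) hj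
          simpa [hy₀] using this.symm
        have hy₀Q : y₀ ∈ Qg := mem_map_of_mem _ x₀.2
        obtain ⟨r, hr⟩ := hgen _ ((mem_normalizer_iff.1 hg _).1 hy₀Q)
        have hconj : ∀ j : ℤ, g * y₀ ^ j * g⁻¹ = y₀ ^ (r * j) := fun j => by
          rw [← conj_zpow, hr, zpow_mul]
        obtain ⟨e, he⟩ : ∃ e : ℕ, orderOf y₀ = q ^ e := by
          obtain ⟨e, he⟩ := IsPGroup.iff_orderOf.1 hQp ⟨y₀, hy₀Q⟩
          exact ⟨e, by rw [← he, ← Subgroup.orderOf_coe]⟩
        have hr2 : ((q : ℤ) ^ e) ∣ (r - 1) * (r + 1) := by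
          have h1 : (g * g) * y₀ * (g * g)⁻¹ = y₀ := by
            rw [hcen _ hgg (mul_mem hg hg) y₀ hy₀Q, mul_inv_cancel_right]
          rw [show (g * g) * y₀ * (g * g)⁻¹ = g * (g * y₀ * g⁻¹) * g⁻¹ by group, hr, hconj] at h1
          have h2 : y₀ ^ (r * r - 1) = 1 := by rw [zpow_sub, h1, zpow_one, mul_inv_cancel]
          rw [← orderOf_dvd_iff_zpow_eq_one, he] at h2
          push_cast at h2
          rw [show (r - 1) * (r + 1) = r * r - 1 by ring]
          exact h2
        have hrinv : g * y₀ * g⁻¹ = y₀⁻¹ := by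
          by_cases hqr : (q : ℤ) ∣ r - 1
          · exfalso
            have hcop : IsCoprime ((q : ℤ) ^ e) (r + 1) := by
              refine IsCoprime.pow_left ((Nat.prime_iff_prime_int.1 hqp).coprime_iff_not_dvd.2 fun h => ?_)
              have h2 : (q : ℤ) ∣ 2 := by
                have := dvd_sub h hqr
                rwa [show r + 1 - (r - 1) = 2 by ring] at this
              have h3 := Nat.le_of_dvd two_pos (Int.natCast_dvd_natCast.1 h2)
              obtain ⟨i, hi⟩ := hq2
              have := hqp.two_le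
              omega
            have h1 : y₀ ^ (r - 1) = 1 := by
              rw [← orderOf_dvd_iff_zpow_eq_one, he]
              push_cast
              exact hcop.dvd_of_dvd_mul_right hr2
            obtain ⟨j, rfl⟩ := hgen x hx
            refine hgx (mul_inv_eq_iff_eq_mul.1 ?_)
            rw [hconj, show r * j = (r - 1) * j + j by ring, zpow_add, zpow_mul, h1, one_zpow,
              one_mul]
          · have hcop : IsCoprime ((q : ℤ) ^ e) (r - 1) :=
              IsCoprime.pow_left ((Nat.prime_iff_prime_int.1 hqp).coprime_iff_not_dvd.2 hqr)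
            have h1 : y₀ ^ (r + 1) = 1 := by
              rw [← orderOf_dvd_iff_zpow_eq_one, he]
              push_cast
              exact hcop.dvd_of_dvd_mul_left hr2
            rw [hr, eq_inv_iff_mul_eq_one, ← h1, zpow_add_one]
        intro y hy
        show π (σ y) * π y = 1
        obtain ⟨j, hj⟩ := hgen _ (mem_map_of_mem E.subtype hy)
        have hj' : (y : G) = y₀ ^ j := hj
        have hinv : g * (y : G) * g⁻¹ = (y : G)⁻¹ := by
          rw [hj', ← conj_zpow, hrinv, inv_zpow]
        have hc : s * g⁻¹ ∈ E := ⟨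
          by show (s * g⁻¹) • a = a; rw [mul_smul, inv_smul_eq_iff.2 hgb.symm, hsb],
          by show (s * g⁻¹) • b = b; rw [mul_smul, inv_smul_eq_iff.2 hga.symm, hsa]⟩
        have h1 : σ y = (⟨s * g⁻¹, hc⟩ : E) * y⁻¹ * (⟨s * g⁻¹, hc⟩ : E)⁻¹ := Subtype.ext (by
          show s * (y : G) * s⁻¹ = s * g⁻¹ * (y : G)⁻¹ * (s * g⁻¹)⁻¹
          rw [← hinv]
          group)
        rw [h1, map_mul, map_mul, map_inv, map_inv, mul_comm (π _) (π y)⁻¹, mul_inv_cancel_right,
          inv_mul_cancel]
    have hmem : ∀ x : E, σ x * x ∈ _root_.commutator E := fun x => (hker _).2 (by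
      rw [map_mul]
      exact (hM ▸ mem_top x : x ∈ φ.ker))
    -- the derived group is central
    have hcent : _root_.commutator E ≤ center E := by
      haveI := IsZGroup.isCyclic_commutator (G := E)
      obtain ⟨⟨x₀, hx₀⟩, hgen⟩ := (inferInstance : IsCyclic (_root_.commutator E)).exists_generator
      have hgen' : ∀ x ∈ _root_.commutator E, ∃ j : ℤ, x = x₀ ^ j := fun x hx => by
        obtain ⟨j, hj⟩ := mem_zpowers_iff.1 (hgen ⟨x, hx⟩)
        exact ⟨j, by simpa using (congrArg Subtype.val hj).symm⟩
      have hσD : σ x₀ ∈ _root_.commutator E := by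
        simpa using mul_mem (hmem x₀) (inv_mem hx₀)
      obtain ⟨k, hk⟩ := hgen' _ hσD
      have hbij : Function.Bijective σ := Finite.injective_iff_bijective.1 hσ
      intro x hx
      rw [mem_center_iff]
      intro e
      have hfix : e * σ x₀ * e⁻¹ = σ x₀ := by
        obtain ⟨l, hl⟩ := hgen' _ ((inferInstance : (_root_.commutator E).Normal).conj_mem x₀ hx₀ e)
        have h1 : σ e * σ x₀ * (σ e)⁻¹ = x₀ ^ (k * l) := by
          rw [← map_inv, ← map_mul, ← map_mul, hl, map_zpow, hk, ← zpow_mul]
        have h2 : e * σ x₀ * e⁻¹ = x₀ ^ (k * l) := by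
          rw [hk, ← conj_zpow, hl, ← zpow_mul, mul_comm]
        obtain ⟨i, hi⟩ := hgen' _ (hmem e)
        have h3 : σ e = x₀ ^ i * e⁻¹ := by rw [← hi, mul_inv_cancel_right]
        have h4 : e⁻¹ * σ x₀ * e = x₀ ^ (k * l) := by
          rw [← h1, h3, hk]
          obtain ⟨m, hm⟩ := hgen' _ ((inferInstance : (_root_.commutator E).Normal).conj_mem _
            (zpow_mem hx₀ k) e⁻¹)
          rw [inv_inv] at hm
          rw [show x₀ ^ i * e⁻¹ * x₀ ^ k * (x₀ ^ i * e⁻¹)⁻¹ = x₀ ^ i * (e⁻¹ * x₀ ^ k * e) * (x₀ ^ i)⁻¹ by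
            group, hm]
          group
        have h5 : e * e * σ x₀ = σ x₀ * (e * e) := by
          calc e * e * σ x₀ = e * (e * σ x₀ * e⁻¹) * e := by group
            _ = e * (e⁻¹ * σ x₀ * e) * e := by rw [h2, h4]
            _ = σ x₀ * (e * e) := by group
        have h6 : e ∈ centralizer ({σ x₀} : Set E) :=
          (zpowers_le.2 (mem_centralizer_singleton_iff.2 h5)) (mem_zpowers_sq (hoddE e))
        rw [mem_centralizer_singleton_iff.1 h6, mul_inv_cancel_right]
      obtain ⟨x', rfl⟩ := hbij.2 x
      have hx' : x' ∈ _root_.commutator E := by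
        have h1 : (σ x')⁻¹ * (σ x' * x') ∈ _root_.commutator E := mul_mem (inv_mem hx) (hmem x')
        simpa using h1
      obtain ⟨j, rfl⟩ := hgen' x' hx'
      rw [map_zpow]
      exact mul_inv_eq_iff_eq_mul.1 (by rw [← conj_zpow, hfix])
    haveI : Group.IsNilpotent E :=
      Subgroup.isNilpotent_of_ker_le_center π (by rw [Abelianization.ker_of]; exact hcent)
    haveI : IsCyclic E := inferInstance
    refine ⟨inferInstance, fun h hh => ?_⟩
    have hbot : _root_.commutator E = ⊥ := by
      rw [_root_.commutator_def, Subgroup.commutator_eq_bot_iff_le_centralizer]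
      exact fun x _ => mem_centralizer_iff.2 fun y _ => mul_comm' y x
    have h1 := hmem ⟨h, hh⟩
    rw [hbot, mem_bot] at h1
    exact eq_inv_of_mul_eq_one_left (congrArg Subtype.val h1)
  obtain ⟨s₀, hs₀a, hs₀b⟩ := C.two hab (Ne.symm hab)
  haveI hcyc := (main s₀ hs₀a hs₀b).1
  refine ⟨hcyc, ?_, fun s hsa hsb => (main s hsa hsb).2⟩
  refine le_antisymm (fun c hc => ?_) fun x hx => mem_centralizer_iff.2 fun y hy =>
    congrArg Subtype.val (mul_comm' (⟨y, hy⟩ : E) ⟨x, hx⟩)
  have hcn : c ∈ normalizer ((E : Subgroup G) : Set G) :=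
    centralizer_le_normalizer _ hc
  rcases C.normalizer_pair hab le_rfl hne hcn with h | ⟨h1, h2⟩
  · exact h
  · exfalso
    obtain ⟨x, hx, hx1⟩ := (E.bot_or_exists_ne_one).resolve_left hne
    have h3 := (main c h1 h2).2 x hx
    rw [← mem_centralizer_iff.1 hc x hx, mul_inv_cancel_right] at h3
    refine hx1 (congrArg Subtype.val (eq_one_of_sq (hoddE ⟨x, hx⟩) (Subtype.ext ?_)))
    exact mul_eq_one_iff_eq_inv.2 h3

end Cfsg.Agent.Zassenhaus
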