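import Mathlib

/-! An abelian group acting fixed-point-freely with two orbits on the nontrivial elements of an
elementary abelian group is the group of squares acting on a finite field. -/

set_option autoImplicit false

namespace Cfsg.Agent.Zassenhaus

open Subgroup

variable {H F : Type*} [Group H] [Finite H] [CommGroup F] [Finite F]

/-- A stable subgroup other than the trivial one is everything. -/
theorem eq_top_of_stable (ψ : H →* MulAut F) (hfpf : ∀ h : H, h ≠ 1 → ∀ u : F, ψ h u = u → u = 1)
    (hd : 2 * Nat.card H + 1 = Nat.card F) (W : Subgroup F) (hW : W ≠ ⊥)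
    (hst : ∀ h : H, ∀ u ∈ W, ψ h u ∈ W) : W = ⊤ := by
  classical
  haveI := Fintype.ofFinite F
  letI : MulAction H {u : F // u ∈ W ∧ u ≠ 1} :=
    { smul := fun h u => ⟨ψ h u.1, hst h _ u.2.1,
        fun e => u.2.2 ((ψ h).injective (e.trans (map_one _).symm))⟩
      one_smul := fun u => Subtype.ext (by show ψ 1 u.1 = u.1; rw [map_one]; rfl)
      mul_smul := fun h k u => Subtype.ext (by
        show ψ (h * k) u.1 = ψ h (ψ k u.1); rw [map_mul]; rfl) }
  have hfree : ∀ u : {u : F // u ∈ W ∧ u ≠ 1}, MulAction.stabilizer H u = ⊥ := fun u => by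
    rw [eq_bot_iff]
    intro h hh
    rw [mem_bot]
    by_contra hne
    exact u.2.2 (hfpf h hne u.1 (congrArg Subtype.val (MulAction.mem_stabilizer_iff.1 hh)))
  have hdvd : Nat.card H ∣ Nat.card {u : F // u ∈ W ∧ u ≠ 1} := by
    haveI := Fintype.ofFinite (Quotient (MulAction.orbitRel H {u : F // u ∈ W ∧ u ≠ 1}))
    rw [Nat.card_congr (MulAction.selfEquivSigmaOrbitsQuotientStabilizer H
      {u : F // u ∈ W ∧ u ≠ 1}), Nat.card_sigma]
    refine Finset.dvd_sum fun x _ => dvd_of_eq ?_
    rw [← index_eq_card, hfree, index_bot]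
  have hsplit : Nat.card {u : F // u ∈ W ∧ u ≠ 1} + 1 = Nat.card W := by
    rw [Nat.card_eq_fintype_card, Nat.card_eq_fintype_card, Fintype.card_subtype,
      Fintype.card_subtype, ← Finset.card_erase_add_one (s := Finset.univ.filter (· ∈ W)) (a := 1)
        (by simp [W.one_mem])]
    congr 2
    ext u; simp [and_comm]
  obtain ⟨j, hj⟩ := hdvd
  have hWd := card_subgroup_dvd_card W
  have hW1 : 1 < Nat.card W := (one_lt_card_iff_ne_bot _).2 hW
  have hle := Nat.le_of_dvd Nat.card_pos hWd
  have hH : 0 < Nat.card H := Nat.card_pos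
  have hj2 : j ≤ 2 := by
    by_contra hlt
    have : Nat.card H * 3 ≤ Nat.card H * j := Nat.mul_le_mul_left _ (by omega)
    omega
  interval_cases j
  · omega
  · exfalso
    rw [← hsplit, hj, ← hd, Nat.mul_one] at hWd
    have h1 : Nat.card H + 1 ∣ Nat.card H := by
      have := Nat.dvd_sub hWd (dvd_refl (Nat.card H + 1))
      rwa [show 2 * Nat.card H + 1 - (Nat.card H + 1) = Nat.card H by omega] at this
    have := Nat.le_of_dvd hH h1
    omega
  · exact eq_top_of_card_eq W (by omega)

/-- The field model. -/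
theorem exists_field_model {p : ℕ} [hp : Fact p.Prime] (hF : IsPGroup p F) (ψ : H →* MulAut F)
    (hfpf : ∀ h : H, h ≠ 1 → ∀ u : F, ψ h u = u → u = 1) (hcomm : ∀ a b : H, a * b = b * a)
    (hd : 2 * Nat.card H + 1 = Nat.card F) :
    ∃ (K : Type) (_ : Field K) (_ : Fintype K) (_ : DecidableEq K) (e : Additive F ≃+ K) (μ : H →* K),
      Fintype.card K = Nat.card F ∧ Function.Injective μ ∧
      (∀ (h : H) (u : F), e (Additive.ofMul (ψ h u)) = μ h * e (Additive.ofMul u)) ∧
      (∀ x : K, x ≠ 0 → (IsSquare x ↔ ∃ h, μ h = x)) ∧ (∀ h, μ h ≠ 0) ∧ p ≠ 2 ∧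
      (Even (Nat.card H) → IsSquare (-1 : K)) := by
  classical
  haveI : Nontrivial F := Finite.one_lt_card_iff_nontrivial.1 (by
    have := Nat.card_pos (α := H); omega)
  obtain ⟨v, hv⟩ := exists_ne (1 : F)
  let Φ : H → AddMonoid.End (Additive F) := fun h => MonoidHom.toAdditive (ψ h).toMonoidHom
  have hΦ : ∀ h (u : Additive F), Φ h u = Additive.ofMul (ψ h u.toMul) := fun _ _ => rfl
  have hΦm : ∀ h k, Φ (h * k) = Φ h * Φ k := fun h k => AddMonoidHom.ext fun u => by
    show Φ (h * k) u = Φ h (Φ k u)
    rw [hΦ, hΦ, hΦ, map_mul]; rfl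
  let A : Subring (AddMonoid.End (Additive F)) := Subring.closure (Set.range Φ)
  letI : CommRing A := Subring.closureCommRingOfComm (by
    rintro _ ⟨h, rfl⟩ _ ⟨k, rfl⟩; rw [← hΦm, ← hΦm, hcomm])
  have hAcomm : ∀ θ ∈ A, ∀ h, θ * Φ h = Φ h * θ := fun θ hθ h =>
    congrArg Subtype.val (mul_comm (⟨θ, hθ⟩ : A) ⟨Φ h, Subring.subset_closure ⟨h, rfl⟩⟩)
  have hstab : ∀ θ ∈ A, (θ : AddMonoid.End (Additive F)) ≠ 0 →
      ∀ u : Additive F, θ u = 0 → u = 0 := by
    intro θ hθ hne u hu
    by_contra hu0
    apply hne
    let W : Subgroup F :=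
      { carrier := {w | θ (Additive.ofMul w) = 0}
        one_mem' := map_zero θ
        mul_mem' := fun {x y} hx hy => by
          show θ (Additive.ofMul (x * y)) = 0
          rw [ofMul_mul, map_add, show θ (Additive.ofMul x) = 0 from hx,
            show θ (Additive.ofMul y) = 0 from hy, add_zero]
        inv_mem' := fun {x} hx => by
          show θ (Additive.ofMul x⁻¹) = 0
          rw [ofMul_inv, map_neg, show θ (Additive.ofMul x) = 0 from hx, neg_zero] }
    have := eq_top_of_stable ψ hfpf hd W (fun e => hu0 (by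
      have : u.toMul ∈ W := hu
      rw [e, mem_bot] at this
      exact Additive.toMul.injective this)) fun h w hw => by
        show θ (Φ h (Additive.ofMul w)) = 0
        show (θ * Φ h) (Additive.ofMul w) = 0
        rw [hAcomm θ hθ h]
        show Φ h (θ (Additive.ofMul w)) = 0
        rw [show θ (Additive.ofMul w) = 0 from hw, map_zero]
    exact AddMonoidHom.ext fun w => this.ge (Subgroup.mem_top w.toMul)
  let ev : A →+ Additive F :=
    { toFun := fun θ => (θ : AddMonoid.End (Additive F)) (Additive.ofMul v)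
      map_zero' := rfl
      map_add' := fun _ _ => rfl }
  have hevi : Function.Injective ev := by
    rw [injective_iff_map_eq_zero]
    intro θ hθ
    by_contra hne
    exact hv (ofMul_eq_zero.1 (hstab θ θ.2 (fun e => hne (Subtype.ext e)) _ hθ))
  have hevs : Function.Surjective ev := by
    let W : Subgroup F :=
      { carrier := {w | Additive.ofMul w ∈ ev.range}
        one_mem' := ev.range.zero_mem
        mul_mem' := fun {x y} hx hy => ev.range.add_mem hx hy
        inv_mem' := fun {x} hx => ev.range.neg_mem hx }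
    have := eq_top_of_stable ψ hfpf hd W (fun e => hv (by
      have : v ∈ W := ⟨1, rfl⟩
      rwa [e, mem_bot] at this)) fun h w hw => by
        obtain ⟨θ, hθ⟩ := hw
        refine ⟨⟨Φ h, Subring.subset_closure ⟨h, rfl⟩⟩ * θ, ?_⟩
        show Φ h ((θ : AddMonoid.End (Additive F)) (Additive.ofMul v)) = _
        rw [show (θ : AddMonoid.End (Additive F)) (Additive.ofMul v) = Additive.ofMul w from hθ]
        rfl
    intro u
    exact this.ge (Subgroup.mem_top u.toMul)
  let evE : A ≃+ Additive F := AddEquiv.ofBijective ev ⟨hevi, hevs⟩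
  haveI : Finite A := Finite.of_equiv _ evE.symm.toEquiv
  haveI := Fintype.ofFinite A
  haveI : Nontrivial A := evE.toEquiv.nontrivial
  haveI : NoZeroDivisors A := ⟨fun {x y} hxy => by
    by_contra hc
    rw [not_or] at hc
    apply hc.2
    apply hevi
    rw [map_zero]
    refine hstab x x.2 (fun e => hc.1 (Subtype.ext e)) _ ?_
    exact DFunLike.congr_fun (congrArg Subtype.val hxy) (Additive.ofMul v)⟩
  haveI : IsDomain A := NoZeroDivisors.to_isDomain A
  letI : Field A := Fintype.fieldOfDomain A
  obtain ⟨f, hf⟩ := IsPGroup.iff_card.1 hF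
  have hf0 : f ≠ 0 := by
    rintro rfl
    rw [pow_zero] at hf
    have := Nat.card_pos (α := H); omega
  haveI : Fintype (GaloisField p f) := Fintype.ofFinite _
  have hcardA : Fintype.card A = p ^ f := by
    rw [← Nat.card_eq_fintype_card, ← hf, Nat.card_congr evE.toEquiv]
    exact Nat.card_congr Additive.toMul
  have hcardK : Fintype.card (GaloisField p f) = p ^ f := by
    rw [← Nat.card_eq_fintype_card, GaloisField.card p f hf0]
  let iso : A ≃+* GaloisField p f := FiniteField.ringEquivOfCardEq (hcardA.trans hcardK.symm)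
  let e : Additive F ≃+ GaloisField p f := evE.symm.trans iso.toAddEquiv
  let μ : H →* GaloisField p f :=
    { toFun := fun h => iso ⟨Φ h, Subring.subset_closure ⟨h, rfl⟩⟩
      map_one' := by
        rw [← map_one iso]; congr 1; apply Subtype.ext
        exact AddMonoidHom.ext fun u => by show Φ 1 u = u; rw [hΦ, map_one]; rfl
      map_mul' := fun h k => by
        rw [← map_mul iso]; congr 1; exact Subtype.ext (hΦm h k) }
  have hμ : ∀ (h : H) (u : F), e (Additive.ofMul (ψ h u)) = μ h * e (Additive.ofMul u) := by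
    intro h u
    show iso (evE.symm _) = iso _ * iso (evE.symm _)
    rw [← map_mul]; congr 1
    apply evE.injective
    rw [AddEquiv.apply_symm_apply]
    show _ = Φ h (evE (evE.symm (Additive.ofMul u)))
    rw [AddEquiv.apply_symm_apply]; rfl
  have hinj : Function.Injective μ := fun h k hk => by
    have h1 := congrArg Subtype.val (iso.injective hk)
    by_contra hne
    refine hv (hfpf (k⁻¹ * h) (fun e => hne (eq_of_inv_mul_eq_one e).symm) v ?_)
    have h2 : ψ h v = ψ k v := congrArg Additive.toMul (DFunLike.congr_fun h1 (Additive.ofMul v))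
    rw [map_mul, MulAut.mul_apply, h2, ← MulAut.mul_apply, ← map_mul, inv_mul_cancel, map_one]; rfl
  have hne0 : ∀ h, μ h ≠ 0 := fun h e0 => by
    have := map_mul μ h h⁻¹
    rw [mul_inv_cancel, map_one, e0, zero_mul] at this
    exact one_ne_zero this
  have hq : Fintype.card (GaloisField p f) = 2 * Nat.card H + 1 := by rw [hcardK, ← hf, hd]
  have hchar : ringChar (GaloisField p f) ≠ 2 := fun hc => by
    have := FiniteField.even_card_of_char_two hc
    omega
  refine ⟨GaloisField p f, inferInstance, inferInstance, Classical.decEq _, e, μ,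
    by rw [hcardK, hf], hinj, hμ, ?_, hne0, ?_, ?_⟩
  · intro x hx
    rw [FiniteField.isSquare_iff hchar hx, hq, show (2 * Nat.card H + 1) / 2 = Nat.card H by omega]
    constructor
    · intro hxd
      haveI := Fintype.ofFinite H
      set S := (Polynomial.nthRoots (Nat.card H) (1 : GaloisField p f)).toFinset
      have hsub : (Finset.univ.image μ) ⊆ S := fun y hy => by
        obtain ⟨h, -, rfl⟩ := Finset.mem_image.1 hy
        rw [Multiset.mem_toFinset, Polynomial.mem_nthRoots Nat.card_pos, ← map_pow, pow_card_eq_one',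
          map_one]
      have hle : S.card ≤ (Finset.univ.image μ).card := by
        rw [Finset.card_image_of_injective _ hinj, Finset.card_univ, ← Nat.card_eq_fintype_card]
        exact (Multiset.toFinset_card_le _).trans (Polynomial.card_nthRoots _ _)
      have hxS : x ∈ S := by rw [Multiset.mem_toFinset, Polynomial.mem_nthRoots Nat.card_pos]; exact hxd
      rw [← Finset.eq_of_subset_of_card_le hsub hle] at hxS
      obtain ⟨h, -, hh⟩ := Finset.mem_image.1 hxS
      exact ⟨h, hh⟩
    · rintro ⟨h, rfl⟩
      rw [← map_pow, pow_card_eq_one', map_one]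
  · rintro rfl
    have : 2 ∣ 2 ^ f := dvd_pow_self 2 hf0
    rw [← hf] at this
    omega
  · intro hev
    rw [FiniteField.isSquare_neg_one_iff, hq]
    obtain ⟨k, hk⟩ := hev
    omega

end Cfsg.Agent.Zassenhaus
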