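import Mathlib

/-! The action of `SL(2, K)` on the projective line by Möbius transformations. -/

set_option autoImplicit false

namespace Cfsg.Agent.Zassenhaus.Mobius

open OnePoint

variable (K : Type*) [Field K] [DecidableEq K]

/-- The permutation representation of `SL(2, K)` on `OnePoint K`. -/
noncomputable def rep : Matrix.SpecialLinearGroup (Fin 2) K →* Equiv.Perm (OnePoint K) :=
  (MulAction.toPermHom (GL (Fin 2) K) (OnePoint K)).comp Matrix.SpecialLinearGroup.toGL

variable {K}

theorem rep_infty (M : Matrix.SpecialLinearGroup (Fin 2) K) :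
    rep K M (∞ : OnePoint K) = if M.1 1 0 = 0 then ∞ else ((M.1 0 0 / M.1 1 0 : K) : OnePoint K) := by
  show Matrix.SpecialLinearGroup.toGL M • (∞ : OnePoint K) = _
  rw [smul_infty_eq_ite]
  rfl

theorem rep_coe (M : Matrix.SpecialLinearGroup (Fin 2) K) (z : K) :
    rep K M (z : OnePoint K) = if M.1 1 0 * z + M.1 1 1 = 0 then ∞
      else (((M.1 0 0 * z + M.1 0 1) / (M.1 1 0 * z + M.1 1 1) : K) : OnePoint K) := by
  show Matrix.SpecialLinearGroup.toGL M • (z : OnePoint K) = _
  rw [smul_some_eq_ite]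
  rfl

/-- A translation. -/
def trans (c : K) : Matrix.SpecialLinearGroup (Fin 2) K :=
  ⟨!![1, c; 0, 1], by simp [Matrix.det_fin_two_of]⟩

/-- A dilation. -/
def dil (l : K) (hl : l ≠ 0) : Matrix.SpecialLinearGroup (Fin 2) K :=
  ⟨!![l, 0; 0, l⁻¹], by simp [Matrix.det_fin_two_of, hl]⟩

/-- The inversion, for a square root `i` of `-1`. -/
def inv (i : K) (hi : i * i = -1) : Matrix.SpecialLinearGroup (Fin 2) K :=
  ⟨!![0, i; i, 0], by rw [Matrix.det_fin_two_of]; rw [hi]; ring⟩

theorem trans_infty (c : K) : rep K (trans c) (∞ : OnePoint K) = ∞ := by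
  rw [rep_infty]; simp [trans]

theorem trans_coe (c z : K) : rep K (trans c) (z : OnePoint K) = ((z + c : K) : OnePoint K) := by
  rw [rep_coe]; simp [trans]

theorem dil_infty (l : K) (hl : l ≠ 0) : rep K (dil l hl) (∞ : OnePoint K) = ∞ := by
  rw [rep_infty]; simp [dil]

theorem dil_coe (l : K) (hl : l ≠ 0) (z : K) :
    rep K (dil l hl) (z : OnePoint K) = ((l * l * z : K) : OnePoint K) := by
  rw [rep_coe]
  simp only [dil, Matrix.of_apply, Matrix.cons_val', Matrix.cons_val_zero, Matrix.cons_val_one,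
    Matrix.cons_val_fin_one, zero_mul, zero_add, add_zero]
  rw [if_neg (inv_ne_zero hl), div_inv_eq_mul]
  congr 1; ring

theorem inv_infty (i : K) (hi : i * i = -1) :
    rep K (inv i hi) (∞ : OnePoint K) = ((0 : K) : OnePoint K) := by
  have h0 : i ≠ 0 := fun e => by rw [e, zero_mul] at hi; exact one_ne_zero (neg_eq_zero.1 hi.symm)
  rw [rep_infty]; simp [inv, h0]

theorem inv_zero (i : K) (hi : i * i = -1) :
    rep K (inv i hi) ((0 : K) : OnePoint K) = ∞ := by
  rw [rep_coe]; simp [inv]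

theorem inv_coe (i : K) (hi : i * i = -1) {z : K} (hz : z ≠ 0) :
    rep K (inv i hi) (z : OnePoint K) = ((z⁻¹ : K) : OnePoint K) := by
  have h0 : i ≠ 0 := fun e => by rw [e, zero_mul] at hi; exact one_ne_zero (neg_eq_zero.1 hi.symm)
  rw [rep_coe]; simp [inv, h0, hz, div_eq_mul_inv, mul_inv_rev, mul_comm]

/-- The stabiliser of infinity: translations times dilations. -/
theorem eq_of_fix_infty (M : Matrix.SpecialLinearGroup (Fin 2) K) (h : rep K M (∞ : OnePoint K) = ∞) :
    ∃ (c l : K) (hl : l ≠ 0), M = trans c * dil l hl := by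
  have h10 : M.1 1 0 = 0 := by
    rw [rep_infty] at h
    by_contra hne
    rw [if_neg hne] at h
    exact coe_ne_infty _ h
  have hdet := M.2
  rw [Matrix.det_fin_two, h10, mul_zero, sub_zero] at hdet
  have hl : M.1 0 0 ≠ 0 := left_ne_zero_of_mul_eq_one hdet
  refine ⟨M.1 0 1 * M.1 0 0, M.1 0 0, hl, Subtype.ext ?_⟩
  have h11 : M.1 1 1 = (M.1 0 0)⁻¹ := eq_inv_of_mul_eq_one_right hdet
  show M.1 = (trans (M.1 0 1 * M.1 0 0)).1 * (dil (M.1 0 0) hl).1
  ext i j
  fin_cases i <;> fin_cases j <;>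
    simp [trans, dil, Matrix.SpecialLinearGroup.coe_mul, Matrix.mul_apply, Fin.sum_univ_two, h10, h11, hl, mul_assoc]

theorem ker_rep : (rep K).ker = Subgroup.center (Matrix.SpecialLinearGroup (Fin 2) K) := by
  ext M
  rw [MonoidHom.mem_ker, Matrix.SpecialLinearGroup.mem_center_iff]
  constructor
  · intro h
    have hi : rep K M (∞ : OnePoint K) = ∞ := by rw [h]; rfl
    obtain ⟨c, l, hl, rfl⟩ := eq_of_fix_infty M hi
    have h0 : rep K (trans c * dil l hl) ((0 : K) : OnePoint K) = ((0 : K) : OnePoint K) := by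
      rw [h]; rfl
    have h1 : rep K (trans c * dil l hl) ((1 : K) : OnePoint K) = ((1 : K) : OnePoint K) := by
      rw [h]; rfl
    rw [map_mul, Equiv.Perm.mul_apply, dil_coe, trans_coe, coe_eq_coe, mul_zero, zero_add] at h0
    rw [map_mul, Equiv.Perm.mul_apply, dil_coe, trans_coe, coe_eq_coe, mul_one, h0, add_zero] at h1
    refine ⟨l, by rw [Fintype.card_fin, pow_two, h1], ?_⟩
    have hli : l⁻¹ = l := inv_eq_of_mul_eq_one_right h1
    show Matrix.scalar (Fin 2) l = (trans c).1 * (dil l hl).1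
    ext i j
    fin_cases i <;> fin_cases j <;> simp [trans, dil, Matrix.SpecialLinearGroup.coe_mul, Matrix.mul_apply, Fin.sum_univ_two, h0, hli]
  · rintro ⟨r, hr, hM⟩
    have hr0 : r ≠ 0 := fun e => by simp [e] at hr
    have e : ∀ i j, M.1 i j = Matrix.scalar (Fin 2) r i j := fun i j => by rw [hM]
    refine Equiv.ext fun z => ?_
    show rep K M z = z
    induction z using OnePoint.rec with
    | infty => rw [rep_infty, e 1 0]; simp
    | coe z =>
      rw [rep_coe, e 0 0, e 0 1, e 1 0, e 1 1]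
      simp [hr0]

end Cfsg.Agent.Zassenhaus.Mobius
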