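import Cfsg.Agent.Zassenhaus.Swap
import Cfsg.Agent.Zassenhaus.FieldModel
import Cfsg.Agent.Zassenhaus.Mobius

/-! Zassenhaus groups with two-point stabilisers of even order `d = (n-1)/2` are `PSL(2, n)`. -/

set_option autoImplicit false

namespace Cfsg.Agent.Zassenhaus

open Subgroup MulAction

variable {G Ω : Type*} [Group G] [MulAction G Ω]

/-- Every element swapping two points is an involution with a fixed point. -/
theorem ZCtx.swapper_spec [Finite G] [Finite Ω] (C : ZCtx G Ω) (h3 : 3 ≤ Nat.card Ω) {a b : Ω}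
    (hab : a ≠ b) (hd : 2 * Nat.card (twoPt G a b) + 2 = Nat.card Ω)
    (heven : Even (Nat.card (twoPt G a b))) {g : G} (hga : g • a = b) (hgb : g • b = a) :
    g * g = 1 ∧ ∃ x : Ω, g • x = x := by
  classical
  haveI := Fintype.ofFinite Ω
  haveI := Fintype.ofFinite G
  haveI : Fact (Nat.Prime 2) := ⟨Nat.prime_two⟩
  obtain ⟨t, ht⟩ := exists_prime_orderOf_dvd_card' 2 (even_iff_two_dvd.1 heven)
  have ht' : (t : G) * t = 1 ∧ (t : G) ≠ 1 := by
    constructor
    · rw [← pow_two, ← ht, ← Subgroup.coe_pow, pow_orderOf_eq_one]; rfl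
    · intro e
      rw [show t = 1 from Subtype.ext e, orderOf_one] at ht
      norm_num at ht
  let T : Finset G := Finset.univ.filter fun g => (g * g = 1 ∧ g ≠ 1) ∧ ∃ x y : Ω, x ≠ y ∧ g • x = x ∧ g • y = y
  let P : Finset (Ω × Ω) := Finset.univ.filter fun q => q.1 ≠ q.2
  let S : Ω × Ω → Finset G := fun q => Finset.univ.filter fun g => g • q.1 = q.2 ∧ g • q.2 = q.1
  let Fp : G → Finset (Ω × Ω) := fun g => P.filter fun q => g • q.1 = q.1 ∧ g • q.2 = q.2
  let Sp : G → Finset (Ω × Ω) := fun g => P.filter fun q => g • q.1 = q.2 ∧ g • q.2 = q.1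
  set N := Nat.card Ω with hN
  set d := Nat.card (twoPt G a b) with hdd
  -- at most `d` elements swap a given pair
  have hS : ∀ q ∈ P, (S q).card ≤ d := by
    rintro ⟨x, y⟩ hq
    have hxy : x ≠ y := (Finset.mem_filter.1 hq).2
    obtain ⟨k, hk1, hk2⟩ := C.two hab hxy
    rcases (S (x, y)).eq_empty_or_nonempty with he | ⟨g₀, hg₀⟩
    · simp [he]
    obtain ⟨-, h01, h02⟩ := Finset.mem_filter.1 hg₀
    rw [hdd, Nat.card_eq_fintype_card, ← Finset.card_univ]
    have hmem : ∀ g ∈ S (x, y), k⁻¹ * (g₀⁻¹ * g) * k ∈ twoPt G a b := by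
      intro g hg
      obtain ⟨-, h1, h2⟩ := Finset.mem_filter.1 hg
      constructor
      · show (k⁻¹ * (g₀⁻¹ * g) * k) • a = a
        rw [mul_smul, mul_smul, mul_smul, hk1, h1, show g₀⁻¹ • y = x from inv_smul_eq_iff.2 h01.symm,
          inv_smul_eq_iff, hk1]
      · show (k⁻¹ * (g₀⁻¹ * g) * k) • b = b
        rw [mul_smul, mul_smul, mul_smul, hk2, h2, show g₀⁻¹ • x = y from inv_smul_eq_iff.2 h02.symm,
          inv_smul_eq_iff, hk2]
    refine Finset.card_le_card_of_injOn (fun g => if hg : g ∈ S (x, y) then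
      (⟨_, hmem g hg⟩ : twoPt G a b) else 1) (fun _ _ => by simp) ?_
    intro g hg g' hg' e
    simp only [Finset.mem_coe] at hg hg'
    simp only [dif_pos hg, dif_pos hg', Subtype.mk.injEq] at e
    exact mul_left_cancel (mul_left_cancel (mul_right_cancel e))
  have hfix2 : ∀ g ∈ T, (Finset.univ.filter fun z : Ω => g • z = z).card = 2 := by
    intro g hg
    obtain ⟨⟨hg2, hg1⟩, x, y, hxy, hx, hy⟩ := (Finset.mem_filter.1 hg).2
    refine le_antisymm ?_ (Finset.one_lt_card.2 ⟨x, by simp [hx], y, by simp [hy], hxy⟩)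
    rw [← not_lt, Finset.two_lt_card_iff]
    rintro ⟨u, v, w, hu, hv, hw, huv, huw, hvw⟩
    exact hg1 (C.three g u v w huv hvw huw (Finset.mem_filter.1 hu).2 (Finset.mem_filter.1 hv).2
      (Finset.mem_filter.1 hw).2)
  have hFp : ∀ g ∈ T, (Fp g).card = 2 := by
    intro g hg
    obtain ⟨u, v, huv, huv'⟩ := Finset.card_eq_two.1 (hfix2 g hg)
    have : Fp g = {(u, v), (v, u)} := by
      ext ⟨x, y⟩
      have hx := Finset.ext_iff.1 huv' x
      have hy := Finset.ext_iff.1 huv' y
      simp only [Finset.mem_filter, Finset.mem_univ, true_and, Finset.mem_insert,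
        Finset.mem_singleton] at hx hy
      simp only [Fp, P, Finset.mem_filter, Finset.mem_univ, true_and, Finset.mem_insert,
        Finset.mem_singleton, Prod.mk.injEq, hx, hy]
      constructor
      · rintro ⟨hne, rfl | rfl, rfl | rfl⟩ <;> simp_all
      · rintro (⟨rfl, rfl⟩ | ⟨rfl, rfl⟩)
        · exact ⟨huv, Or.inl rfl, Or.inr rfl⟩
        · exact ⟨huv.symm, Or.inr rfl, Or.inl rfl⟩
    rw [this, Finset.card_pair]
    simp [huv]
  have hSp : ∀ g ∈ T, (Sp g).card = N - 2 := by
    intro g hg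
    have hg2 := (Finset.mem_filter.1 hg).2.1.1
    have hinv : ∀ x : Ω, g • g • x = x := fun x => by rw [← mul_smul, hg2, one_smul]
    have h1 := Finset.card_filter_add_card_filter_not (s := (Finset.univ : Finset Ω))
      (fun z => g • z = z)
    rw [hfix2 g hg, Finset.card_univ, ← Nat.card_eq_fintype_card, ← hN] at h1
    rw [show N - 2 = (Finset.univ.filter fun z : Ω => ¬ g • z = z).card by omega]
    refine Finset.card_bij (fun q _ => q.1) ?_ ?_ ?_
    · rintro ⟨x, y⟩ hq
      obtain ⟨hP, e1, e2⟩ := Finset.mem_filter.1 hq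
      exact Finset.mem_filter.2 ⟨Finset.mem_univ _, fun e => (Finset.mem_filter.1 hP).2
        (e.symm.trans e1)⟩
    · rintro ⟨x, y⟩ hq ⟨x', y'⟩ hq' (rfl : x = x')
      obtain ⟨-, e1, -⟩ := Finset.mem_filter.1 hq
      obtain ⟨-, e1', -⟩ := Finset.mem_filter.1 hq'
      exact Prod.ext rfl (e1.symm.trans e1')
    · intro x hx
      exact ⟨(x, g • x), Finset.mem_filter.2 ⟨Finset.mem_filter.2 ⟨Finset.mem_univ _,
        fun e => (Finset.mem_filter.1 hx).2 e.symm⟩, rfl, hinv x⟩, rfl⟩
  -- incidences with fixed pairs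
  have hlow : P.card ≤ 2 * T.card := by
    have e1 : (T.sigma Fp).card = 2 * T.card := by
      rw [Finset.card_sigma, Finset.sum_const_nat hFp, mul_comm]
    rw [← e1]
    refine Finset.card_le_card_of_surjOn (fun u => u.2) ?_
    rintro ⟨x, y⟩ hq
    have hxy : x ≠ y := (Finset.mem_filter.1 hq).2
    obtain ⟨k, hk1, hk2⟩ := C.two hab hxy
    have hx : (k * (t : G) * k⁻¹) • x = x := by
      rw [← hk1, mul_smul, mul_smul, inv_smul_smul, show (t : G) • a = a from t.2.1]
    have hy : (k * (t : G) * k⁻¹) • y = y := by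
      rw [← hk2, mul_smul, mul_smul, inv_smul_smul, show (t : G) • b = b from t.2.2]
    refine ⟨⟨k * (t : G) * k⁻¹, (x, y)⟩, Finset.mem_sigma.2 ⟨Finset.mem_filter.2 ⟨Finset.mem_univ _,
      ⟨?_, ?_⟩, x, y, hxy, hx, hy⟩, Finset.mem_filter.2 ⟨hq, hx, hy⟩⟩, rfl⟩
    · calc k * (t : G) * k⁻¹ * (k * (t : G) * k⁻¹) = k * ((t : G) * t) * k⁻¹ := by group
        _ = 1 := by rw [ht'.1]; group
    · intro e; exact ht'.2 (conj_eq_one_iff.1 e)
  have hswap : ∀ q ∈ P, ∀ g ∈ S q, g ∈ T := by
    by_contra hc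
    push Not at hc
    obtain ⟨q₀, hq₀, g₀, hg₀, hg₀T⟩ := hc
    have e2 : ∑ q ∈ P, (T.filter fun g => g • q.1 = q.2 ∧ g • q.2 = q.1).card = (N - 2) * T.card := by
      calc ∑ q ∈ P, (T.filter fun g => g • q.1 = q.2 ∧ g • q.2 = q.1).card
          = ∑ g ∈ T, (Sp g).card :=
            (Finset.sum_card_bipartiteAbove_eq_sum_card_bipartiteBelow
              (r := fun (g : G) (q : Ω × Ω) => g • q.1 = q.2 ∧ g • q.2 = q.1) (s := T) (t := P)).symm
        _ = (N - 2) * T.card := ?_
      rw [Finset.sum_const_nat hSp, mul_comm]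
    have hlt : ∑ q ∈ P, (T.filter fun g => g • q.1 = q.2 ∧ g • q.2 = q.1).card < ∑ _q ∈ P, d := by
      refine Finset.sum_lt_sum (fun q hq => le_trans (Finset.card_le_card ?_) (hS q hq))
        ⟨q₀, hq₀, lt_of_lt_of_le (Finset.card_lt_card ?_) (hS q₀ hq₀)⟩
      · intro g hg
        exact Finset.mem_filter.2 ⟨Finset.mem_univ _, (Finset.mem_filter.1 hg).2⟩
      · rw [Finset.ssubset_iff_of_subset (fun g hg =>
          Finset.mem_filter.2 ⟨Finset.mem_univ _, (Finset.mem_filter.1 hg).2⟩)]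
        exact ⟨g₀, hg₀, fun hh => hg₀T (Finset.mem_filter.1 hh).1⟩
    rw [e2, Finset.sum_const, smul_eq_mul] at hlt
    have : P.card * d ≤ 2 * T.card * d := Nat.mul_le_mul_right d hlow
    rw [show N - 2 = 2 * d by omega, Nat.mul_right_comm] at hlt
    omega
  have hT : g ∈ T := hswap (a, b) (Finset.mem_filter.2 ⟨Finset.mem_univ _, hab⟩) g
    (Finset.mem_filter.2 ⟨Finset.mem_univ _, hga, hgb⟩)
  obtain ⟨⟨h2, -⟩, x, -, -, hx, -⟩ := (Finset.mem_filter.1 hT).2
  exact ⟨h2, x, hx⟩

/-- The identification. -/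
theorem ZCtx.identify [Finite G] [Finite Ω] (C : ZCtx G Ω) (h3 : 3 ≤ Nat.card Ω) {a b : Ω}
    (hab : a ≠ b) (heven : Even (Nat.card (twoPt G a b)))
    (hd : 2 * Nat.card (twoPt G a b) + 2 = Nat.card Ω) :
    ∃ (p f : ℕ) (K : Type) (_ : Field K) (_ : Fintype K), p.Prime ∧ p ≠ 2 ∧ Fintype.card K = p ^ f ∧
      Nat.card Ω = p ^ f + 1 ∧ Nonempty (G ≃* Matrix.ProjectiveSpecialLinearGroup (Fin 2) K) := by
  classical
  have hH1 : twoPt G a b ≠ ⊥ := fun e => by
    rw [e, card_bot] at heven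
    exact absurd heven Nat.not_even_one
  obtain ⟨F, hF⟩ := C.exists_kernel h3 hab hH1
  have hn := hF.card_eq hab
  obtain ⟨hcommF, p, hp, hpg, -⟩ := hF.elementary C hab h3 (by omega)
  haveI := Fact.mk hp
  haveI := hcommF
  letI : CommGroup F := { (inferInstance : Group F) with mul_comm := mul_comm' }
  -- any swapper inverts the two-point stabiliser
  obtain ⟨s₀, hs₀a, hs₀b⟩ := C.two hab (Ne.symm hab)
  have hswap : ∀ g : G, g • a = b → g • b = a → ∀ k ∈ twoPt G a b, g * k = k⁻¹ * g := by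
    intro g hga hgb k hk
    have h1 := (C.swapper_spec h3 hab hd heven hga hgb).1
    have h2 := (C.swapper_spec h3 hab hd heven (g := k * g)
      (by rw [mul_smul, hga]; exact hk.2) (by rw [mul_smul, hgb]; exact hk.1)).1
    calc g * k = k⁻¹ * ((k * g) * (k * g)) * g⁻¹ := by group
      _ = k⁻¹ * g := by rw [h2, mul_one, inv_eq_of_mul_eq_one_right h1]
  have hHcomm : ∀ h k : twoPt G a b, h * k = k * h := by
    intro h k
    apply Subtype.ext
    have e1 := hswap s₀ hs₀a hs₀b _ (mul_mem h.2 k.2)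
    have e2 : s₀ * ((h : G) * k) = ((h : G)⁻¹ * (k : G)⁻¹) * s₀ := by
      rw [← mul_assoc, hswap s₀ hs₀a hs₀b _ h.2, mul_assoc, hswap s₀ hs₀a hs₀b _ k.2, ← mul_assoc]
    have e3 : ((h : G) * k)⁻¹ = (h : G)⁻¹ * (k : G)⁻¹ := mul_right_cancel (e1.symm.trans e2)
    have e4 := congrArg (·⁻¹) e3
    simpa using e4
  obtain ⟨K, iK, iFK, iD, e, μ, hcard, hinj, hμ, hsq, hne0, hp2, hm1⟩ :=
    exists_field_model hpg hF.act (hF.act_fpf C hab) hHcomm (by omega)
  obtain ⟨f, hf⟩ := IsPGroup.iff_card.1 hpg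
  refine ⟨p, f, K, iK, iFK, hp, hp2, hcard.trans hf, by rw [← hn, hf], ?_⟩
  -- coordinates
  let Tr : K → G := fun c => (((e.symm c).toMul : F) : G)
  let pt : K → Ω := fun x => Tr x • b
  have hTrF : ∀ c, Tr c ∈ F := fun c => ((e.symm c).toMul : F).2
  have hTr_add : ∀ c d, Tr (c + d) = Tr c * Tr d := fun c d => by
    simp only [Tr, map_add, toMul_add, Subgroup.coe_mul]
  have hTr0 : Tr 0 = 1 := by simp only [Tr, map_zero, toMul_zero, OneMemClass.coe_one]
  have hTra : ∀ c, Tr c • a = a := fun c => hF.fix _ (hTrF c)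
  have hTrpt : ∀ c x, Tr c • pt x = pt (x + c) := fun c x => by
    show Tr c • Tr x • b = Tr (x + c) • b
    rw [← mul_smul, ← hTr_add, add_comm]
  have hpt0 : pt 0 = b := by show Tr 0 • b = b; rw [hTr0, one_smul]
  have hTrb : ∀ c, Tr c • b = pt c := fun _ => rfl
  have hptne : ∀ x, pt x ≠ a := fun x => hF.smul_ne (hTrF x) (Ne.symm hab)
  have hptinj : Function.Injective pt := fun x y h =>
    e.symm.injective (Additive.toMul.injective (Subtype.ext
      (hF.eq_of_smul (hTrF x) (hTrF y) (Ne.symm hab) h)))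
  have hptsurj : ∀ z : Ω, z ≠ a → ∃ x, pt x = z := fun z hz => by
    obtain ⟨u, hu, -⟩ := hF.reg b z (Ne.symm hab) hz
    refine ⟨e (Additive.ofMul u), ?_⟩
    show (((e.symm (e (Additive.ofMul u))).toMul : F) : G) • b = z
    rw [AddEquiv.symm_apply_apply]; exact hu
  have hHpt : ∀ (h : twoPt G a b) x, (h : G) • pt x = pt (μ h * x) := fun h x => by
    show (h : G) • (((e.symm x).toMul : F) : G) • b = (((e.symm (μ h * x)).toMul : F) : G) • b
    rw [← hF.act_smul]
    have : (e.symm (μ h * x)) = Additive.ofMul (hF.act h (e.symm x).toMul) := by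
      rw [AddEquiv.symm_apply_eq, hμ, ofMul_toMul, AddEquiv.apply_symm_apply]
    rw [this, toMul_ofMul]
  have hμinv : ∀ k, μ k⁻¹ = (μ k)⁻¹ := fun k =>
    eq_inv_of_mul_eq_one_right (by rw [← map_mul, mul_inv_cancel, map_one])
  -- a normalised swapper
  obtain ⟨s, hsa, hsb, hs1⟩ : ∃ s : G, s • a = b ∧ s • b = a ∧ s • pt 1 = pt 1 := by
    obtain ⟨hss, z, hz⟩ := C.swapper_spec h3 hab hd heven hs₀a hs₀b
    have hz1 : z ≠ a := fun h => hab (by rw [h, hs₀a] at hz; exact hz.symm)
    obtain ⟨x, rfl⟩ := hptsurj z hz1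
    have hx0 : x ≠ 0 := fun h => hab (by rw [h, hpt0, hs₀b] at hz; exact hz)
    obtain ⟨k₀, hk₀⟩ : ∃ k₀, pt k₀ = s₀ • pt 1 := hptsurj _ fun h => by
      have h' : s₀ • pt 1 = s₀ • b := h.trans hs₀b.symm
      rw [← hpt0] at h'
      exact one_ne_zero (hptinj (MulAction.injective s₀ h'))
    have hk0 : k₀ ≠ 0 := fun h => by
      rw [h, hpt0] at hk₀
      exact hptne 1 (MulAction.injective s₀ (hk₀.symm.trans hs₀a.symm))
    have hsquare : ∀ k : twoPt G a b, s₀ • pt (μ k) = pt ((μ k)⁻¹ * k₀) := fun k => by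
      rw [show μ k = μ k * 1 from (mul_one _).symm, ← hHpt, ← mul_smul,
        hswap s₀ hs₀a hs₀b _ k.2, mul_smul, ← hk₀,
        show ((k : G)⁻¹) = ((k⁻¹ : twoPt G a b) : G) from rfl, hHpt, hμinv, mul_one]
    have hksq : IsSquare k₀ := by
      by_contra hns
      by_cases hxs : IsSquare x
      · obtain ⟨k, rfl⟩ := (hsq x hx0).1 hxs
        rw [hsquare] at hz
        apply hns
        refine ⟨μ k, ?_⟩
        have := hptinj hz
        rwa [inv_mul_eq_iff_eq_mul₀ (hne0 k)] at this
      · have hchar : ringChar K ≠ 2 := fun hc => by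
          have := FiniteField.even_card_of_char_two hc
          omega
        have hzs : IsSquare (k₀ / x) := by
          rw [div_eq_mul_inv]
          rw [FiniteField.isSquare_iff hchar hk0] at hns
          rw [FiniteField.isSquare_iff hchar hx0] at hxs
          rw [FiniteField.isSquare_iff hchar (mul_ne_zero hk0 (inv_ne_zero hx0)), mul_pow, inv_pow]
          rw [(FiniteField.pow_dichotomy hchar hk0).resolve_left hns,
            (FiniteField.pow_dichotomy hchar hx0).resolve_left hxs]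
          norm_num
        obtain ⟨k, hk⟩ := (hsq _ (div_ne_zero hk0 hx0)).1 hzs
        have h1 := hsquare k
        rw [show (μ k)⁻¹ * k₀ = x by rw [hk, inv_div, div_mul_cancel₀ _ hk0]] at h1
        have h2 : pt (μ k) = pt x := MulAction.injective s₀ (h1.trans hz.symm)
        exact hxs ((hsq x hx0).2 ⟨k, hptinj h2⟩)
    obtain ⟨k, hk⟩ := (hsq k₀ hk0).1 hksq
    refine ⟨((k⁻¹ : twoPt G a b) : G) * s₀, ?_, ?_, ?_⟩
    · rw [mul_smul, hs₀a]; exact (k⁻¹ : twoPt G a b).2.2
    · rw [mul_smul, hs₀b]; exact (k⁻¹ : twoPt G a b).2.1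
    · rw [mul_smul, ← hk₀, hHpt, hμinv, hk, inv_mul_cancel₀ hk0]
  have hss : s * s = 1 := (C.swapper_spec h3 hab hd heven hsa hsb).1
  have hsk : ∀ k : twoPt G a b, s * (k : G) = ((k⁻¹ : twoPt G a b) : G) * s := fun k =>
    hswap s hsa hsb _ k.2
  have hsquares : ∀ x : K, x ≠ 0 → IsSquare x → s • pt x = pt x⁻¹ := by
    intro x hx hxs
    obtain ⟨k, rfl⟩ := (hsq x hx).1 hxs
    rw [show μ k = μ k * 1 from (mul_one _).symm, ← hHpt, ← mul_smul, hsk, mul_smul, hs1, hHpt,
      hμinv, mul_one, mul_one]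
  have hm : IsSquare (-1 : K) := hm1 heven
  obtain ⟨m, hmμ⟩ := (hsq (-1 : K) (neg_ne_zero.2 one_ne_zero)).1 hm
  have hsm1 : s • pt (-1) = pt (-1) := by
    rw [hsquares _ (neg_ne_zero.2 one_ne_zero) hm, inv_neg_one]
  -- the key identity
  set g := Tr (-1) * s * Tr 1 * s * Tr (-1) with hg
  have hga : g • a = b := by
    rw [hg, mul_smul, mul_smul, mul_smul, mul_smul, hTra, hsa, hTrb, hs1, hTrpt, add_neg_cancel, hpt0]
  have hgb : g • b = a := by
    rw [hg, mul_smul, mul_smul, mul_smul, mul_smul, hTrb, hsm1, hTrpt, neg_add_cancel, hpt0, hsb, hTra]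
  have hg1 : g • pt 1 = pt (-1) := by
    rw [hg, mul_smul, mul_smul, mul_smul, mul_smul, hTrpt, add_neg_cancel, hpt0, hsb, hTra, hsa, hTrb]
  have hgm : g = (m : G) * s := by
    have hmem : g * s ∈ twoPt G a b :=
      ⟨by show (g * s) • a = a; rw [mul_smul, hsa, hgb], by show (g * s) • b = b; rw [mul_smul, hsb, hga]⟩
    have e1 : (m : G)⁻¹ * (g * s) = 1 := C.eq_one hab (mul_mem (inv_mem m.2) hmem) (hptne 1)
      (fun h => one_ne_zero (hptinj (h.trans hpt0.symm)))
      (by rw [mul_smul, mul_smul, hs1, hg1, inv_smul_eq_iff, hHpt, hmμ, mul_one])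
    calc g = (m : G) * ((m : G)⁻¹ * (g * s)) * s⁻¹ := by group
      _ = (m : G) * s := by rw [e1, mul_one, inv_eq_of_mul_eq_one_right hss]
  obtain ⟨y₀, hy₀, hy₀0, hy₀s⟩ :
      ∃ y : K, ¬ IsSquare y ∧ y ≠ 0 ∧ s • pt y = pt y⁻¹ := by
    -- some nonzero square has a nonsquare successor
    obtain ⟨x, hxs, hx0, hy⟩ : ∃ x : K, IsSquare x ∧ x ≠ 0 ∧ ¬ IsSquare (x + 1) := by
      by_contra hc
      push Not at hc
      -- then the squares are closed under addition
      let W : AddSubgroup K :=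
        { carrier := {x | IsSquare x}
          zero_mem' := IsSquare.zero
          add_mem' := fun {u v} hu hv => by
            show IsSquare (u + v)
            by_cases hv0 : v = 0
            · rw [hv0, add_zero]; exact hu
            by_cases hu0 : u = 0
            · rw [hu0, zero_add]; exact hv
            have := hc (u / v) (hu.div hv) (div_ne_zero hu0 hv0)
            rw [show u + v = (u / v + 1) * v by rw [add_mul, div_mul_cancel₀ _ hv0, one_mul]]
            exact this.mul hv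
          neg_mem' := fun {u} hu => by
            show IsSquare (-u)
            rw [neg_eq_neg_one_mul]; exact hm.mul hu }
      have hWd := AddSubgroup.card_addSubgroup_dvd_card W
      have hWc : Nat.card W = Nat.card (twoPt G a b) + 1 := by
        have e1 : Option (twoPt G a b) ≃ W := Equiv.ofBijective
          (fun o => o.elim ⟨0, IsSquare.zero⟩ fun h => ⟨μ h, (hsq _ (hne0 h)).2 ⟨h, rfl⟩⟩)
          ⟨by
            rintro (_ | h) (_ | h') eq
            · rfl
            · exact absurd (congrArg Subtype.val eq).symm (hne0 h')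
            · exact absurd (congrArg Subtype.val eq) (hne0 h)
            · exact congrArg some (hinj (congrArg Subtype.val eq)),
          fun w => by
            by_cases hw : (w : K) = 0
            · exact ⟨none, Subtype.ext hw.symm⟩
            · obtain ⟨h, hh⟩ := (hsq _ hw).1 w.2
              exact ⟨some h, Subtype.ext hh⟩⟩
        rw [← Nat.card_congr e1, Finite.card_option]
      rw [Nat.card_eq_fintype_card (α := K), hcard, hWc] at hWd
      set dd := Nat.card (twoPt G a b)
      have hF' : Nat.card F = 2 * dd + 1 := by omega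
      rw [hF'] at hWd
      have h1 : dd + 1 ∣ dd := by
        have := Nat.dvd_sub hWd (dvd_refl (dd + 1))
        rwa [show 2 * dd + 1 - (dd + 1) = dd by omega] at this
      have hpos : 0 < dd := Nat.card_pos
      have := Nat.le_of_dvd hpos h1
      omega
    have hy0 : x + 1 ≠ 0 := fun e => hy (e ▸ IsSquare.zero)
    refine ⟨x + 1, hy, hy0, ?_⟩
    obtain ⟨w, hw⟩ : ∃ w, pt w = s • pt (x + 1) := hptsurj _ fun h => by
      have h' : s • pt (x + 1) = s • b := h.trans hsb.symm
      rw [← hpt0] at h'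
      exact hy0 (hptinj (MulAction.injective s h'))
    obtain ⟨k, hk⟩ := (hsq x⁻¹ (inv_ne_zero hx0)).1 hxs.inv
    have h1 : g • pt (x + 1) = pt (x * w + (-1)) := by
      rw [hg, mul_smul, mul_smul, mul_smul, mul_smul, hTrpt, add_neg_cancel_right,
        hsquares x hx0 hxs, hTrpt,
        show x⁻¹ + 1 = μ k * (x + 1) by rw [hk, mul_add, inv_mul_cancel₀ hx0, mul_one, add_comm],
        ← hHpt, ← mul_smul s, hsk, mul_smul, ← hw, hHpt, hμinv, hk, inv_inv, hTrpt]
    rw [hgm, mul_smul, ← hw, hHpt, hmμ] at h1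
    have h2 := hptinj h1
    have h3 : w * (x + 1) = 1 := by linear_combination -h2
    rw [← hw, eq_inv_of_mul_eq_one_left h3]
  have hs_formula : ∀ z : K, z ≠ 0 → s • pt z = pt z⁻¹ := by
    intro z hz
    by_cases hzs : IsSquare z
    · exact hsquares z hz hzs
    have hchar : ringChar K ≠ 2 := fun hc => by
      have := FiniteField.even_card_of_char_two hc
      omega
    have hzy : IsSquare (z / y₀) := by
      rw [div_eq_mul_inv]
      rw [FiniteField.isSquare_iff hchar hz] at hzs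
      rw [FiniteField.isSquare_iff hchar hy₀0] at hy₀
      rw [FiniteField.isSquare_iff hchar (mul_ne_zero hz (inv_ne_zero hy₀0)), mul_pow, inv_pow,
        (FiniteField.pow_dichotomy hchar hz).resolve_left hzs,
        (FiniteField.pow_dichotomy hchar hy₀0).resolve_left hy₀]
      norm_num
    obtain ⟨k, hk⟩ := (hsq _ (div_ne_zero hz hy₀0)).1 hzy
    rw [show z = μ k * y₀ by rw [hk, div_mul_cancel₀ _ hy₀0], ← hHpt, ← mul_smul, hsk, mul_smul,
      hy₀s, hHpt, hμinv, ← mul_inv]
  -- the representation on the projective line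
  let E : OnePoint K ≃ Ω := Equiv.ofBijective (fun o => OnePoint.elim o a pt)
    ⟨by
      intro x y h
      induction x using OnePoint.rec <;> induction y using OnePoint.rec
      · rfl
      · exact absurd h.symm (hptne _)
      · exact absurd h (hptne _)
      · exact congrArg _ (hptinj h),
    fun z => by
      by_cases hz : z = a
      · exact ⟨OnePoint.infty, hz.symm⟩
      · obtain ⟨x, hx⟩ := hptsurj z hz
        exact ⟨(x : OnePoint K), hx⟩⟩
  let ρ : G →* Equiv.Perm (OnePoint K) :=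
    { toFun := fun g => E.trans ((MulAction.toPerm g).trans E.symm)
      map_one' := by ext z; simp
      map_mul' := fun g h => by ext z; simp [mul_smul] }
  have hρ : ∀ g z, ρ g z = E.symm (g • E z) := fun _ _ => rfl
  have hEi : E (OnePoint.infty) = a := rfl
  have hEc : ∀ x : K, E (x : OnePoint K) = pt x := fun _ => rfl
  have hρi : Function.Injective ρ := by
    rw [injective_iff_map_eq_one]
    intro g hg
    refine C.faithful h3 fun z => ?_
    obtain ⟨w, rfl⟩ := E.surjective z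
    have := congrArg (fun σ : Equiv.Perm (OnePoint K) => E (σ w)) hg
    simpa [hρ] using this
  obtain ⟨i, hi⟩ : ∃ i : K, i * i = -1 := by obtain ⟨i, hi⟩ := hm; exact ⟨i, hi.symm⟩
  have hρT : ∀ c, ρ (Tr c) = Mobius.rep K (Mobius.trans c) := fun c => by
    refine Equiv.ext fun z => ?_
    rw [hρ, Equiv.symm_apply_eq]
    induction z using OnePoint.rec with
    | infty => rw [Mobius.trans_infty, hEi, hTra]
    | coe z => rw [Mobius.trans_coe, hEc, hEc, hTrpt]
  have hρH : ∀ (k : twoPt G a b) (l : K) (hl : l ≠ 0), μ k = l * l →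
      ρ (k : G) = Mobius.rep K (Mobius.dil l hl) := fun k l hl hkl => by
    refine Equiv.ext fun z => ?_
    rw [hρ, Equiv.symm_apply_eq]
    induction z using OnePoint.rec with
    | infty => rw [Mobius.dil_infty, hEi]; exact k.2.1
    | coe z => rw [Mobius.dil_coe, hEc, hEc, hHpt, hkl]
  have hρs : ρ s = Mobius.rep K (Mobius.inv i hi) := by
    refine Equiv.ext fun z => ?_
    rw [hρ, Equiv.symm_apply_eq]
    induction z using OnePoint.rec with
    | infty => rw [Mobius.inv_infty, hEi, hEc, hpt0, hsa]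
    | coe z =>
      by_cases hz : z = 0
      · subst hz; rw [Mobius.inv_zero, hEi, hEc, hpt0, hsb]
      · rw [Mobius.inv_coe i hi hz, hEc, hEc, hs_formula z hz]
  have hrange : ρ.range = (Mobius.rep K).range := by
    have hT' : ∀ c, ρ (Tr c) ∈ (Mobius.rep K).range := fun c => ⟨_, (hρT c).symm⟩
    have hH' : ∀ k : twoPt G a b, ρ (k : G) ∈ (Mobius.rep K).range := fun k => by
      obtain ⟨l, hl⟩ := (hsq _ (hne0 k)).2 ⟨k, rfl⟩
      have hl0 : l ≠ 0 := fun h => hne0 k (by rw [hl, h, mul_zero])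
      exact ⟨_, (hρH k l hl0 hl).symm⟩
    have hA : ∀ g : G, g • a = a → ρ g ∈ (Mobius.rep K).range := by
      intro g hga
      obtain ⟨c, hc⟩ := hptsurj (g • b) fun h => hab (MulAction.injective g (hga.trans h.symm))
      have hmem : (Tr c)⁻¹ * g ∈ twoPt G a b :=
        ⟨by show ((Tr c)⁻¹ * g) • a = a; rw [mul_smul, hga, inv_smul_eq_iff, hTra],
          by show ((Tr c)⁻¹ * g) • b = b; rw [mul_smul, inv_smul_eq_iff, hTrb, hc]⟩
      have := mul_mem (hT' c) (hH' ⟨_, hmem⟩)
      rwa [← map_mul, mul_inv_cancel_left] at this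
    refine le_antisymm ?_ ?_
    · rintro _ ⟨g, rfl⟩
      by_cases hga : g • a = a
      · exact hA g hga
      obtain ⟨x, hx⟩ := hptsurj _ hga
      have hfix : (s * (Tr x)⁻¹ * g) • a = a := by
        rw [mul_smul, mul_smul, ← hx, ← hTrb, inv_smul_smul, hsb]
      have h1 := mul_mem (mul_mem (hT' x) (inv_mem (show ρ s ∈ (Mobius.rep K).range from
        ⟨_, hρs.symm⟩))) (hA _ hfix)
      rwa [← map_inv, ← map_mul, ← map_mul,
        show Tr x * s⁻¹ * (s * (Tr x)⁻¹ * g) = g by group] at h1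
    · have hB : ∀ M : Matrix.SpecialLinearGroup (Fin 2) K,
          Mobius.rep K M OnePoint.infty = OnePoint.infty → Mobius.rep K M ∈ ρ.range := by
        intro M hM
        obtain ⟨c, l, hl, rfl⟩ := Mobius.eq_of_fix_infty M hM
        obtain ⟨k, hk⟩ := (hsq (l * l) (mul_ne_zero hl hl)).1 ⟨l, rfl⟩
        exact ⟨Tr c * (k : G), by rw [map_mul, map_mul, hρT, hρH k l hl hk]⟩
      rintro _ ⟨M, rfl⟩
      by_cases hM : Mobius.rep K M OnePoint.infty = OnePoint.infty
      · exact hB M hM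
      obtain ⟨x, hx⟩ : ∃ x : K, Mobius.rep K M OnePoint.infty = (x : OnePoint K) := by
        generalize Mobius.rep K M OnePoint.infty = o at hM
        induction o using OnePoint.rec with
        | infty => exact absurd rfl hM
        | coe x => exact ⟨x, rfl⟩
      have hfix : Mobius.rep K (Mobius.inv i hi * Mobius.trans (-x) * M) OnePoint.infty =
          OnePoint.infty := by
        rw [map_mul, map_mul, Equiv.Perm.mul_apply, Equiv.Perm.mul_apply, hx, Mobius.trans_coe,
          add_neg_cancel, Mobius.inv_zero]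
      have h1 := mul_mem (inv_mem (show Mobius.rep K (Mobius.inv i hi * Mobius.trans (-x)) ∈ ρ.range
        from ⟨s * Tr (-x), by rw [map_mul, map_mul, hρs, hρT]⟩)) (hB _ hfix)
      rwa [← map_inv, ← map_mul, inv_mul_cancel_left] at h1
  exact ⟨(MonoidHom.ofInjective hρi).trans ((MulEquiv.subgroupCongr hrange).trans
    ((QuotientGroup.quotientKerEquivRange (Mobius.rep K)).symm.trans
      (QuotientGroup.quotientMulEquivOfEq (Mobius.ker_rep (K := K)))))⟩

end Cfsg.Agent.Zassenhaus
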