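import Cfsg.Agent.Zassenhaus.Basic
import Cfsg.Agent.Zassenhaus.Mobius

/-! Sharply triply transitive groups of odd degree are `SL(2, 2^f)` on the projective line. -/

set_option autoImplicit false

namespace Cfsg.Agent.Zassenhaus

open Subgroup MulAction

section FieldModel

variable {H F : Type*} [Group H] [CommGroup F] [Finite F]

/-- An abelian group regular on the nontrivial elements of an elementary abelian group is the
multiplicative group of a field. -/
theorem exists_field_model_transitive {p : ℕ} [hp : Fact p.Prime] (hF : IsPGroup p F) [Nontrivial F]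
    (ψ : H →* MulAut F) (hfpf : ∀ h : H, h ≠ 1 → ∀ u : F, ψ h u = u → u = 1)
    (hcomm : ∀ a b : H, a * b = b * a)
    (htr : ∀ u w : F, u ≠ 1 → w ≠ 1 → ∃ h, ψ h u = w) :
    ∃ (K : Type) (_ : Field K) (_ : Fintype K) (e : Additive F ≃+ K) (μ : H →* K),
      Fintype.card K = Nat.card F ∧ Function.Injective μ ∧
      (∀ (h : H) (u : F), e (Additive.ofMul (ψ h u)) = μ h * e (Additive.ofMul u)) ∧
      (∀ h, μ h ≠ 0) ∧ ∀ x : K, x ≠ 0 → ∃ h, μ h = x := by
  classical
  obtain ⟨v, hv⟩ := exists_ne (1 : F)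
  have htop : ∀ W : Subgroup F, W ≠ ⊥ → (∀ h : H, ∀ u ∈ W, ψ h u ∈ W) → W = ⊤ := fun W hW hst => by
    obtain ⟨u, hu, hu1⟩ := W.bot_or_exists_ne_one.resolve_left hW
    refine eq_top_iff.2 fun w _ => ?_
    by_cases hw : w = 1
    · rw [hw]; exact W.one_mem
    obtain ⟨h, rfl⟩ := htr u w hu1 hw
    exact hst h u hu
  let Φ : H → AddMonoid.End (Additive F) := fun h => MonoidHom.toAdditive (ψ h).toMonoidHom
  have hΦ : ∀ h (u : Additive F), Φ h u = Additive.ofMul (ψ h u.toMul) := fun _ _ => rfl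
  have hΦm : ∀ h k, Φ (h * k) = Φ h * Φ k := fun h k => AddMonoidHom.ext fun u => by
    show Φ (h * k) u = Φ h (Φ k u)
    rw [hΦ, hΦ, hΦ, map_mul]; rfl
  let A : Subring (AddMonoid.End (Additive F)) := Subring.closure (Set.range Φ)
  letI : CommRing A := Subring.closureCommRingOfComm (by
    rintro _ ⟨h, rfl⟩ _ ⟨k, rfl⟩; rw [← hΦm, ← hΦm, hcomm])
  have hAcomm : ∀ θ ∈ A, ∀ h, θ * Φ h = Φ h * θ := fun θ hθ h =>
    congrArg Subtype.val (mul_comm (⟨θ, hθ⟩ : A) ⟨Φ h, Subring.subset_closure ⟨h, rfl⟩⟩)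
  have hstab : ∀ θ ∈ A, (θ : AddMonoid.End (Additive F)) ≠ 0 →
      ∀ u : Additive F, θ u = 0 → u = 0 := by
    intro θ hθ hne u hu
    by_contra hu0
    apply hne
    let W : Subgroup F :=
      { carrier := {w | θ (Additive.ofMul w) = 0}
        one_mem' := map_zero θ
        mul_mem' := fun {x y} hx hy => by
          show θ (Additive.ofMul (x * y)) = 0
          rw [ofMul_mul, map_add, show θ (Additive.ofMul x) = 0 from hx,
            show θ (Additive.ofMul y) = 0 from hy, add_zero]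
        inv_mem' := fun {x} hx => by
          show θ (Additive.ofMul x⁻¹) = 0
          rw [ofMul_inv, map_neg, show θ (Additive.ofMul x) = 0 from hx, neg_zero] }
    have := htop W (fun e => hu0 (by
      have : u.toMul ∈ W := hu
      rw [e, mem_bot] at this
      exact Additive.toMul.injective this)) fun h w hw => by
        show θ (Φ h (Additive.ofMul w)) = 0
        show (θ * Φ h) (Additive.ofMul w) = 0
        rw [hAcomm θ hθ h]
        show Φ h (θ (Additive.ofMul w)) = 0
        rw [show θ (Additive.ofMul w) = 0 from hw, map_zero]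
    exact AddMonoidHom.ext fun w => this.ge (Subgroup.mem_top w.toMul)
  let ev : A →+ Additive F :=
    { toFun := fun θ => (θ : AddMonoid.End (Additive F)) (Additive.ofMul v)
      map_zero' := rfl
      map_add' := fun _ _ => rfl }
  have hevi : Function.Injective ev := by
    rw [injective_iff_map_eq_zero]
    intro θ hθ
    by_contra hne
    exact hv (ofMul_eq_zero.1 (hstab θ θ.2 (fun e => hne (Subtype.ext e)) _ hθ))
  have hevs : Function.Surjective ev := fun u => by
    by_cases hu : u.toMul = 1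
    · exact ⟨0, (map_zero ev).trans (Additive.toMul.injective hu).symm⟩
    obtain ⟨h, hh⟩ := htr v u.toMul hv hu
    exact ⟨⟨Φ h, Subring.subset_closure ⟨h, rfl⟩⟩, congrArg Additive.ofMul hh⟩
  let evE : A ≃+ Additive F := AddEquiv.ofBijective ev ⟨hevi, hevs⟩
  haveI : Finite A := Finite.of_equiv _ evE.symm.toEquiv
  haveI := Fintype.ofFinite A
  haveI : Nontrivial A := evE.toEquiv.nontrivial
  haveI : NoZeroDivisors A := ⟨fun {x y} hxy => by
    by_contra hc
    rw [not_or] at hc
    apply hc.2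
    apply hevi
    rw [map_zero]
    refine hstab x x.2 (fun e => hc.1 (Subtype.ext e)) _ ?_
    exact DFunLike.congr_fun (congrArg Subtype.val hxy) (Additive.ofMul v)⟩
  haveI : IsDomain A := NoZeroDivisors.to_isDomain A
  letI : Field A := Fintype.fieldOfDomain A
  obtain ⟨f, hf⟩ := IsPGroup.iff_card.1 hF
  have hf0 : f ≠ 0 := by
    rintro rfl
    rw [pow_zero] at hf
    have := Finite.one_lt_card (α := F); omega
  haveI : Fintype (GaloisField p f) := Fintype.ofFinite _
  have hcardA : Fintype.card A = p ^ f := by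
    rw [← Nat.card_eq_fintype_card, ← hf, Nat.card_congr evE.toEquiv]
    exact Nat.card_congr Additive.toMul
  have hcardK : Fintype.card (GaloisField p f) = p ^ f := by
    rw [← Nat.card_eq_fintype_card, GaloisField.card p f hf0]
  let iso : A ≃+* GaloisField p f := FiniteField.ringEquivOfCardEq (hcardA.trans hcardK.symm)
  let e : Additive F ≃+ GaloisField p f := evE.symm.trans iso.toAddEquiv
  let μ : H →* GaloisField p f :=
    { toFun := fun h => iso ⟨Φ h, Subring.subset_closure ⟨h, rfl⟩⟩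
      map_one' := by
        rw [← map_one iso]; congr 1; apply Subtype.ext
        exact AddMonoidHom.ext fun u => by show Φ 1 u = u; rw [hΦ, map_one]; rfl
      map_mul' := fun h k => by
        rw [← map_mul iso]; congr 1; exact Subtype.ext (hΦm h k) }
  have hμ : ∀ (h : H) (u : F), e (Additive.ofMul (ψ h u)) = μ h * e (Additive.ofMul u) := by
    intro h u
    show iso (evE.symm _) = iso _ * iso (evE.symm _)
    rw [← map_mul]; congr 1
    apply evE.injective
    rw [AddEquiv.apply_symm_apply]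
    show _ = Φ h (evE (evE.symm (Additive.ofMul u)))
    rw [AddEquiv.apply_symm_apply]; rfl
  have hinj : Function.Injective μ := fun h k hk => by
    have h1 := congrArg Subtype.val (iso.injective hk)
    by_contra hne
    refine hv (hfpf (k⁻¹ * h) (fun e => hne (eq_of_inv_mul_eq_one e).symm) v ?_)
    have h2 : ψ h v = ψ k v := congrArg Additive.toMul (DFunLike.congr_fun h1 (Additive.ofMul v))
    rw [map_mul, MulAut.mul_apply, h2, ← MulAut.mul_apply, ← map_mul, inv_mul_cancel, map_one]; rfl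
  have hne0 : ∀ h, μ h ≠ 0 := fun h e0 => by
    have := map_mul μ h h⁻¹
    rw [mul_inv_cancel, map_one, e0, zero_mul] at this
    exact one_ne_zero this
  have hev1 : e (Additive.ofMul v) = 1 := by
    show iso (evE.symm (Additive.ofMul v)) = 1
    have : evE.symm (Additive.ofMul v) = 1 := evE.symm_apply_eq.2 rfl
    rw [this, map_one]
  refine ⟨GaloisField p f, inferInstance, inferInstance, e, μ, by rw [hcardK, hf], hinj, hμ, hne0, ?_⟩
  intro x hx
  obtain ⟨h, hh⟩ := htr v (e.symm x).toMul hv (fun hx1 => hx (by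
    rw [← e.apply_symm_apply x, ← ofMul_toMul (e.symm x), hx1, ofMul_one, map_zero]))
  refine ⟨h, ?_⟩
  have := hμ h v
  rw [hh, hev1, mul_one, ofMul_toMul, e.apply_symm_apply] at this
  exact this.symm

end FieldModel

variable {G Ω : Type*} [Group G] [MulAction G Ω]

/-- The kernel, also when the two-point stabiliser is trivial. -/
theorem ZCtx.exists_kernel' [Finite G] [Finite Ω] (C : ZCtx G Ω) (h3 : 3 ≤ Nat.card Ω) {a b : Ω}
    (hab : a ≠ b) : ∃ F : Subgroup G, IsKernel F a := by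
  by_cases hne : twoPt G a b = ⊥
  · refine ⟨stabilizer G a, fun u hu => hu, fun g hg u hu => ?_, fun y z hy hz => ?_⟩
    · show (g * u * g⁻¹) • a = a
      rw [mul_smul, mul_smul, inv_smul_eq_iff.2 hg.symm, show u • a = a from hu, hg]
    obtain ⟨g, hga, hgy⟩ := C.two (Ne.symm hy) (Ne.symm hz)
    refine ⟨⟨g, hga⟩, hgy, ?_⟩
    rintro ⟨g', hg'a⟩ (hg'y : g' • y = z)
    obtain ⟨k, hka, hkb⟩ := C.two hab (Ne.symm hy)
    have hmem : k⁻¹ * (g⁻¹ * g') * k ∈ twoPt G a b := by
      constructor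
      · show (k⁻¹ * (g⁻¹ * g') * k) • a = a
        rw [mul_smul, mul_smul, mul_smul, hka, show g' • a = a from hg'a, inv_smul_eq_iff.2 hga.symm,
          inv_smul_eq_iff, hka]
      · show (k⁻¹ * (g⁻¹ * g') * k) • b = b
        rw [mul_smul, mul_smul, mul_smul, hkb, hg'y, inv_smul_eq_iff.2 hgy.symm, inv_smul_eq_iff, hkb]
    rw [hne, mem_bot] at hmem
    refine Subtype.ext (eq_of_inv_mul_eq_one (?_ : g⁻¹ * g' = 1)).symm
    calc g⁻¹ * g' = k * (k⁻¹ * (g⁻¹ * g') * k) * k⁻¹ := by group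
      _ = 1 := by rw [hmem]; group
  · exact C.exists_kernel h3 hab hne

/-- A sharply triply transitive group of odd degree is `SL(2, K)`, `K` of characteristic two. -/
theorem ZCtx.identify_even [Finite G] [Finite Ω] (C : ZCtx G Ω) (h3 : 3 ≤ Nat.card Ω)
    (hodd : Odd (Nat.card Ω))
    (hmap : ∀ {x y z x' y' z' : Ω}, x ≠ y → x ≠ z → y ≠ z → x' ≠ y' → x' ≠ z' → y' ≠ z' →
      ∃ g : G, g • x = x' ∧ g • y = y' ∧ g • z = z') :
    ∃ (f : ℕ) (K : Type) (_ : Field K) (_ : Fintype K), 1 ≤ f ∧ Fintype.card K = 2 ^ f ∧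
      Nat.card Ω = 2 ^ f + 1 ∧ Nonempty (G ≃* Matrix.SpecialLinearGroup (Fin 2) K) ∧
      Nonempty (G ≃* Matrix.ProjGenLinGroup (Fin 2) K) := by
  classical
  haveI := Fintype.ofFinite Ω
  obtain ⟨a, b, hab⟩ : ∃ a b : Ω, a ≠ b := Fintype.exists_pair_of_one_lt_card (by
    rw [← Nat.card_eq_fintype_card]; omega)
  have hcardH : Nat.card (twoPt G a b) = Nat.card {x : Ω // x ≠ a ∧ x ≠ b} := by
    obtain ⟨c, hca, hcb⟩ := exists_third h3 a b
    refine Nat.card_congr (Equiv.ofBijective (fun h => ⟨(h : G) • c,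
      fun e => hca (MulAction.injective (h : G) (e.trans (show (h : G) • a = a from h.2.1).symm)),
      fun e => hcb (MulAction.injective (h : G) (e.trans (show (h : G) • b = b from h.2.2).symm))⟩)
      ⟨fun h k e => ?_, fun x => ?_⟩)
    · have e' : (h : G) • c = (k : G) • c := congrArg Subtype.val e
      refine eq_of_inv_mul_eq_one (?_ : k⁻¹ * h = 1) |>.symm
      exact Subtype.ext (C.eq_one hab (k⁻¹ * h).2 hca hcb (by
        push_cast; rw [mul_smul, e', inv_smul_smul]))
    · obtain ⟨g, g1, g2, g4⟩ := hmap hab (Ne.symm hca) (Ne.symm hcb) hab (Ne.symm x.2.1)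
        (Ne.symm x.2.2)
      exact ⟨⟨g, g1, g2⟩, Subtype.ext g4⟩
  have hcardX : Nat.card {x : Ω // x ≠ a ∧ x ≠ b} + 2 = Nat.card Ω := by
    rw [Nat.card_eq_fintype_card, Nat.card_eq_fintype_card, Fintype.card_subtype,
      show (Finset.univ.filter fun x : Ω => x ≠ a ∧ x ≠ b) = Finset.univ \ {a, b} by
        ext x; simp,
      Finset.card_sdiff_of_subset (Finset.subset_univ _), Finset.card_univ, Finset.card_pair hab]
    rw [Nat.card_eq_fintype_card] at h3
    omega
  obtain ⟨F, hF⟩ := C.exists_kernel' h3 hab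
  have hn := hF.card_eq hab
  obtain ⟨hcommF, p, hp, hpg, hexp⟩ := hF.elementary C hab h3 (by omega)
  haveI := Fact.mk hp
  haveI := hcommF
  letI : CommGroup F := { (inferInstance : Group F) with mul_comm := mul_comm' }
  obtain ⟨f, hf⟩ := IsPGroup.iff_card.1 hpg
  have hf1 : 1 ≤ f := by
    rcases Nat.eq_zero_or_pos f with rfl | h
    · rw [pow_zero] at hf; omega
    · exact h
  have hp2 : p = 2 := by
    have h2 : 2 ∣ p ^ f := by
      obtain ⟨k, hk⟩ := hodd
      rw [← hf]; exact ⟨k, by omega⟩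
    exact ((Nat.prime_dvd_prime_iff_eq Nat.prime_two hp).1 (Nat.prime_two.dvd_of_dvd_pow h2)).symm
  subst hp2
  haveI : Nontrivial F := Finite.one_lt_card_iff_nontrivial.1 (by omega)
  -- every swapper is an involution
  have hswinv : ∀ g : G, g • a = b → g • b = a → g * g = 1 := by
    intro g hga hgb
    have hτ : ∀ c : {x : Ω // x ≠ a ∧ x ≠ b}, ∃ t : G, t • a = b ∧ t • b = a ∧ t * t = 1 ∧
        t • (c : Ω) = c ∧ ∀ x : Ω, t • x = x → x = c := by
      rintro ⟨c, hca, hcb⟩
      obtain ⟨k, hka, -⟩ := C.two hab hca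
      have hx : k⁻¹ • a ≠ a := fun e => hca (by
        rw [inv_smul_eq_iff] at e; rw [← hka, ← e])
      have hy : k⁻¹ • b ≠ a := fun e => hcb (by
        rw [inv_smul_eq_iff] at e; rw [← hka, ← e])
      obtain ⟨u, hu, -⟩ := hF.reg _ _ hx hy
      have hu1 : (u : G) ≠ 1 := fun e => hab (by
        simp only [e, one_smul] at hu; exact MulAction.injective k⁻¹ hu)
      have hu2 : (u : G) * u = 1 := by rw [← pow_two]; exact hexp _ u.2
      have h1 : (k * (u : G) * k⁻¹) • a = b := by
        rw [mul_smul, mul_smul, hu, smul_inv_smul]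
      refine ⟨k * (u : G) * k⁻¹, h1, ?_, ?_, ?_, ?_⟩
      · conv_lhs => rw [← h1]
        rw [← mul_smul, show k * (u : G) * k⁻¹ * (k * (u : G) * k⁻¹) = k * ((u : G) * u) * k⁻¹ by group,
          hu2, mul_one, mul_inv_cancel, one_smul]
      · calc k * (u : G) * k⁻¹ * (k * (u : G) * k⁻¹) = k * ((u : G) * u) * k⁻¹ := by group
          _ = 1 := by rw [hu2]; group
      · show (k * (u : G) * k⁻¹) • c = c
        rw [mul_smul, mul_smul, inv_smul_eq_iff.2 hka.symm, hF.fix _ u.2, hka]
      · intro x hfx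
        by_contra hne
        refine hu1 (hF.eq_one_of_fix u.2 (x := k⁻¹ • x) (fun e => hne ?_) ?_)
        · rw [inv_smul_eq_iff] at e; rw [e, hka]
        · rw [mul_smul, mul_smul] at hfx
          exact eq_inv_smul_iff.2 hfx
    choose t ht1 ht2 ht3 ht4 ht5 using hτ
    let φ : {x : Ω // x ≠ a ∧ x ≠ b} → twoPt G a b := fun c => ⟨g⁻¹ * t c,
      by show (g⁻¹ * t c) • a = a; rw [mul_smul, ht1, inv_smul_eq_iff, hga],
      by show (g⁻¹ * t c) • b = b; rw [mul_smul, ht2, inv_smul_eq_iff, hgb]⟩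
    have hφi : Function.Injective φ := fun c d e => by
      have e' : t c = t d := mul_left_cancel (congrArg Subtype.val e)
      exact Subtype.ext (ht5 d c (by rw [← e']; exact ht4 c))
    obtain ⟨c, hc⟩ := ((Nat.bijective_iff_injective_and_card φ).2 ⟨hφi, hcardH.symm⟩).2 1
    have : g = t c := eq_of_inv_mul_eq_one (congrArg Subtype.val hc)
    rw [this]; exact ht3 c
  have hswap : ∀ g : G, g • a = b → g • b = a → ∀ k ∈ twoPt G a b, g * k = k⁻¹ * g := by
    intro g hga hgb k hk
    have h1 := hswinv g hga hgb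
    have h2 := hswinv (k * g)
      (by rw [mul_smul, hga]; exact hk.2) (by rw [mul_smul, hgb]; exact hk.1)
    calc g * k = k⁻¹ * ((k * g) * (k * g)) * g⁻¹ := by group
      _ = k⁻¹ * g := by rw [h2, mul_one, inv_eq_of_mul_eq_one_right h1]
  have hHcomm : ∀ h k : twoPt G a b, h * k = k * h := by
    intro h k
    obtain ⟨s₀, hs₀a, hs₀b⟩ := C.two hab (Ne.symm hab)
    apply Subtype.ext
    have e1 := hswap s₀ hs₀a hs₀b _ (mul_mem h.2 k.2)
    have e2 : s₀ * ((h : G) * k) = ((h : G)⁻¹ * (k : G)⁻¹) * s₀ := by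
      rw [← mul_assoc, hswap s₀ hs₀a hs₀b _ h.2, mul_assoc, hswap s₀ hs₀a hs₀b _ k.2, ← mul_assoc]
    have e3 : ((h : G) * k)⁻¹ = (h : G)⁻¹ * (k : G)⁻¹ := mul_right_cancel (e1.symm.trans e2)
    have e4 := congrArg (·⁻¹) e3
    simpa using e4
  have htr : ∀ u w : F, u ≠ 1 → w ≠ 1 → ∃ h : twoPt G a b, hF.act h u = w := by
    intro u w hu hw
    have hne : ∀ u : F, u ≠ 1 → (u : G) • b ≠ b := fun u hu e =>
      hu (Subtype.ext (hF.eq_one_of_fix u.2 (Ne.symm hab) e))
    obtain ⟨g, g1, g2, g4⟩ := hmap hab (Ne.symm (hF.smul_ne u.2 (Ne.symm hab))) (Ne.symm (hne u hu))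
      hab (Ne.symm (hF.smul_ne w.2 (Ne.symm hab))) (Ne.symm (hne w hw))
    refine ⟨⟨g, g1, g2⟩, Subtype.ext (hF.eq_of_smul (SetLike.coe_mem _) w.2 (Ne.symm hab) ?_)⟩
    rw [hF.act_smul]; exact g4
  obtain ⟨K, iK, iFK, e, μ, hcard, hinj, hμ, hne0, hsurj⟩ :=
    exists_field_model_transitive hpg hF.act (hF.act_fpf C hab) hHcomm htr
  have hK2 : Fintype.card K = 2 ^ f := hcard.trans hf
  have h2 : (1 : K) + 1 = 0 := by
    have hu : ∀ u : F, u * u = 1 := fun u => Subtype.ext (by
      push_cast; rw [← pow_two]; exact hexp _ u.2)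
    rw [← e.apply_symm_apply (1 : K), ← map_add]
    have : e.symm (1 : K) + e.symm 1 = 0 := congrArg Additive.ofMul (hu (e.symm 1).toMul)
    rw [this, map_zero]
  have hsqrt : ∀ x : K, ∃ l : K, l * l = x := fun x => by
    refine ⟨x ^ 2 ^ (f - 1), ?_⟩
    rw [← pow_add, show 2 ^ (f - 1) + 2 ^ (f - 1) = Fintype.card K by
      rw [hK2, ← mul_two, ← pow_succ, Nat.sub_add_cancel hf1], FiniteField.pow_card]
  -- coordinates
  let Tr : K → G := fun c => (((e.symm c).toMul : F) : G)
  let pt : K → Ω := fun x => Tr x • b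
  have hTrF : ∀ c, Tr c ∈ F := fun c => ((e.symm c).toMul : F).2
  have hTr_add : ∀ c d, Tr (c + d) = Tr c * Tr d := fun c d => by
    simp only [Tr, map_add, toMul_add, Subgroup.coe_mul]
  have hTr0 : Tr 0 = 1 := by simp only [Tr, map_zero, toMul_zero, OneMemClass.coe_one]
  have hTra : ∀ c, Tr c • a = a := fun c => hF.fix _ (hTrF c)
  have hTrpt : ∀ c x, Tr c • pt x = pt (x + c) := fun c x => by
    show Tr c • Tr x • b = Tr (x + c) • b
    rw [← mul_smul, ← hTr_add, add_comm]
  have hpt0 : pt 0 = b := by show Tr 0 • b = b; rw [hTr0, one_smul]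
  have hTrb : ∀ c, Tr c • b = pt c := fun _ => rfl
  have hptne : ∀ x, pt x ≠ a := fun x => hF.smul_ne (hTrF x) (Ne.symm hab)
  have hptinj : Function.Injective pt := fun x y h =>
    e.symm.injective (Additive.toMul.injective (Subtype.ext
      (hF.eq_of_smul (hTrF x) (hTrF y) (Ne.symm hab) h)))
  have hptsurj : ∀ z : Ω, z ≠ a → ∃ x, pt x = z := fun z hz => by
    obtain ⟨u, hu, -⟩ := hF.reg b z (Ne.symm hab) hz
    refine ⟨e (Additive.ofMul u), ?_⟩
    show (((e.symm (e (Additive.ofMul u))).toMul : F) : G) • b = z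
    rw [AddEquiv.symm_apply_apply]; exact hu
  have hHpt : ∀ (h : twoPt G a b) x, (h : G) • pt x = pt (μ h * x) := fun h x => by
    show (h : G) • (((e.symm x).toMul : F) : G) • b = (((e.symm (μ h * x)).toMul : F) : G) • b
    rw [← hF.act_smul]
    have : (e.symm (μ h * x)) = Additive.ofMul (hF.act h (e.symm x).toMul) := by
      rw [AddEquiv.symm_apply_eq, hμ, ofMul_toMul, AddEquiv.apply_symm_apply]
    rw [this, toMul_ofMul]
  have hμinv : ∀ k, μ k⁻¹ = (μ k)⁻¹ := fun k =>
    eq_inv_of_mul_eq_one_right (by rw [← map_mul, mul_inv_cancel, map_one])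
  have hpt1b : pt 1 ≠ b := fun h => one_ne_zero (hptinj (h.trans hpt0.symm))
  obtain ⟨s, hsa, hsb, hs1⟩ : ∃ s : G, s • a = b ∧ s • b = a ∧ s • pt 1 = pt 1 :=
    hmap hab (Ne.symm (hptne 1)) (Ne.symm hpt1b) (Ne.symm hab) (Ne.symm hpt1b) (Ne.symm (hptne 1))
  have hs_formula : ∀ z : K, z ≠ 0 → s • pt z = pt z⁻¹ := by
    intro z hz
    obtain ⟨k, rfl⟩ := hsurj z hz
    rw [show μ k = μ k * 1 from (mul_one _).symm, ← hHpt, ← mul_smul, hswap s hsa hsb _ k.2,
      mul_smul, hs1, show ((k : G)⁻¹) = ((k⁻¹ : twoPt G a b) : G) from rfl, hHpt, hμinv, mul_one,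
      mul_one]
  -- the representation on the projective line
  let E : OnePoint K ≃ Ω := Equiv.ofBijective (fun o => OnePoint.elim o a pt)
    ⟨by
      intro x y h
      induction x using OnePoint.rec <;> induction y using OnePoint.rec
      · rfl
      · exact absurd h.symm (hptne _)
      · exact absurd h (hptne _)
      · exact congrArg _ (hptinj h),
    fun z => by
      by_cases hz : z = a
      · exact ⟨OnePoint.infty, hz.symm⟩
      · obtain ⟨x, hx⟩ := hptsurj z hz
        exact ⟨(x : OnePoint K), hx⟩⟩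
  let ρ : G →* Equiv.Perm (OnePoint K) :=
    { toFun := fun g => E.trans ((MulAction.toPerm g).trans E.symm)
      map_one' := by ext z; simp
      map_mul' := fun g h => by ext z; simp [mul_smul] }
  have hρ : ∀ g z, ρ g z = E.symm (g • E z) := fun _ _ => rfl
  have hEi : E (OnePoint.infty) = a := rfl
  have hEc : ∀ x : K, E (x : OnePoint K) = pt x := fun _ => rfl
  have hρi : Function.Injective ρ := by
    rw [injective_iff_map_eq_one]
    intro g hg
    refine C.faithful h3 fun z => ?_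
    obtain ⟨w, rfl⟩ := E.surjective z
    have := congrArg (fun σ : Equiv.Perm (OnePoint K) => E (σ w)) hg
    simpa [hρ] using this
  have hi : (1 : K) * 1 = -1 := by rw [one_mul]; exact eq_neg_of_add_eq_zero_left h2
  have hρT : ∀ c, ρ (Tr c) = Mobius.rep K (Mobius.trans c) := fun c => by
    refine Equiv.ext fun z => ?_
    rw [hρ, Equiv.symm_apply_eq]
    induction z using OnePoint.rec with
    | infty => rw [Mobius.trans_infty, hEi, hTra]
    | coe z => rw [Mobius.trans_coe, hEc, hEc, hTrpt]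
  have hρH : ∀ (k : twoPt G a b) (l : K) (hl : l ≠ 0), μ k = l * l →
      ρ (k : G) = Mobius.rep K (Mobius.dil l hl) := fun k l hl hkl => by
    refine Equiv.ext fun z => ?_
    rw [hρ, Equiv.symm_apply_eq]
    induction z using OnePoint.rec with
    | infty => rw [Mobius.dil_infty, hEi]; exact k.2.1
    | coe z => rw [Mobius.dil_coe, hEc, hEc, hHpt, hkl]
  have hρs : ρ s = Mobius.rep K (Mobius.inv 1 hi) := by
    refine Equiv.ext fun z => ?_
    rw [hρ, Equiv.symm_apply_eq]
    induction z using OnePoint.rec with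
    | infty => rw [Mobius.inv_infty, hEi, hEc, hpt0, hsa]
    | coe z =>
      by_cases hz : z = 0
      · subst hz; rw [Mobius.inv_zero, hEi, hEc, hpt0, hsb]
      · rw [Mobius.inv_coe 1 hi hz, hEc, hEc, hs_formula z hz]
  have hrange : ρ.range = (Mobius.rep K).range := by
    have hT' : ∀ c, ρ (Tr c) ∈ (Mobius.rep K).range := fun c => ⟨_, (hρT c).symm⟩
    have hH' : ∀ k : twoPt G a b, ρ (k : G) ∈ (Mobius.rep K).range := fun k => by
      obtain ⟨l, hl⟩ := hsqrt (μ k)
      have hl0 : l ≠ 0 := fun h => hne0 k (by rw [← hl, h, mul_zero])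
      exact ⟨_, (hρH k l hl0 hl.symm).symm⟩
    have hA : ∀ g : G, g • a = a → ρ g ∈ (Mobius.rep K).range := by
      intro g hga
      obtain ⟨c, hc⟩ := hptsurj (g • b) fun h => hab (MulAction.injective g (hga.trans h.symm))
      have hmem : (Tr c)⁻¹ * g ∈ twoPt G a b :=
        ⟨by show ((Tr c)⁻¹ * g) • a = a; rw [mul_smul, hga, inv_smul_eq_iff, hTra],
          by show ((Tr c)⁻¹ * g) • b = b; rw [mul_smul, inv_smul_eq_iff, hTrb, hc]⟩
      have := mul_mem (hT' c) (hH' ⟨_, hmem⟩)
      rwa [← map_mul, mul_inv_cancel_left] at this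
    refine le_antisymm ?_ ?_
    · rintro _ ⟨g, rfl⟩
      by_cases hga : g • a = a
      · exact hA g hga
      obtain ⟨x, hx⟩ := hptsurj _ hga
      have hfix : (s * (Tr x)⁻¹ * g) • a = a := by
        rw [mul_smul, mul_smul, ← hx, ← hTrb, inv_smul_smul, hsb]
      have h1 := mul_mem (mul_mem (hT' x) (inv_mem (show ρ s ∈ (Mobius.rep K).range from
        ⟨_, hρs.symm⟩))) (hA _ hfix)
      rwa [← map_inv, ← map_mul, ← map_mul,
        show Tr x * s⁻¹ * (s * (Tr x)⁻¹ * g) = g by group] at h1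
    · have hB : ∀ M : Matrix.SpecialLinearGroup (Fin 2) K,
          Mobius.rep K M OnePoint.infty = OnePoint.infty → Mobius.rep K M ∈ ρ.range := by
        intro M hM
        obtain ⟨c, l, hl, rfl⟩ := Mobius.eq_of_fix_infty M hM
        obtain ⟨k, hk⟩ := hsurj (l * l) (mul_ne_zero hl hl)
        exact ⟨Tr c * (k : G), by rw [map_mul, map_mul, hρT, hρH k l hl hk]⟩
      rintro _ ⟨M, rfl⟩
      by_cases hM : Mobius.rep K M OnePoint.infty = OnePoint.infty
      · exact hB M hM
      obtain ⟨x, hx⟩ : ∃ x : K, Mobius.rep K M OnePoint.infty = (x : OnePoint K) := by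
        generalize Mobius.rep K M OnePoint.infty = o at hM
        induction o using OnePoint.rec with
        | infty => exact absurd rfl hM
        | coe x => exact ⟨x, rfl⟩
      have hfix : Mobius.rep K (Mobius.inv 1 hi * Mobius.trans (-x) * M) OnePoint.infty =
          OnePoint.infty := by
        rw [map_mul, map_mul, Equiv.Perm.mul_apply, Equiv.Perm.mul_apply, hx, Mobius.trans_coe,
          add_neg_cancel, Mobius.inv_zero]
      have h1 := mul_mem (inv_mem (show Mobius.rep K (Mobius.inv 1 hi * Mobius.trans (-x)) ∈ ρ.range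
        from ⟨s * Tr (-x), by rw [map_mul, map_mul, hρs, hρT]⟩)) (hB _ hfix)
      rwa [← map_inv, ← map_mul, inv_mul_cancel_left] at h1
  have hcen : Subgroup.center (Matrix.SpecialLinearGroup (Fin 2) K) = ⊥ := by
    rw [eq_bot_iff]
    intro M hM
    obtain ⟨r, hr, hrM⟩ := Matrix.SpecialLinearGroup.mem_center_iff.1 hM
    rw [Fintype.card_fin] at hr
    have hr0 : (r - 1) * (r - 1) = 0 := by linear_combination hr + (1 - r) * h2
    have hr1 : r = 1 := sub_eq_zero.1 (mul_self_eq_zero.1 hr0)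
    rw [Subgroup.mem_bot]
    refine Subtype.ext ?_
    rw [← hrM, hr1, map_one]
    rfl
  have hrepi : Function.Injective (Mobius.rep K) := by
    rw [← MonoidHom.ker_eq_bot_iff, Mobius.ker_rep, hcen]
  let eG : G ≃* Matrix.SpecialLinearGroup (Fin 2) K :=
    (MonoidHom.ofInjective hρi).trans ((MulEquiv.subgroupCongr hrange).trans
      (MonoidHom.ofInjective hrepi).symm)
  have hpgl : Function.Bijective (Matrix.SpecialLinearGroup.toPGL (n := Fin 2) (R := K)) := by
    constructor
    · rw [← MonoidHom.ker_eq_bot_iff, Matrix.SpecialLinearGroup.toPGL_ker, hcen]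
    · intro x
      obtain ⟨y, rfl⟩ := Matrix.ProjectiveSpecialLinearGroup.toPGL_surj_of_roots (n := Fin 2)
        (R := K) (fun r => by
          obtain ⟨l, hl⟩ := hsqrt r
          have hl0 : l ≠ 0 := fun h => r.ne_zero (by rw [← hl, h, mul_zero])
          exact ⟨Units.mk0 l hl0, Units.ext (by rw [Fintype.card_fin, pow_two]; exact hl)⟩) x
      obtain ⟨z, rfl⟩ := QuotientGroup.mk_surjective y
      exact ⟨z, rfl⟩
  exact ⟨f, K, iK, iFK, hf1, hK2, by rw [← hn, hf], ⟨eG⟩,
    ⟨eG.trans (MulEquiv.ofBijective _ hpgl)⟩⟩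

/-- Three distinct points form an embedding. -/
theorem exists_triple {α : Type*} {a b c : α} (hab : a ≠ b) (hac : a ≠ c) (hbc : b ≠ c) :
    ∃ e : Fin 3 ↪ α, e 0 = a ∧ e 1 = b ∧ e 2 = c :=
  ⟨⟨![a, b, c], fun i j h => by fin_cases i <;> fin_cases j <;> simp_all⟩, rfl, rfl, rfl⟩

/-- Triple transitivity on points. -/
theorem exists_map_three {M α : Type*} [Group M] [MulAction M α]
    (h3 : MulAction.IsMultiplyPretransitive M α 3) {x y z x' y' z' : α} (h1 : x ≠ y) (h2 : x ≠ z)
    (h4 : y ≠ z) (h1' : x' ≠ y') (h2' : x' ≠ z') (h4' : y' ≠ z') :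
    ∃ g : M, g • x = x' ∧ g • y = y' ∧ g • z = z' := by
  obtain ⟨e, e0, e1, e2⟩ := exists_triple h1 h2 h4
  obtain ⟨e', f0, f1, f2⟩ := exists_triple h1' h2' h4'
  obtain ⟨g, hg⟩ := h3.exists_smul_eq e e'
  exact ⟨g, by rw [← e0, ← f0, ← hg]; rfl, by rw [← e1, ← f1, ← hg]; rfl,
    by rw [← e2, ← f2, ← hg]; rfl⟩

/-- The context of a triply transitive group in which only the identity fixes three points. -/
theorem zctx_of_three {M α : Type*} [Group M] [MulAction M α] [Finite α]
    (h3 : MulAction.IsMultiplyPretransitive M α 3) (hn3 : 3 ≤ Nat.card α)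
    (hone : ∀ (g : M) (x y z : α), x ≠ y → y ≠ z → x ≠ z → g • x = x → g • y = y → g • z = z →
      g = 1) : ZCtx M α :=
  ⟨fun {x y u v} hxy huv => by
    obtain ⟨z, hzx, hzy⟩ := exists_third hn3 x y
    obtain ⟨w, hwu, hwv⟩ := exists_third hn3 u v
    obtain ⟨g, h1, h2, -⟩ := exists_map_three h3 hxy (Ne.symm hzx) (Ne.symm hzy) huv (Ne.symm hwu)
      (Ne.symm hwv)
    exact ⟨g, h1, h2⟩, hone⟩

end Cfsg.Agent.Zassenhaus
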