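import Cfsg.Agent.Zassenhaus.PSL
import Cfsg.Agent.Zassenhaus.OddInverted

/-!
Zassenhaus groups with two-point stabilisers of odd order `d = (n-1)/2` inverted by every swapper
are `PSL(2, n)`, `n` congruent to 3 modulo 4.
-/

set_option autoImplicit false
set_option linter.style.haveILetI false

namespace Cfsg.Agent.Zassenhaus

open Subgroup MulAction
open scoped OnePoint

section NegInv

variable {K : Type*} [Field K] [DecidableEq K]

/-- The map `z ↦ -1/z`. -/
def negInv : Matrix.SpecialLinearGroup (Fin 2) K :=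
  ⟨!![0, -1; 1, 0], by simp [Matrix.det_fin_two_of]⟩

theorem negInv_infty : Mobius.rep K negInv (∞ : OnePoint K) = ((0 : K) : OnePoint K) := by
  rw [Mobius.rep_infty]; simp [negInv]

theorem negInv_zero : Mobius.rep K negInv ((0 : K) : OnePoint K) = ∞ := by
  rw [Mobius.rep_coe]; simp [negInv]

theorem negInv_coe {z : K} (hz : z ≠ 0) :
    Mobius.rep K negInv (z : OnePoint K) = ((-z⁻¹ : K) : OnePoint K) := by
  rw [Mobius.rep_coe]; simp [negInv, hz, neg_div]

end NegInv

variable {G Ω : Type*} [Group G] [MulAction G Ω]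

/-- The identification for odd `d`. -/
theorem ZCtx.identify_odd [Finite G] [Finite Ω] (C : ZCtx G Ω) (h3 : 3 ≤ Nat.card Ω) {a b : Ω}
    (hab : a ≠ b) {F : Subgroup G} (hF : IsKernel F a) (hodd : Odd (Nat.card (twoPt G a b)))
    (hd : 2 * Nat.card (twoPt G a b) + 2 = Nat.card Ω)
    (hinv : ∀ s : G, s • a = b → s • b = a → ∀ h ∈ twoPt G a b, s * h * s⁻¹ = h⁻¹) :
    ∃ (p f : ℕ) (K : Type) (_ : Field K) (_ : Fintype K), p.Prime ∧ p ≠ 2 ∧ Fintype.card K = p ^ f ∧
      Nat.card Ω = p ^ f + 1 ∧ Nonempty (G ≃* Matrix.ProjectiveSpecialLinearGroup (Fin 2) K) := by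
  classical
  have hn := hF.card_eq hab
  obtain ⟨hcommF, p, hp, hpg, -⟩ := hF.elementary C hab h3 (by omega)
  haveI := Fact.mk hp
  haveI := hcommF
  letI : CommGroup F := { (inferInstance : Group F) with mul_comm := mul_comm' }
  obtain ⟨s₀, hs₀a, hs₀b⟩ := C.two hab (Ne.symm hab)
  have hswap : ∀ g : G, g • a = b → g • b = a → ∀ k ∈ twoPt G a b, g * k = k⁻¹ * g :=
    fun g hga hgb k hk => mul_inv_eq_iff_eq_mul.1 (hinv g hga hgb k hk)
  have hHcomm : ∀ h k : twoPt G a b, h * k = k * h := by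
    intro h k
    apply Subtype.ext
    show (h : G) * k = k * h
    have e1 := hinv s₀ hs₀a hs₀b _ (mul_mem h.2 k.2)
    rw [show s₀ * ((h : G) * k) * s₀⁻¹ = (s₀ * h * s₀⁻¹) * (s₀ * k * s₀⁻¹) by group,
      hinv s₀ hs₀a hs₀b _ h.2, hinv s₀ hs₀a hs₀b _ k.2, ← mul_inv_rev] at e1
    exact inv_injective e1.symm
  have hsq2 : ∀ g : G, g • a = b → g • b = a → g * g = 1 := by
    intro g hga hgb
    have hmem : g * g ∈ twoPt G a b :=
      ⟨by show (g * g) • a = a; rw [mul_smul, hga, hgb],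
        by show (g * g) • b = b; rw [mul_smul, hgb, hga]⟩
    have h1 := hinv g hga hgb _ hmem
    rw [show g * (g * g) * g⁻¹ = g * g by group, eq_inv_iff_mul_eq_one] at h1
    exact congrArg Subtype.val (eq_one_of_sq
      (hodd.of_dvd_nat (orderOf_dvd_natCard (⟨g * g, hmem⟩ : twoPt G a b))) (Subtype.ext h1))
  -- swappers have no fixed point
  have hnofix : ∀ g : G, g • a = b → g • b = a → ∀ z : Ω, g • z ≠ z := by
    intro g hga hgb z hz
    haveI := Fintype.ofFinite Ω
    haveI : Fact (Nat.Prime 2) := ⟨Nat.prime_two⟩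
    let τ : Function.End Ω := fun w => g • w
    have hpar := Equiv.Perm.card_fixedPoints_modEq (p := 2) (n := 1) (f := τ)
      (funext fun w => by show g • g • w = w; rw [← mul_smul, hsq2 g hga hgb, one_smul])
    rw [← Nat.card_eq_fintype_card, Nat.ModEq] at hpar
    have hev : Even (Nat.card Ω) := ⟨Nat.card (twoPt G a b) + 1, by omega⟩
    rw [Nat.even_iff] at hev
    have h2 : 1 < Fintype.card (Function.fixedPoints τ) := by
      have h1 : 0 < Fintype.card (Function.fixedPoints τ) := Fintype.card_pos_iff.2 ⟨⟨z, hz⟩⟩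
      omega
    obtain ⟨⟨x, hx⟩, ⟨y, hy⟩, hxy⟩ := Fintype.one_lt_card_iff.1 h2
    obtain ⟨k, hkx, hky⟩ := C.two (x := x) (y := y) (fun e => hxy (Subtype.ext e)) hab
    have hmem : k * g * k⁻¹ ∈ twoPt G a b :=
      ⟨by show (k * g * k⁻¹) • a = a; rw [← hkx, mul_smul, mul_smul, inv_smul_smul, show g • x = x from hx],
        by show (k * g * k⁻¹) • b = b; rw [← hky, mul_smul, mul_smul, inv_smul_smul, show g • y = y from hy]⟩
    have h1 : (⟨_, hmem⟩ : twoPt G a b) = 1 := eq_one_of_sq (hodd.of_dvd_nat (orderOf_dvd_natCard _))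
      (Subtype.ext (by
        show k * g * k⁻¹ * (k * g * k⁻¹) = 1
        rw [show k * g * k⁻¹ * (k * g * k⁻¹) = k * (g * g) * k⁻¹ by group, hsq2 g hga hgb, mul_one,
          mul_inv_cancel]))
    have h3' : g = 1 := conj_eq_one_iff.1 (congrArg Subtype.val h1)
    rw [h3', one_smul] at hga
    exact hab hga
  obtain ⟨K, iK, iFK, iD, e, μ, hcard, hinj, hμ, hsq, hne0, hp2, -⟩ :=
    exists_field_model hpg hF.act (hF.act_fpf C hab) hHcomm (by omega)
  obtain ⟨f, hf⟩ := IsPGroup.iff_card.1 hpg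
  refine ⟨p, f, K, iK, iFK, hp, hp2, hcard.trans hf, by rw [← hn, hf], ?_⟩
  have hchar : ringChar K ≠ 2 := fun hc => by
    have := FiniteField.even_card_of_char_two hc
    rw [hcard] at this
    omega
  have hm : ¬ IsSquare (-1 : K) := by
    rw [FiniteField.isSquare_neg_one_iff, hcard]
    obtain ⟨j, hj⟩ := hodd
    omega
  have hneg : ∀ x : K, x ≠ 0 → ¬ IsSquare x → IsSquare (-x) := by
    intro x hx hns
    rw [FiniteField.isSquare_iff hchar (neg_ne_zero.2 one_ne_zero)] at hm
    rw [FiniteField.isSquare_iff hchar hx] at hns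
    rw [FiniteField.isSquare_iff hchar (neg_ne_zero.2 hx), neg_eq_neg_one_mul x, mul_pow,
      (FiniteField.pow_dichotomy hchar (neg_ne_zero.2 one_ne_zero)).resolve_left hm,
      (FiniteField.pow_dichotomy hchar hx).resolve_left hns]
    norm_num
  -- coordinates
  let Tr : K → G := fun c => (((e.symm c).toMul : F) : G)
  let pt : K → Ω := fun x => Tr x • b
  have hTrF : ∀ c, Tr c ∈ F := fun c => ((e.symm c).toMul : F).2
  have hTr_add : ∀ c d, Tr (c + d) = Tr c * Tr d := fun c d => by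
    simp only [Tr, map_add, toMul_add, Subgroup.coe_mul]
  have hTr0 : Tr 0 = 1 := by simp only [Tr, map_zero, toMul_zero, OneMemClass.coe_one]
  have hTra : ∀ c, Tr c • a = a := fun c => hF.fix _ (hTrF c)
  have hTrpt : ∀ c x, Tr c • pt x = pt (x + c) := fun c x => by
    show Tr c • Tr x • b = Tr (x + c) • b
    rw [← mul_smul, ← hTr_add, add_comm]
  have hpt0 : pt 0 = b := by show Tr 0 • b = b; rw [hTr0, one_smul]
  have hTrb : ∀ c, Tr c • b = pt c := fun _ => rfl
  have hptne : ∀ x, pt x ≠ a := fun x => hF.smul_ne (hTrF x) (Ne.symm hab)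
  have hptinj : Function.Injective pt := fun x y h =>
    e.symm.injective (Additive.toMul.injective (Subtype.ext
      (hF.eq_of_smul (hTrF x) (hTrF y) (Ne.symm hab) h)))
  have hptsurj : ∀ z : Ω, z ≠ a → ∃ x, pt x = z := fun z hz => by
    obtain ⟨u, hu, -⟩ := hF.reg b z (Ne.symm hab) hz
    refine ⟨e (Additive.ofMul u), ?_⟩
    show (((e.symm (e (Additive.ofMul u))).toMul : F) : G) • b = z
    rw [AddEquiv.symm_apply_apply]; exact hu
  have hHpt : ∀ (h : twoPt G a b) x, (h : G) • pt x = pt (μ h * x) := fun h x => by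
    show (h : G) • (((e.symm x).toMul : F) : G) • b = (((e.symm (μ h * x)).toMul : F) : G) • b
    rw [← hF.act_smul]
    have : (e.symm (μ h * x)) = Additive.ofMul (hF.act h (e.symm x).toMul) := by
      rw [AddEquiv.symm_apply_eq, hμ, ofMul_toMul, AddEquiv.apply_symm_apply]
    rw [this, toMul_ofMul]
  have hμinv : ∀ k, μ k⁻¹ = (μ k)⁻¹ := fun k =>
    eq_inv_of_mul_eq_one_right (by rw [← map_mul, mul_inv_cancel, map_one])
  -- a normalised swapper
  obtain ⟨s, hsa, hsb, hs1⟩ : ∃ s : G, s • a = b ∧ s • b = a ∧ s • pt 1 = pt (-1) := by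
    obtain ⟨k₀, hk₀⟩ : ∃ k₀, pt k₀ = s₀ • pt 1 := hptsurj _ fun h => by
      have h' : s₀ • pt 1 = s₀ • b := h.trans hs₀b.symm
      rw [← hpt0] at h'
      exact one_ne_zero (hptinj (MulAction.injective s₀ h'))
    have hk0 : k₀ ≠ 0 := fun h => by
      rw [h, hpt0] at hk₀
      exact hptne 1 (MulAction.injective s₀ (hk₀.symm.trans hs₀a.symm))
    have hnorm : ∀ k : twoPt G a b, ((k⁻¹ : twoPt G a b) : G) • s₀ • pt 1 = pt ((μ k)⁻¹ * k₀) :=
      fun k => by rw [← hk₀, hHpt, hμinv]
    have hswaps : ∀ k : twoPt G a b, (((k⁻¹ : twoPt G a b) : G) * s₀) • a = b ∧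
        (((k⁻¹ : twoPt G a b) : G) * s₀) • b = a := fun k =>
      ⟨by rw [mul_smul, hs₀a]; exact (k⁻¹ : twoPt G a b).2.2,
        by rw [mul_smul, hs₀b]; exact (k⁻¹ : twoPt G a b).2.1⟩
    have hns : ¬ IsSquare k₀ := fun hks => by
      obtain ⟨k, hk⟩ := (hsq k₀ hk0).1 hks
      exact hnofix _ (hswaps k).1 (hswaps k).2 (pt 1)
        (by rw [mul_smul, hnorm, hk, inv_mul_cancel₀ hk0])
    obtain ⟨k, hk⟩ := (hsq _ (neg_ne_zero.2 hk0)).1 (hneg k₀ hk0 hns)
    refine ⟨_, (hswaps k).1, (hswaps k).2, ?_⟩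
    rw [mul_smul, hnorm, hk, inv_neg, neg_mul, inv_mul_cancel₀ hk0]
  have hss : s * s = 1 := hsq2 s hsa hsb
  have hsk : ∀ k : twoPt G a b, s * (k : G) = ((k⁻¹ : twoPt G a b) : G) * s := fun k =>
    hswap s hsa hsb _ k.2
  have hsm1 : s • pt (-1) = pt 1 := by rw [← hs1, ← mul_smul, hss, one_smul]
  have hs_formula : ∀ z : K, z ≠ 0 → s • pt z = pt (-z⁻¹) := by
    intro z hz
    by_cases hzs : IsSquare z
    · obtain ⟨k, rfl⟩ := (hsq z hz).1 hzs
      rw [show μ k = μ k * 1 from (mul_one _).symm, ← hHpt, ← mul_smul, hsk, mul_smul, hs1, hHpt,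
        hμinv, mul_one, mul_neg, mul_one]
    · obtain ⟨k, hk⟩ := (hsq _ (neg_ne_zero.2 hz)).1 (hneg z hz hzs)
      rw [show z = μ k * (-1) by rw [hk]; ring, ← hHpt, ← mul_smul, hsk, mul_smul, hsm1, hHpt,
        hμinv, mul_one, mul_neg, mul_one, inv_neg, neg_neg]
  -- the representation on the projective line
  let E : OnePoint K ≃ Ω := Equiv.ofBijective (fun o => OnePoint.elim o a pt)
    ⟨by
      intro x y h
      induction x using OnePoint.rec <;> induction y using OnePoint.rec
      · rfl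
      · exact absurd h.symm (hptne _)
      · exact absurd h (hptne _)
      · exact congrArg _ (hptinj h),
    fun z => by
      by_cases hz : z = a
      · exact ⟨OnePoint.infty, hz.symm⟩
      · obtain ⟨x, hx⟩ := hptsurj z hz
        exact ⟨(x : OnePoint K), hx⟩⟩
  let ρ : G →* Equiv.Perm (OnePoint K) :=
    { toFun := fun g => E.trans ((MulAction.toPerm g).trans E.symm)
      map_one' := by ext z; simp
      map_mul' := fun g h => by ext z; simp [mul_smul] }
  have hρ : ∀ g z, ρ g z = E.symm (g • E z) := fun _ _ => rfl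
  have hEi : E (OnePoint.infty) = a := rfl
  have hEc : ∀ x : K, E (x : OnePoint K) = pt x := fun _ => rfl
  have hρi : Function.Injective ρ := by
    rw [injective_iff_map_eq_one]
    intro g hg
    refine C.faithful h3 fun z => ?_
    obtain ⟨w, rfl⟩ := E.surjective z
    have := congrArg (fun σ : Equiv.Perm (OnePoint K) => E (σ w)) hg
    simpa [hρ] using this
  have hρT : ∀ c, ρ (Tr c) = Mobius.rep K (Mobius.trans c) := fun c => by
    refine Equiv.ext fun z => ?_
    rw [hρ, Equiv.symm_apply_eq]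
    induction z using OnePoint.rec with
    | infty => rw [Mobius.trans_infty, hEi, hTra]
    | coe z => rw [Mobius.trans_coe, hEc, hEc, hTrpt]
  have hρH : ∀ (k : twoPt G a b) (l : K) (hl : l ≠ 0), μ k = l * l →
      ρ (k : G) = Mobius.rep K (Mobius.dil l hl) := fun k l hl hkl => by
    refine Equiv.ext fun z => ?_
    rw [hρ, Equiv.symm_apply_eq]
    induction z using OnePoint.rec with
    | infty => rw [Mobius.dil_infty, hEi]; exact k.2.1
    | coe z => rw [Mobius.dil_coe, hEc, hEc, hHpt, hkl]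
  have hρs : ρ s = Mobius.rep K negInv := by
    refine Equiv.ext fun z => ?_
    rw [hρ, Equiv.symm_apply_eq]
    induction z using OnePoint.rec with
    | infty => rw [negInv_infty, hEi, hEc, hpt0, hsa]
    | coe z =>
      by_cases hz : z = 0
      · subst hz; rw [negInv_zero, hEi, hEc, hpt0, hsb]
      · rw [negInv_coe hz, hEc, hEc, hs_formula z hz]
  have hrange : ρ.range = (Mobius.rep K).range := by
    have hT' : ∀ c, ρ (Tr c) ∈ (Mobius.rep K).range := fun c => ⟨_, (hρT c).symm⟩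
    have hH' : ∀ k : twoPt G a b, ρ (k : G) ∈ (Mobius.rep K).range := fun k => by
      obtain ⟨l, hl⟩ := (hsq _ (hne0 k)).2 ⟨k, rfl⟩
      have hl0 : l ≠ 0 := fun h => hne0 k (by rw [hl, h, mul_zero])
      exact ⟨_, (hρH k l hl0 hl).symm⟩
    have hA : ∀ g : G, g • a = a → ρ g ∈ (Mobius.rep K).range := by
      intro g hga
      obtain ⟨c, hc⟩ := hptsurj (g • b) fun h => hab (MulAction.injective g (hga.trans h.symm))
      have hmem : (Tr c)⁻¹ * g ∈ twoPt G a b :=
        ⟨by show ((Tr c)⁻¹ * g) • a = a; rw [mul_smul, hga, inv_smul_eq_iff, hTra],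
          by show ((Tr c)⁻¹ * g) • b = b; rw [mul_smul, inv_smul_eq_iff, hTrb, hc]⟩
      have := mul_mem (hT' c) (hH' ⟨_, hmem⟩)
      rwa [← map_mul, mul_inv_cancel_left] at this
    refine le_antisymm ?_ ?_
    · rintro _ ⟨g, rfl⟩
      by_cases hga : g • a = a
      · exact hA g hga
      obtain ⟨x, hx⟩ := hptsurj _ hga
      have hfix : (s * (Tr x)⁻¹ * g) • a = a := by
        rw [mul_smul, mul_smul, ← hx, ← hTrb, inv_smul_smul, hsb]
      have h1 := mul_mem (mul_mem (hT' x) (inv_mem (show ρ s ∈ (Mobius.rep K).range from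
        ⟨_, hρs.symm⟩))) (hA _ hfix)
      rwa [← map_inv, ← map_mul, ← map_mul,
        show Tr x * s⁻¹ * (s * (Tr x)⁻¹ * g) = g by group] at h1
    · have hB : ∀ M : Matrix.SpecialLinearGroup (Fin 2) K,
          Mobius.rep K M OnePoint.infty = OnePoint.infty → Mobius.rep K M ∈ ρ.range := by
        intro M hM
        obtain ⟨c, l, hl, rfl⟩ := Mobius.eq_of_fix_infty M hM
        obtain ⟨k, hk⟩ := (hsq (l * l) (mul_ne_zero hl hl)).1 ⟨l, rfl⟩
        exact ⟨Tr c * (k : G), by rw [map_mul, map_mul, hρT, hρH k l hl hk]⟩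
      rintro _ ⟨M, rfl⟩
      by_cases hM : Mobius.rep K M OnePoint.infty = OnePoint.infty
      · exact hB M hM
      obtain ⟨x, hx⟩ : ∃ x : K, Mobius.rep K M OnePoint.infty = (x : OnePoint K) := by
        generalize Mobius.rep K M OnePoint.infty = o at hM
        induction o using OnePoint.rec with
        | infty => exact absurd rfl hM
        | coe x => exact ⟨x, rfl⟩
      have hfix : Mobius.rep K (negInv * Mobius.trans (-x) * M) OnePoint.infty =
          OnePoint.infty := by
        rw [map_mul, map_mul, Equiv.Perm.mul_apply, Equiv.Perm.mul_apply, hx, Mobius.trans_coe,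
          add_neg_cancel, negInv_zero]
      have h1 := mul_mem (inv_mem (show Mobius.rep K (negInv * Mobius.trans (-x)) ∈ ρ.range
        from ⟨s * Tr (-x), by rw [map_mul, map_mul, hρs, hρT]⟩)) (hB _ hfix)
      rwa [← map_inv, ← map_mul, inv_mul_cancel_left] at h1
  exact ⟨(MonoidHom.ofInjective hρi).trans ((MulEquiv.subgroupCongr hrange).trans
    ((QuotientGroup.quotientKerEquivRange (Mobius.rep K)).symm.trans
      (QuotientGroup.quotientMulEquivOfEq (Mobius.ker_rep (K := K)))))⟩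

end Cfsg.Agent.Zassenhaus
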