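import Cfsg.Agent.Zassenhaus.AbelianBound
import Cfsg.Agent.Zassenhaus.PSLOdd
import Cfsg.Agent.RankOne.Zassenhaus
import Cfsg.Agent.S0339
import Cfsg.Agent.S0741
import Cfsg.Agent.S0742

/-!
Zassenhaus groups with abelian kernel: sharply triply transitive or projective special linear.
-/

set_option autoImplicit false
set_option linter.style.haveILetI false

namespace Cfsg.Agent.Zassenhaus

open Subgroup MulAction

universe u v

variable {G : Type u} {Ω : Type v} [Group G] [MulAction G Ω]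

/-- A full two-point stabiliser gives triple transitivity. -/
theorem ZCtx.three_transitive_of_full [Finite G] [Finite Ω] (C : ZCtx G Ω) {a b : Ω} (hab : a ≠ b)
    (hd : Nat.card (twoPt G a b) + 2 = Nat.card Ω) : IsMultiplyPretransitive G Ω 3 := by
  classical
  haveI := Fintype.ofFinite Ω
  have hth : ∀ x y : Ω, x ≠ a → x ≠ b → y ≠ a → y ≠ b → ∃ h : G, h ∈ twoPt G a b ∧ h • x = y := by
    intro x y hxa hxb hya hyb
    have hm : ∀ h : twoPt G a b, (h : G) • x ∈ ({a, b} : Finset Ω)ᶜ := fun h => by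
      simp only [Finset.mem_compl, Finset.mem_insert, Finset.mem_singleton, not_or]
      exact ⟨fun e => hxa (MulAction.injective (h : G) (e.trans h.2.1.symm)),
        fun e => hxb (MulAction.injective (h : G) (e.trans h.2.2.symm))⟩
    let φ : twoPt G a b → (({a, b} : Finset Ω)ᶜ : Finset Ω) := fun h => ⟨(h : G) • x, hm h⟩
    have hinj : Function.Injective φ := fun h k e => by
      have e' : (h : G) • x = (k : G) • x := congrArg Subtype.val e
      exact (Subtype.ext (inv_mul_eq_one.1 (C.eq_one hab (k⁻¹ * h : twoPt G a b).2 hxa hxb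
        (by rw [mul_smul, e', inv_smul_smul])))).symm
    have hbij := hinj.bijective_of_nat_card_le (by
      rw [Nat.card_eq_finsetCard, Finset.card_compl, Finset.card_pair hab,
        ← Nat.card_eq_fintype_card]
      omega)
    obtain ⟨h, hh⟩ := hbij.2 ⟨y, by simp [hya, hyb]⟩
    exact ⟨h, h.2, congrArg Subtype.val hh⟩
  have key : ∀ x : Fin 3 ↪ Ω, ∃ g : G, g • x 0 = a ∧ g • x 1 = b := fun x => C.two (by simp) hab
  rw [isMultiplyPretransitive_iff]
  intro x y
  obtain ⟨g, hg0, hg1⟩ := key x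
  obtain ⟨g', hg0', hg1'⟩ := key y
  have hne : ∀ (z : Fin 3 ↪ Ω) (k : G), k • z 0 = a → k • z 1 = b →
      k • z 2 ≠ a ∧ k • z 2 ≠ b := fun z k e0 e1 =>
    ⟨fun e => absurd (z.injective (MulAction.injective k (e.trans e0.symm))) (by decide),
      fun e => absurd (z.injective (MulAction.injective k (e.trans e1.symm))) (by decide)⟩
  obtain ⟨h, hh, he⟩ := hth _ _ (hne x g hg0 hg1).1 (hne x g hg0 hg1).2 (hne y g' hg0' hg1').1
    (hne y g' hg0' hg1').2
  refine ⟨g'⁻¹ * h * g, Function.Embedding.ext fun i => ?_⟩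
  show (g'⁻¹ * h * g) • x i = y i
  rw [mul_smul, mul_smul, inv_smul_eq_iff]
  fin_cases i
  · show h • g • x 0 = g' • y 0; rw [hg0, hg0']; exact hh.1
  · show h • g • x 1 = g' • y 1; rw [hg1, hg1']; exact hh.2
  · exact he

/-- The stabiliser of three points is trivial. -/
theorem ZCtx.stabilizer_triple (C : ZCtx G Ω) (t : Fin 3 ↪ Ω) : stabilizer G t = ⊥ := by
  rw [eq_bot_iff]
  intro g hg
  rw [MulAction.mem_stabilizer_iff] at hg
  have h : ∀ i, g • t i = t i := fun i => DFunLike.congr_fun hg i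
  exact mem_bot.2 (C.three g (t 0) (t 1) (t 2) (by simp) (by simp) (by simp) (h 0) (h 1) (h 2))

/-- Extract the context from a Zassenhaus group. -/
theorem zctx_of_zassenhaus (hZ : Cfsg.IsZassenhausGroup G Ω) : ZCtx G Ω :=
  ⟨fun {x y u v} h h' => MulAction.is_two_pretransitive_iff.1 hZ.2.1 h h', hZ.2.2.1⟩

theorem three_le_of_zassenhaus [Finite Ω] (hZ : Cfsg.IsZassenhausGroup G Ω) :
    3 ≤ Nat.card Ω := by
  classical
  haveI := Fintype.ofFinite Ω
  obtain ⟨g, hg, x, y, hxy, hgx, hgy⟩ := hZ.2.2.2.1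
  obtain ⟨z, hzx, hzy⟩ := (RankOne.threeFree_of_zassenhaus hZ).exists_third x y
  rw [Nat.card_eq_fintype_card, ← Finset.card_univ]
  exact Finset.two_lt_card_iff.2 ⟨x, y, z, Finset.mem_univ _, Finset.mem_univ _, Finset.mem_univ _,
    hxy, Ne.symm hzx, Ne.symm hzy⟩

theorem twoPt_ne_bot_of_zassenhaus (hZ : Cfsg.IsZassenhausGroup G Ω) {a b : Ω} (hab : a ≠ b) :
    twoPt G a b ≠ ⊥ := fun e => by
  obtain ⟨d, hd1, hda, hdb⟩ := (RankOne.threeFree_of_zassenhaus hZ).exists_fix_pair hab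
  have : d ∈ twoPt G a b := ⟨hda, hdb⟩
  rw [e, mem_bot] at this
  exact hd1 this

/-- A Zassenhaus group has a simple Zassenhaus subgroup containing a given kernel. -/
theorem exists_simple_sub [Finite G] [Finite Ω] (hZ : Cfsg.IsZassenhausGroup G Ω) {a : Ω}
    {F : Subgroup G} (hF : IsKernel F a) :
    ∃ N : Subgroup G, F ≤ N ∧ Cfsg.IsZassenhausGroup N Ω ∧ IsSimpleGroup N := by
  classical
  let P : Subgroup G → Prop := fun N => F ≤ N ∧ Cfsg.IsZassenhausGroup N Ω
  have hP : P ⊤ := by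
    refine ⟨le_top, ?_⟩
    haveI : (⊤ : Subgroup G).Normal := inferInstance
    haveI := (RankOne.threeFree_of_zassenhaus hZ).faithful
    haveI : Nontrivial G := by
      obtain ⟨g, hg, -⟩ := hZ.2.2.2.1
      exact ⟨⟨g, 1, hg⟩⟩
    exact S0339.result hZ ⊤ top_ne_bot
  obtain ⟨N, ⟨hFN, hNZ⟩, hmin⟩ :=
    (Finite.to_wellFoundedLT (α := Subgroup G)).wf.has_min {N | P N} ⟨⊤, hP⟩
  refine ⟨N, hFN, hNZ, ?_⟩
  haveI : Nontrivial N := by
    obtain ⟨g, hg, -⟩ := hNZ.2.2.2.1
    exact ⟨⟨g, 1, hg⟩⟩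
  refine ⟨fun M hM => ?_⟩
  by_contra hcon
  rw [not_or] at hcon
  have hT := RankOne.threeFree_of_zassenhaus hNZ
  have hFM : F.subgroupOf N ≤ M := by
    refine hT.kernel_le hNZ.2.2.2.2 hcon.1 (a := a) (fun u hu => hF.fix (u : G) hu)
      (fun h hh x hx => hF.norm (h : G) hh (x : G) hx) fun y z hy hz => ?_
    obtain ⟨u, hu, huu⟩ := hF.reg y z hy hz
    exact ⟨⟨⟨u, hFN u.2⟩, u.2⟩, hu, fun w hw => Subtype.ext (Subtype.ext
      (congrArg Subtype.val (huu ⟨((w : N) : G), w.2⟩ hw) :))⟩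
  haveI := hM
  have hMZ : Cfsg.IsZassenhausGroup M Ω := S0339.result hNZ M hcon.1
  let M' := M.map N.subtype
  let e : M ≃* M' := M.equivMapOfInjective N.subtype N.subtype_injective
  have hsm : ∀ (m : M) (z : Ω), (e m) • z = m • z := fun m z => rfl
  have hM'Z : Cfsg.IsZassenhausGroup M' Ω := by
    obtain ⟨h1, h2, h3, ⟨g, hg, x, y, hxy, hgx, hgy⟩, h5⟩ := hMZ
    refine ⟨⟨fun {g g'} h => ?_⟩, ?_, fun g x y z hxy hyz hxz hx hy hz => ?_,
      ⟨e g, fun he => hg (e.injective (he.trans e.map_one.symm)), x, y, hxy, hgx, hgy⟩,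
      fun R hR hRt => ?_⟩
    · obtain ⟨m, rfl⟩ := e.surjective g
      obtain ⟨m', rfl⟩ := e.surjective g'
      exact congrArg e (h1.eq_of_smul_eq_smul h)
    · rw [is_two_pretransitive_iff]
      intro x y z w hxy hzw
      obtain ⟨m, hm1, hm2⟩ := MulAction.is_two_pretransitive_iff.1 h2 hxy hzw
      exact ⟨e m, hm1, hm2⟩
    · obtain ⟨m, rfl⟩ := e.surjective g
      rw [h3 m x y z hxy hyz hxz hx hy hz, map_one]
    · haveI := hR
      haveI : IsPretransitive (R.comap e.toMonoidHom) Ω := ⟨fun x y => by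
        obtain ⟨r, hr⟩ := hRt.exists_smul_eq x y
        refine ⟨⟨e.symm r, ?_⟩, ?_⟩
        · show e (e.symm r) ∈ R
          rw [e.apply_symm_apply]; exact r.2
        · show (e.symm (r : M')) • x = y
          rw [← hsm, e.apply_symm_apply]; exact hr⟩
      obtain ⟨c, hc⟩ := h5 (R.comap e.toMonoidHom) inferInstance this
      refine ⟨c, fun h => hc (eq_bot_iff.2 fun m hm => mem_bot.2 ?_)⟩
      have h6 : (⟨e m, m.2⟩ : R) ∈ stabilizer R c := hm
      rw [h, mem_bot] at h6
      exact Subtype.ext (e.injective ((congrArg Subtype.val h6).trans e.map_one.symm))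
  have hFM' : F ≤ M' := fun u hu => ⟨⟨u, hFN hu⟩, hFM hu, rfl⟩
  refine hmin M' ⟨hFM', hM'Z⟩ ?_
  refine lt_of_le_of_ne (map_subtype_le _) fun heq => hcon.2 ?_
  refine eq_top_iff.2 fun x _ => ?_
  obtain ⟨m, hm, he⟩ : (x : G) ∈ M' := (le_of_eq heq.symm) x.2
  have h7 : m = x := Subtype.ext he
  rw [← h7]
  exact hm

/-- No normal complement for the prime in a nonabelian simple group. -/
theorem no_normal_complement {N : Type*} [Group N] [Finite N] [IsSimpleGroup N]
    (hnc : ¬ ∀ x y : N, x * y = y * x) {q : ℕ} (hq : q.Prime) (hd : q ∣ Nat.card N) :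
    ¬ ∃ M : Subgroup N, M.Normal ∧ M.index = q ^ (Nat.card N).factorization q := by
  rintro ⟨M, hM, hi⟩
  rcases hM.eq_bot_or_eq_top with rfl | rfl
  · haveI := Fact.mk hq
    rw [index_bot] at hi
    have hp : IsPGroup q N := IsPGroup.of_card hi
    haveI := hp.isNilpotent
    haveI : Nontrivial N := inferInstance
    have hZ : center N ≠ ⊥ := (Subgroup.nontrivial_iff_ne_bot _).1 hp.center_nontrivial
    have hZt := ((inferInstance : (center N).Normal).eq_bot_or_eq_top).resolve_left hZ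
    exact hnc fun x y => mem_center_iff.1 (hZt ▸ mem_top y) x
  · rw [index_top] at hi
    have hpos := hq.factorization_pos_of_dvd Nat.card_pos.ne' hd
    have := Nat.one_lt_pow hpos.ne' hq.one_lt
    omega

/-- The theorem, with the order of the two-point stabiliser. -/
theorem abelian_kernel_cases [Finite G] [Finite Ω] (hZ : Cfsg.IsZassenhausGroup G Ω) {a b : Ω}
    (hab : a ≠ b) {F : Subgroup G} (hF : IsKernel F a)
    (hFc : ∀ x ∈ F, ∀ y ∈ F, x * y = y * x) :
    Nat.card (twoPt G a b) + 2 = Nat.card Ω ∨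
      (2 * Nat.card (twoPt G a b) + 2 = Nat.card Ω ∧
        ∃ (p f : ℕ) (K : Type) (_ : Field K) (_ : Fintype K), p.Prime ∧ p ≠ 2 ∧
          Fintype.card K = p ^ f ∧ Nat.card Ω = p ^ f + 1 ∧
          Nonempty (G ≃* Matrix.ProjectiveSpecialLinearGroup (Fin 2) K)) := by
  classical
  have C := zctx_of_zassenhaus hZ
  have h3 := three_le_of_zassenhaus hZ
  have hn := hF.card_eq hab
  have hdiv := hF.card_two_dvd C hab
  by_cases hfull : Nat.card (twoPt G a b) + 2 = Nat.card Ω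
  · exact Or.inl hfull
  refine Or.inr ?_
  obtain ⟨m, hm⟩ := hdiv
  have hdpos : 0 < Nat.card (twoPt G a b) := Nat.card_pos
  have hm2 : 2 ≤ m := by
    rcases m with _ | _ | m
    · rw [mul_zero] at hm; omega
    · omega
    · omega
  have hlow : 2 * Nat.card (twoPt G a b) ≤ Nat.card (twoPt G a b) * m := by
    rw [mul_comm]; exact Nat.mul_le_mul_left _ hm2
  rcases Nat.even_or_odd (Nat.card (twoPt G a b)) with heven | hodd
  · haveI := Fintype.ofFinite Ω
    have hb := S0741.result hZ hab heven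
    rw [← Nat.card_eq_fintype_card] at hb
    have heq : 2 * Nat.card (twoPt G a b) + 2 = Nat.card Ω := by
      have hb' : Nat.card Ω - 2 ≤ 2 * Nat.card (twoPt G a b) := hb
      omega
    obtain ⟨p, f, K, iK, iFK, hp, hp2, hK, hO, hiso⟩ := S0742.result hZ hab heven
      (by rw [← Nat.card_eq_fintype_card]; show 2 * Nat.card (twoPt G a b) ≤ _; omega)
    exact ⟨heq, p, f, K, iK, iFK, hp, hp2, hK, by rwa [Nat.card_eq_fintype_card], hiso⟩
  -- odd order: pass to a simple subgroup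
  obtain ⟨N, hFN, hNZ, hNs⟩ := exists_simple_sub hZ hF
  have CN := zctx_of_zassenhaus hNZ
  have hneN := twoPt_ne_bot_of_zassenhaus hNZ hab
  let ι : twoPt N a b →* twoPt G a b :=
    { toFun := fun h => ⟨((h : N) : G), h.2⟩
      map_one' := rfl
      map_mul' := fun _ _ => rfl }
  have hιi : Function.Injective ι := fun h k e => Subtype.ext (Subtype.ext (congrArg Subtype.val e :))
  have hdN : Nat.card (twoPt N a b) ∣ Nat.card (twoPt G a b) := card_dvd_of_injective ι hιi
  have hoddN : Odd (Nat.card (twoPt N a b)) := hodd.of_dvd_nat hdN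
  have hnc : ¬ ∀ x y : N, x * y = y * x := by
    intro hall
    obtain ⟨h, hh, hh1⟩ := (twoPt N a b).bot_or_exists_ne_one.resolve_left hneN
    obtain ⟨c, hca, hcb⟩ := exists_third h3 a b
    obtain ⟨g, hga, hgb⟩ := CN.two hab (Ne.symm hca)
    exact hh1 (CN.eq_one hab hh hca hcb (by rw [← hgb, ← mul_smul, hall, mul_smul, hh.2]))
  obtain ⟨hcycN, -, hinvN⟩ := CN.twoPt_inverted_odd h3 hab hoddN hneN
    fun q hq hqd => no_normal_complement hnc hq (hqd.trans (card_subgroup_dvd_card _))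
  have hFN' : IsKernel (F.subgroupOf N) a :=
    ⟨fun u hu => hF.fix (u : G) hu, fun g hg u hu => hF.norm (g : G) hg (u : G) hu, fun y z hy hz => by
      obtain ⟨u, hu, huu⟩ := hF.reg y z hy hz
      exact ⟨⟨⟨u, hFN u.2⟩, u.2⟩, hu, fun w hw => Subtype.ext (Subtype.ext
        (congrArg Subtype.val (huu ⟨((w : N) : G), w.2⟩ hw) :))⟩⟩
  let X : AbCtx N Ω := ⟨a, b, F.subgroupOf N, CN, h3, hab, hFN',
    fun x hx y hy => Subtype.ext (hFc _ hx _ hy),
    fun x hx y hy => congrArg Subtype.val (mul_comm' (⟨x, hx⟩ : twoPt N a b) ⟨y, hy⟩),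
    hinvN, hoddN⟩
  haveI := Fintype.ofFinite N
  have hbound := X.two_mul_bound ((one_lt_card_iff_ne_bot _).2 hneN)
  have hnN := X.card_F
  change Nat.card (F.subgroupOf N) ≤ 2 * Nat.card (twoPt N a b) + 1 at hbound
  change Nat.card (F.subgroupOf N) + 1 = Nat.card Ω at hnN
  have hle : Nat.card (twoPt N a b) ≤ Nat.card (twoPt G a b) := Nat.le_of_dvd hdpos hdN
  have heq : 2 * Nat.card (twoPt G a b) + 2 = Nat.card Ω := by omega
  have heqN : Nat.card (twoPt N a b) = Nat.card (twoPt G a b) := by omega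
  have hιs : Function.Surjective ι := (hιi.bijective_of_nat_card_le heqN.ge).2
  have hNtop : N = ⊤ := by
    refine eq_top_iff.2 fun g _ => ?_
    obtain ⟨c, hc⟩ : ∃ n : N, n • a = g • a := by
      by_cases hga : g • a = a
      · exact ⟨1, by rw [one_smul, hga]⟩
      · obtain ⟨n, hn, -⟩ := CN.two hab (v := a) hga
        exact ⟨n, hn⟩
    have hfix : ((c : G)⁻¹ * g) • a = a := by
      rw [mul_smul, inv_smul_eq_iff]; exact hc.symm
    set l := (c : G)⁻¹ * g with hl
    obtain ⟨u, hu, -⟩ := hF.reg b (l • b) (Ne.symm hab) fun e =>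
      hab (MulAction.injective l (hfix.trans e.symm))
    have hmem : (u : G)⁻¹ * l ∈ twoPt G a b :=
      ⟨by show ((u : G)⁻¹ * l) • a = a; rw [mul_smul, hfix, inv_smul_eq_iff, hF.fix u u.2],
        by show ((u : G)⁻¹ * l) • b = b; rw [mul_smul, inv_smul_eq_iff, hu]⟩
    obtain ⟨h, hh⟩ := hιs ⟨_, hmem⟩
    have hh' : ((h : N) : G) = (u : G)⁻¹ * l := congrArg Subtype.val hh
    have : g = (c : G) * ((u : G) * ((h : N) : G)) := by
      rw [hh', mul_inv_cancel_left, hl, mul_inv_cancel_left]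
    rw [this]
    exact N.mul_mem c.2 (N.mul_mem (hFN u.2) (h : N).2)
  obtain ⟨p, f, K, iK, iFK, hp, hp2, hK, hO, ⟨φ⟩⟩ :=
    CN.identify_odd h3 hab hFN' hoddN (by rw [heqN]; exact heq) hinvN
  exact ⟨heq, p, f, K, iK, iFK, hp, hp2, hK, hO,
    ⟨(Subgroup.topEquiv.symm.trans (MulEquiv.subgroupCongr hNtop.symm)).trans φ⟩⟩

end Cfsg.Agent.Zassenhaus
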