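import Cfsg.Agent.Zassenhaus.PrimePGL

/-!
A sharply triply transitive group whose point stabiliser is the affine group of a field is
`PGL(2, K)`.
-/

set_option autoImplicit false
set_option linter.style.haveILetI false

namespace Cfsg.Agent.Zassenhaus

open Subgroup MulAction
open scoped OnePoint

variable {G Ω : Type*} [Group G] [MulAction G Ω]

/-- The identification. -/
theorem ZCtx.identify_pgl_field [Finite G] [Finite Ω] (C : ZCtx G Ω) (h3 : 3 ≤ Nat.card Ω) {a b : Ω}
    (hab : a ≠ b) {P : Subgroup G} (hF : IsKernel P a) {K : Type} [Field K] [Fintype K]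
    [DecidableEq K] (e : Additive P ≃+ K) (μ₀ : twoPt G a b →* K)
    (hμ₀ : ∀ (h : twoPt G a b) (u : P),
      e (Additive.ofMul (hF.act h u)) = μ₀ h * e (Additive.ofMul u))
    (hμ₀s : ∀ x : K, x ≠ 0 → ∃ h, μ₀ h = x) (h2ne : (-1 : K) ≠ 1) :
    Nonempty (G ≃* Matrix.ProjGenLinGroup (Fin 2) K) := by
  classical
  let Tr : K → G := fun c => ((e.symm c).toMul : P)
  let pt : K → Ω := fun x => Tr x • b
  have hTrF : ∀ c, Tr c ∈ P := fun c => ((e.symm c).toMul).2
  have hTr_add : ∀ c d, Tr (c + d) = Tr c * Tr d := fun c d => by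
    simp only [Tr, map_add, toMul_add, Subgroup.coe_mul]
  have hTr0 : Tr 0 = 1 := by simp only [Tr, map_zero, toMul_zero, OneMemClass.coe_one]
  have hTra : ∀ c, Tr c • a = a := fun c => hF.fix _ (hTrF c)
  have hTrpt : ∀ c x, Tr c • pt x = pt (x + c) := fun c x => by
    show Tr c • Tr x • b = Tr (x + c) • b
    rw [← mul_smul, ← hTr_add, add_comm]
  have hpt0 : pt 0 = b := by show Tr 0 • b = b; rw [hTr0, one_smul]
  have hTrb : ∀ c, Tr c • b = pt c := fun _ => rfl
  have hptne : ∀ x, pt x ≠ a := fun x => hF.smul_ne (hTrF x) (Ne.symm hab)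
  have hptinj : Function.Injective pt := fun x y h =>
    e.symm.injective (Additive.toMul.injective (Subtype.ext
      (hF.eq_of_smul (hTrF x) (hTrF y) (Ne.symm hab) h)))
  have hptsurj : ∀ z : Ω, z ≠ a → ∃ x, pt x = z := fun z hz => by
    obtain ⟨u, hu, -⟩ := hF.reg b z (Ne.symm hab) hz
    refine ⟨e (Additive.ofMul u), ?_⟩
    show (((e.symm (e (Additive.ofMul u))).toMul : P) : G) • b = z
    rw [e.symm_apply_apply]; exact hu
  have hpt1b : pt 1 ≠ b := fun h => one_ne_zero (hptinj (h.trans hpt0.symm))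
  -- the two-point stabiliser as scalars
  let μ : twoPt G a b → K := fun h => μ₀ h
  have hμ : ∀ (h : twoPt G a b) (x : K), (h : G) • pt x = pt (μ h * x) := fun h x => by
    show (h : G) • Tr x • b = _
    rw [← hF.act_smul]
    show ((hF.act h (e.symm x).toMul : P) : G) • b = (((e.symm (μ₀ h * x)).toMul : P) : G) • b
    have h2 := hμ₀ h (e.symm x).toMul
    rw [ofMul_toMul, e.apply_symm_apply] at h2
    rw [← h2, e.symm_apply_apply]
    rfl
  have hμ1 : ∀ h : twoPt G a b, (h : G) • pt 1 = pt (μ h) := fun h => by rw [hμ, mul_one]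
  have hμmul : ∀ h k, μ (h * k) = μ h * μ k := fun h k => hptinj (by
    rw [← hμ1, Subgroup.coe_mul, mul_smul, hμ1, hμ])
  have hμinj : Function.Injective μ := fun h k hk => by
    refine Subtype.ext (inv_mul_eq_one.1 (C.eq_one hab (h⁻¹ * k : twoPt G a b).2 (hptne 1) hpt1b ?_))
    show ((h : G)⁻¹ * k) • pt 1 = pt 1
    rw [mul_smul, inv_smul_eq_iff, hμ1, hμ1, hk]
  have hμne : ∀ h, μ h ≠ 0 := fun h e0 => hab (by
    have h1 := hμ1 h
    rw [e0, hpt0] at h1
    exact absurd (MulAction.injective (h : G) (h1.trans h.2.2.symm)) hpt1b)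
  have hμsurj : ∀ x : K, x ≠ 0 → ∃ h, μ h = x := hμ₀s
  -- a normalised swapper
  obtain ⟨s, hsa, hsb, hs1⟩ : ∃ s : G, s • a = b ∧ s • b = a ∧ s • pt 1 = pt 1 := by
    obtain ⟨s₀, hs₀a, hs₀b⟩ := C.two hab (Ne.symm hab)
    obtain ⟨k, hk⟩ : ∃ k, pt k = s₀ • pt 1 := hptsurj _ fun h =>
      hpt1b (MulAction.injective s₀ (h.trans hs₀b.symm))
    have hk0 : k ≠ 0 := fun h => by
      rw [h, hpt0] at hk
      exact hptne 1 (MulAction.injective s₀ (hk.symm.trans hs₀a.symm))
    obtain ⟨h, hh⟩ := hμsurj k⁻¹ (inv_ne_zero hk0)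
    exact ⟨(h : G) * s₀, by rw [mul_smul, hs₀a]; exact h.2.2, by rw [mul_smul, hs₀b]; exact h.2.1,
      by rw [mul_smul, ← hk, hμ, hh, inv_mul_cancel₀ hk0]⟩
  have hss : s * s = 1 := C.three _ a b (pt 1) hab (Ne.symm hpt1b) (Ne.symm (hptne 1))
    (by rw [mul_smul, hsa, hsb]) (by rw [mul_smul, hsb, hsa]) (by rw [mul_smul, hs1, hs1])
  have hs2 : ∀ z : Ω, s • s • z = z := fun z => by rw [← mul_smul, hss, one_smul]
  have hνex : ∀ x : K, ∃ y : K, x ≠ 0 → pt y = s • pt x := fun x => by
    by_cases hx : x = 0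
    · exact ⟨0, fun h => absurd hx h⟩
    · obtain ⟨y, hy⟩ := hptsurj (s • pt x) fun h => hx (hptinj
        ((MulAction.injective s (h.trans hsb.symm)).trans hpt0.symm))
      exact ⟨y, fun _ => hy⟩
  choose ν hν using hνex
  have hνne : ∀ x, x ≠ 0 → ν x ≠ 0 := fun x hx h => by
    have := hν x hx
    rw [h, hpt0, ← hsa] at this
    exact hptne x (MulAction.injective s this).symm
  have hνν : ∀ x, x ≠ 0 → ν (ν x) = x := fun x hx => hptinj (by
    rw [hν _ (hνne x hx), hν x hx, hs2])
  have hν1 : ν 1 = 1 := hptinj (by rw [hν 1 one_ne_zero, hs1])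
  have hνmul : ∀ x y, x ≠ 0 → y ≠ 0 → ν (x * y) = ν x * ν y := fun x y hx hy => by
    obtain ⟨h, rfl⟩ := hμsurj x hx
    have hmem : s * (h : G) * s⁻¹ ∈ twoPt G a b := by
      have e1 : s⁻¹ = s := inv_eq_of_mul_eq_one_right hss
      rw [e1]
      exact ⟨by show (s * (h : G) * s) • a = a; rw [mul_smul, mul_smul, hsa, h.2.2, hsb],
        by show (s * (h : G) * s) • b = b; rw [mul_smul, mul_smul, hsb, h.2.1, hsa]⟩
    have key : ∀ z : K, z ≠ 0 → ν (μ h * z) = μ ⟨_, hmem⟩ * ν z := fun z hz => hptinj (by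
      rw [hν _ (mul_ne_zero (hμne h) hz), ← hμ, ← hμ, hν z hz]
      show s • (h : G) • pt z = (s * (h : G) * s⁻¹) • s • pt z
      rw [mul_smul, mul_smul, inv_smul_smul])
    have h1 := key 1 one_ne_zero
    rw [mul_one, hν1, mul_one] at h1
    rw [key y hy, h1]
  have hfix : ∀ x, x ≠ 0 → ν x = x → x = 1 ∨ x = -1 := by
    intro x hx hfx
    by_contra hcon
    rw [not_or] at hcon
    have hn1 : (-1 : K) ≠ 0 := neg_ne_zero.2 one_ne_zero
    by_cases hm : (-1 : K) = 1
    · -- characteristic two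
      exact absurd hm h2ne
    have hνm : ν (-1) = -1 := by
      have h : ν (-1) * ν (-1) = 1 := by rw [← hνmul _ _ hn1 hn1, neg_one_mul, neg_neg, hν1]
      rcases mul_self_eq_one_iff.1 h with h1 | h1
      · have h2 := hνν (-1) hn1
        rw [h1, hν1] at h2
        exact absurd h2.symm hm
      · exact h1
    have hs : s = 1 := C.three s (pt 1) (pt (-1)) (pt x) (fun e' => hm (hptinj e').symm)
      (fun e' => hcon.2 (hptinj e').symm) (fun e' => hcon.1 (hptinj e').symm) hs1
      (by rw [← hν _ hn1, hνm]) (by rw [← hν x hx, hfx])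
    rw [hs, one_smul] at hsa
    exact hab hsa
  obtain ⟨hm, hhm⟩ := hμsurj (-1) (neg_ne_zero.2 one_ne_zero)
  obtain ⟨r, hr⟩ : ∃ r, r = Tr 1 * ((hm : G) * s) := ⟨_, rfl⟩
  have hra : r • a = pt 1 := by rw [hr, mul_smul, mul_smul, hsa, show (hm : G) • b = b from hm.2.2, hTrb]
  have hrb : r • b = a := by rw [hr, mul_smul, mul_smul, hsb, show (hm : G) • a = a from hm.2.1, hTra]
  have hrx : ∀ x, x ≠ 0 → r • pt x = pt (1 - ν x) := fun x hx => by
    rw [hr, mul_smul, mul_smul, ← hν x hx, hμ, hhm, hTrpt]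
    ring_nf
  have hr1 : r • pt 1 = b := by rw [hrx 1 one_ne_zero, hν1, sub_self, hpt0]
  have hr3 : ∀ z : Ω, r • r • r • z = z := by
    have h : r * (r * r) = 1 := C.three _ a b (pt 1) hab (Ne.symm hpt1b) (Ne.symm (hptne 1))
      (by rw [mul_smul, mul_smul, hra, hr1, hrb]) (by rw [mul_smul, mul_smul, hrb, hra, hr1])
      (by rw [mul_smul, mul_smul, hr1, hrb, hra])
    intro z
    rw [← mul_smul r r z, ← mul_smul, h, one_smul]
  have hinv : ∀ x, x ≠ 0 → ν x = x⁻¹ := eq_inv_of_rel ν hνne hνmul hνν hfix fun x hx hy => by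
    have hz : 1 - ν (1 - ν x) ≠ 0 := fun h => by
      have h2 := hr3 (pt x)
      rw [hrx x hx, hrx _ hy, h, hpt0, hrb] at h2
      exact hptne x h2.symm
    refine ⟨hz, hptinj ?_⟩
    rw [← hrx _ hz, ← hrx _ hy, ← hrx x hx, hr3]
  have hs_formula : ∀ z : K, z ≠ 0 → s • pt z = pt z⁻¹ := fun z hz => by
    rw [← hν z hz, hinv z hz]
  -- the representation on the projective line
  let E : OnePoint K ≃ Ω := Equiv.ofBijective (fun o => OnePoint.elim o a pt)
    ⟨by
      intro x y h
      induction x using OnePoint.rec <;> induction y using OnePoint.rec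
      · rfl
      · exact absurd h.symm (hptne _)
      · exact absurd h (hptne _)
      · exact congrArg _ (hptinj h),
    fun z => by
      by_cases hz : z = a
      · exact ⟨OnePoint.infty, hz.symm⟩
      · obtain ⟨x, hx⟩ := hptsurj z hz
        exact ⟨(x : OnePoint K), hx⟩⟩
  let ρ : G →* Equiv.Perm (OnePoint K) :=
    { toFun := fun g => E.trans ((MulAction.toPerm g).trans E.symm)
      map_one' := by ext z; simp
      map_mul' := fun g h => by ext z; simp [mul_smul] }
  have hρ : ∀ g z, ρ g z = E.symm (g • E z) := fun _ _ => rfl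
  have hEi : E (OnePoint.infty) = a := rfl
  have hEc : ∀ x : K, E (x : OnePoint K) = pt x := fun _ => rfl
  have hρi : Function.Injective ρ := by
    rw [injective_iff_map_eq_one]
    intro g hg
    refine C.faithful h3 fun z => ?_
    obtain ⟨w, rfl⟩ := E.surjective z
    have := congrArg (fun σ : Equiv.Perm (OnePoint K) => E (σ w)) hg
    simpa [hρ] using this
  let W : GL (Fin 2) K :=
    Matrix.GeneralLinearGroup.mkOfDetNeZero !![0, 1; 1, 0] (by simp [Matrix.det_fin_two_of])
  let Af : ∀ (l c : K), l ≠ 0 → GL (Fin 2) K := fun l c hl =>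
    Matrix.GeneralLinearGroup.mkOfDetNeZero !![l, c; 0, 1] (by simp [Matrix.det_fin_two_of, hl])
  have hAf : ∀ (k : twoPt G a b) (c : K),
      ρ (Tr c * k) = glRep K (Af (μ k) c (hμne k)) := fun k c => by
    refine Equiv.ext fun z => ?_
    rw [hρ, Equiv.symm_apply_eq, glRep_apply]
    induction z using OnePoint.rec with
    | infty =>
      rw [OnePoint.smul_infty_eq_ite, mul_smul]
      simp [Af, hEi, show (k : G) • a = a from k.2.1, hTra]
    | coe z =>
      rw [OnePoint.smul_some_eq_ite, mul_smul]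
      simp [Af, hEc, hμ, hTrpt]
  have hρs : ρ s = glRep K W := by
    refine Equiv.ext fun z => ?_
    rw [hρ, Equiv.symm_apply_eq, glRep_apply]
    induction z using OnePoint.rec with
    | infty =>
      rw [OnePoint.smul_infty_eq_ite]
      simp [W, hEi, hEc, hpt0, hsa]
    | coe z =>
      rw [OnePoint.smul_some_eq_ite]
      by_cases hz : z = 0
      · subst hz; simp [W, hEi, hEc, hpt0, hsb]
      · simp [W, hz, hEc, hs_formula z hz]
  have hrange : ρ.range = (glRep K).range := by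
    have hA : ∀ g : G, g • a = a → ρ g ∈ (glRep K).range := by
      intro g hga
      obtain ⟨c, hc⟩ := hptsurj (g • b) fun h => hab (MulAction.injective g (hga.trans h.symm))
      have hmem : (Tr c)⁻¹ * g ∈ twoPt G a b :=
        ⟨by show ((Tr c)⁻¹ * g) • a = a; rw [mul_smul, hga, inv_smul_eq_iff, hTra],
          by show ((Tr c)⁻¹ * g) • b = b; rw [mul_smul, inv_smul_eq_iff, hTrb, hc]⟩
      exact ⟨_, (hAf ⟨_, hmem⟩ c).symm.trans (by rw [mul_inv_cancel_left])⟩
    refine le_antisymm ?_ ?_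
    · rintro _ ⟨g, rfl⟩
      by_cases hga : g • a = a
      · exact hA g hga
      obtain ⟨x, hx⟩ := hptsurj _ hga
      have hfix' : (s * (Tr x)⁻¹ * g) • a = a := by
        rw [mul_smul, mul_smul, ← hx, ← hTrb, inv_smul_smul, hsb]
      have h1 := mul_mem (mul_mem (hA (Tr x) (hTra x)) (inv_mem (show ρ s ∈ (glRep K).range from
        ⟨_, hρs.symm⟩))) (hA _ hfix')
      rwa [← map_inv, ← map_mul, ← map_mul,
        show Tr x * s⁻¹ * (s * (Tr x)⁻¹ * g) = g by group] at h1
    · have hB : ∀ M : GL (Fin 2) K, M • (∞ : OnePoint K) = ∞ →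
          glRep K M ∈ ρ.range := by
        intro M hM
        rw [OnePoint.smul_infty_eq_self_iff] at hM
        have h11 : M 1 1 ≠ 0 := fun e => M.det_ne_zero (by rw [Matrix.det_fin_two, hM, e]; ring)
        have h00 : M 0 0 ≠ 0 := fun e => M.det_ne_zero (by rw [Matrix.det_fin_two, hM, e]; ring)
        obtain ⟨k, hk⟩ := hμsurj (M 0 0 / M 1 1) (div_ne_zero h00 h11)
        refine ⟨Tr (M 0 1 / M 1 1) * (k : G), ?_⟩
        rw [hAf]
        refine Equiv.ext fun z => ?_
        rw [glRep_apply, glRep_apply]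
        induction z using OnePoint.rec with
        | infty => simp [OnePoint.smul_infty_eq_ite, Af, hM]
        | coe z =>
          simp [OnePoint.smul_some_eq_ite, Af, hM, hk, h11, div_mul_eq_mul_div, ← add_div]
      rintro _ ⟨M, rfl⟩
      by_cases hM : M • (∞ : OnePoint K) = ∞
      · exact hB M hM
      obtain ⟨x, hx⟩ : ∃ x : K, M • (∞ : OnePoint K) = (x : OnePoint K) := by
        generalize M • (∞ : OnePoint K) = o at hM
        induction o using OnePoint.rec with
        | infty => exact absurd rfl hM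
        | coe x => exact ⟨x, rfl⟩
      obtain ⟨k1, hk1⟩ := hμsurj 1 one_ne_zero
      set A := Af (μ k1) (-x) (hμne k1) with hA'
      have hfix' : (W * A * M) • (∞ : OnePoint K) = ∞ := by
        rw [mul_smul, mul_smul, hx, OnePoint.smul_some_eq_ite]
        simp [hA', Af, hk1, OnePoint.smul_some_eq_ite, W]
      have h1 := mul_mem (inv_mem (show glRep K (W * A) ∈ ρ.range
        from ⟨s * (Tr (-x) * k1), by rw [map_mul, map_mul (glRep K), hρs, hAf]⟩)) (hB _ hfix')
      rwa [← map_inv, ← map_mul, inv_mul_cancel_left] at h1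
  exact ⟨(MonoidHom.ofInjective hρi).trans ((MulEquiv.subgroupCongr hrange).trans
    ((QuotientGroup.quotientKerEquivRange (glRep K)).symm.trans
      (QuotientGroup.quotientMulEquivOfEq (glRep_ker (K := K)))))⟩

end Cfsg.Agent.Zassenhaus
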