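import Cfsg.Agent.Zassenhaus.DegSum

/-!
A nilpotent kernel whose order is not a prime power has slowly growing degrees.
-/

set_option autoImplicit false
set_option linter.unusedSectionVars false
set_option linter.style.haveILetI false

namespace Cfsg.Agent.Zassenhaus

open Subgroup MulAction

universe u v

/-- A normal subgroup of order prime to its index is invariant under every automorphism. -/
theorem mem_of_coprime_index {F : Type*} [Group F] [Finite F] (R : Subgroup F) [R.Normal]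
    (h : (Nat.card R).Coprime R.index) (σ : F ≃* F) {x : F} (hx : x ∈ R) : σ x ∈ R := by
  rw [← QuotientGroup.eq_one_iff, ← orderOf_eq_one_iff]
  refine Nat.eq_one_of_dvd_coprimes h ?_ ?_
  · refine (orderOf_map_dvd (QuotientGroup.mk' R) (σ x)).trans ?_
    rw [σ.orderOf_eq]
    exact Subgroup.orderOf_dvd_natCard R hx
  · rw [Subgroup.index_eq_card]
    exact _root_.orderOf_dvd_natCard _

theorem one_lt_index_commutator {H : Type*} [Group H] [Finite H] [Nontrivial H]
    [Group.IsNilpotent H] : 1 < (commutator H).index :=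
  Subgroup.one_lt_index_of_ne_top fun h => by
    have hs : Group.IsSolvable H := inferInstance
    exact (Group.IsSolvable.commutator_lt_top_of_nontrivial H).ne h

namespace NCtx

variable {G : Type u} {Ω : Type v} [Group G] [MulAction G Ω] [Fintype G] [Finite Ω]
  (X : NCtx G Ω)

set_option maxHeartbeats 1000000 in
open scoped Classical in
/-- The two-point stabiliser permutes freely the nontrivial characters of an invariant quotient
of the kernel. -/
theorem orbit_le (R : Subgroup X.K) [R.Normal] (hR : (Nat.card R).Coprime R.index)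
    (β : IrrCharacter (X.K ⧸ R)) (hβ : (β : X.K ⧸ R → ℂ) ≠ fun _ => 1) :
    Nat.card (twoPt G X.a X.b) ≤ (Finset.univ.filter fun β' : IrrCharacter (X.K ⧸ R) =>
      cdeg β' = cdeg β ∧ (β' : X.K ⧸ R → ℂ) ≠ fun _ => 1).card := by
  classical
  let ψ : X.K → ℂ := fun x => (β : X.K ⧸ R → ℂ) (QuotientGroup.mk x)
  have hψ : IsIrrCharacter X.K ψ := Char.isIrrCharacter_mk R β.2
  have hψ1 : ψ ≠ fun _ => 1 := fun e => hβ (funext fun q => by
    obtain ⟨x, rfl⟩ := QuotientGroup.mk_surjective q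
    exact congrFun e x)
  have hin := Coherence.FrobKernel.inertia_eq X.centralizer_le hψ hψ1
  have hex : ∀ h : twoPt G X.a X.b, ∃ β' : IrrCharacter (X.K ⧸ R),
      ∀ x : X.K, Char.conjFun (⟨h, h.2.1⟩ : X.L) ψ x = (β' : X.K ⧸ R → ℂ) (QuotientGroup.mk x) := by
    intro h
    obtain ⟨φ, hφ, he⟩ := Char.IsIrr.exists_quotient R (Char.isIrr_conjFun (⟨h, h.2.1⟩ : X.L) hψ)
      fun r hr => by
        show ψ (MulAut.conjNormal (⟨h, h.2.1⟩ : X.L) r) =
          ψ (MulAut.conjNormal (⟨h, h.2.1⟩ : X.L) 1)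
        simp only [ψ, map_one]
        rw [(QuotientGroup.eq_one_iff _).2 (mem_of_coprime_index R hR _ hr), QuotientGroup.mk_one]
    exact ⟨⟨φ, hφ⟩, he⟩
  choose β' hβ' using hex
  have hdeg : ∀ h, cdeg (β' h) = cdeg β := fun h => cdeg_eq (by
    rw [← (cdeg_spec β).2]
    have h1 := hβ' h 1
    rw [Char.conjFun_apply_one, QuotientGroup.mk_one] at h1
    exact h1.symm)
  rw [Nat.card_eq_fintype_card, ← Finset.card_univ]
  refine Finset.card_le_card_of_injOn β' ?_ ?_
  · intro h _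
    rw [Finset.mem_coe, Finset.mem_filter]
    refine ⟨Finset.mem_univ _, hdeg h, fun e => hψ1 ?_⟩
    funext x
    obtain ⟨y, rfl⟩ := (MulAut.conjNormal (⟨h, h.2.1⟩ : X.L) : MulAut X.K).surjective x
    exact (hβ' h y).trans (congrFun e _)
  · intro h _ k _ e
    have e1 : Char.conjFun (⟨h, h.2.1⟩ : X.L) ψ = Char.conjFun (⟨k, k.2.1⟩ : X.L) ψ :=
      funext fun x => by rw [hβ' h, hβ' k, e]
    have e2 : (⟨h, h.2.1⟩ : X.L) * (⟨k, k.2.1⟩ : X.L)⁻¹ ∈ Char.inertia ψ := by
      refine Char.mem_inertia.2 (funext fun x => ?_)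
      have h3 := congrFun e1 ((MulAut.conjNormal (⟨k, k.2.1⟩ : X.L) : MulAut X.K).symm x)
      simp only [Char.conjFun_apply] at h3 ⊢
      refine Eq.trans ?_ (h3.trans ?_)
      · congr 1
        exact Subtype.ext (by simp [mul_assoc])
      · congr 1
        exact Subtype.ext (by simp [mul_assoc])
    rw [hin] at e2
    have h4 : (h : G) * (k : G)⁻¹ = 1 :=
      X.ker.eq_one_of_fix e2 (Ne.symm X.hab) (by
        rw [mul_smul, inv_smul_eq_iff.2 k.2.2.symm, h.2.2])
    exact Subtype.ext (mul_inv_eq_one.1 h4)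

/-- An invariant nontrivial quotient of the kernel has more linear characters than the order of
the two-point stabiliser. -/
theorem lt_dsum_two (R : Subgroup X.K) [R.Normal] (hR : (Nat.card R).Coprime R.index)
    (hnil : Group.IsNilpotent X.K) (hne : 1 < R.index) :
    Nat.card (twoPt G X.a X.b) + 1 ≤ dsum (X.K ⧸ R) 2 := by
  classical
  haveI := hnil
  haveI : Nontrivial (X.K ⧸ R) := Finite.one_lt_card_iff_nontrivial.1 (by
    rwa [← Subgroup.index_eq_card])
  have h1 := one_lt_index_commutator (H := X.K ⧸ R)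
  rw [← Char.card_linear, Finite.one_lt_card_iff_nontrivial] at h1
  obtain ⟨β, hβ⟩ := exists_ne (⟨⟨fun _ => 1, Char.isIrrCharacter_one⟩, rfl⟩ :
    {χ : IrrCharacter (X.K ⧸ R) // (χ : X.K ⧸ R → ℂ) 1 = 1})
  have hβ1 : cdeg β.1 = 1 := cdeg_eq (by rw [β.2, Nat.cast_one])
  have horb := X.orbit_le R hR β.1 fun e => hβ (Subtype.ext (Subtype.ext e))
  rw [hβ1] at horb
  let one : IrrCharacter (X.K ⧸ R) := ⟨fun _ => 1, Char.isIrrCharacter_one⟩
  rw [dsum]
  refine le_trans (Nat.add_le_add_right horb 1) ?_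
  rw [← Finset.card_insert_of_notMem (a := one) (fun h => (Finset.mem_filter.1 h).2.2 rfl),
    Finset.card_eq_sum_ones]
  refine le_trans (Finset.sum_le_sum fun χ _ => ?_) (Finset.sum_le_sum_of_subset fun χ hχ => ?_)
  · exact Nat.mul_pos (cdeg_spec χ).1 (cdeg_spec χ).1
  · refine Finset.mem_filter.2 ⟨Finset.mem_univ _, ?_⟩
    rcases Finset.mem_insert.1 hχ with rfl | h
    · rw [show cdeg one = 1 from cdeg_eq (by simp [one])]
      omega
    · rw [(Finset.mem_filter.1 h).2.1]
      omega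

/-- The splitting at a prime. -/
theorem exists_split (hd1 : 1 < Nat.card (twoPt G X.a X.b)) {p : ℕ} [hp : Fact p.Prime]
    (hnp : ¬IsPrimePow (Nat.card X.F)) (hpn : p ∣ Nat.card X.F) :
    ∃ (P R : Subgroup X.K) (_ : P.Normal) (_ : R.Normal) (e : ℕ),
      Nonempty (X.K ≃* (X.K ⧸ R) × (X.K ⧸ P)) ∧ R.index = p ^ e ∧ ¬p ∣ P.index ∧
      (Nat.card R).Coprime R.index ∧ (Nat.card P).Coprime P.index ∧
      1 < R.index ∧ 1 < P.index ∧ Group.IsNilpotent X.K := by
  have hnil := Coherence.FrobKernel.isNilpotent X.centralizer_le (X.K_ne_top hd1)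
  obtain ⟨P, R, hRn, hc⟩ := Coherence.hasNormalPComplement_of_isNilpotent hnil p
  haveI : (P : Subgroup X.K).Normal :=
    (Group.isNilpotent_of_finite_tfae.out 0 3 rfl rfl).mp hnil p inferInstance P
  obtain ⟨e, he⟩ := P.2.exists_card_eq
  have hcop : (Nat.card (P : Subgroup X.K)).Coprime (P : Subgroup X.K).index := by
    rw [he]
    exact (hp.out.coprime_iff_not_dvd.2 P.not_dvd_index).pow_left e
  have hRi : R.index = Nat.card (P : Subgroup X.K) := hc.symm.index_eq_card
  have hPi : (P : Subgroup X.K).index = Nat.card R := hc.index_eq_card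
  have hinj : Function.Injective
      ((QuotientGroup.mk' R).prod (QuotientGroup.mk' (P : Subgroup X.K))) := by
    refine (injective_iff_map_eq_one _).2 fun x hx => ?_
    rw [MonoidHom.prod_apply, Prod.mk_eq_one, QuotientGroup.mk'_apply, QuotientGroup.mk'_apply,
      QuotientGroup.eq_one_iff, QuotientGroup.eq_one_iff] at hx
    exact Subgroup.disjoint_def.1 hc.disjoint hx.1 hx.2
  have hcard : Nat.card X.K = Nat.card ((X.K ⧸ R) × (X.K ⧸ (P : Subgroup X.K))) := by
    rw [Nat.card_prod, ← Subgroup.index_eq_card, ← Subgroup.index_eq_card, hRi, hPi, mul_comm]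
    exact hc.card_mul_card.symm
  have hP1 : 1 < Nat.card (P : Subgroup X.K) :=
    Finite.one_lt_card_iff_nontrivial.2 ((Subgroup.nontrivial_iff_ne_bot _).2
      (P.ne_bot_of_dvd_card (by rwa [X.card_K])))
  refine ⟨P, R, inferInstance, hRn, e,
    ⟨MulEquiv.ofBijective _ (hinj.bijective_of_nat_card_le hcard.ge)⟩, hRi.trans he,
    P.not_dvd_index, by rw [hRi, ← hPi]; exact hcop.symm, hcop, hRi ▸ hP1, ?_, hnil⟩
  rw [hPi]
  by_contra hR1
  have hR0 : 0 < Nat.card R := Nat.card_pos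
  have h2 := hc.card_mul_card
  rw [show Nat.card R = 1 by omega, one_mul, he, X.card_K] at h2
  have he0 : e ≠ 0 := fun h0 => by rw [he, h0, pow_zero] at hP1; omega
  exact hnp ⟨p, e, hp.out.prime, Nat.pos_of_ne_zero he0, h2⟩

/-- A kernel of order not a prime power is not so large. -/
theorem two_mul_bound_of_not_primePow (hd1 : 1 < Nat.card (twoPt G X.a X.b))
    (hnp : ¬IsPrimePow (Nat.card X.F)) :
    Nat.card X.F ≤ 2 * Nat.card (twoPt G X.a X.b) + 1 := by
  classical
  set d := Nat.card (twoPt G X.a X.b) with hd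
  have hd3 : 3 ≤ d := by have := X.odd; obtain ⟨j, hj⟩ := this; omega
  by_cases hn1 : Nat.card X.F = 1
  · omega
  obtain ⟨q, hq, hqn⟩ := Nat.exists_prime_and_dvd hn1
  haveI := Fact.mk hq
  obtain ⟨P, R, _, _, e, ⟨f⟩, -, -, hRc, hPc, hR1, hP1, hnil⟩ := X.exists_split hd1 hnp hqn
  have hA2 := X.lt_dsum_two R hRc hnil hR1
  have hB2 := X.lt_dsum_two P hPc hnil hP1
  have hlin : (d + 1) * (d + 1) ≤ dsum X.K 2 :=
    (Nat.mul_le_mul hA2 hB2).trans (dsum_mul_le f fun x y hx hy => by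
      have : x * y ≤ 1 * 1 := Nat.mul_le_mul (by omega) (by omega)
      omega)
  have hle : dsum X.K 2 ≤ Nat.card X.K := by
    rw [dsum_two]
    exact Nat.le_of_dvd Nat.card_pos (Subgroup.index_dvd_card _)
  rw [X.card_K] at hle
  refine X.two_mul_bound_of_grow hd1 ?_ ?_ ?_
  · rw [← dsum_two]
    refine le_trans ?_ hlin
    rw [← hd]
    nlinarith
  · rw [← hd]
    nlinarith
  intro ψ hψ
  rw [← hd]
  show _ ≤ dsum X.K (cdeg ψ)
  obtain ⟨p, hp, hpc⟩ := Nat.exists_prime_and_dvd (show cdeg ψ ≠ 1 by omega)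
  haveI := Fact.mk hp
  obtain ⟨P, R, _, _, e, ⟨f⟩, hRi, hPp, hRc, hPc, hR1, hP1, -⟩ := X.exists_split hd1 hnp
    ((hpc.trans (cdeg_dvd ψ)).trans (dvd_of_eq X.card_K))
  obtain ⟨α, β, hαβ⟩ := exists_prodIrr f ψ
  have hc : cdeg ψ = cdeg α * cdeg β := by rw [← hαβ, cdeg_prodIrr]
  rw [Subgroup.index_eq_card] at hRi
  have hpβ : ¬p ∣ cdeg β := fun h => hPp (by
    rw [Subgroup.index_eq_card]; exact h.trans (cdeg_dvd β))
  have hα1 : 1 < cdeg α := by
    have h0 := (cdeg_spec α).1
    by_contra hα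
    rw [hc, show cdeg α = 1 by omega, one_mul] at hpc
    exact hpβ hpc
  have hAsq := sq_le_dsum hp hRi hα1
  have hA2 := (X.lt_dsum_two R hRc hnil hR1).trans (dsum_mono (b := 2) (c := cdeg α) hα1)
  have hB2 := X.lt_dsum_two P hPc hnil hP1
  rw [← hd] at hA2 hB2
  have hprod : dsum (X.K ⧸ R) (cdeg α) * dsum (X.K ⧸ P) (cdeg β + 1) ≤ dsum X.K (cdeg ψ) :=
    dsum_mul_le f fun x y hx hy => by
      rw [hc]
      exact lt_of_le_of_lt (Nat.mul_le_mul_left x (Nat.le_of_lt_succ hy))
        (Nat.mul_lt_mul_of_pos_right hx (cdeg_spec β).1)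
  refine le_trans ?_ hprod
  rw [hc]
  rcases Nat.eq_or_lt_of_le (cdeg_spec β).1 with hb' | hb
  · have hb : cdeg β = 1 := hb'.symm
    rw [hb, mul_one]
    show _ ≤ dsum (X.K ⧸ R) (cdeg α) * dsum (X.K ⧸ P) 2
    rcases Nat.eq_or_lt_of_le hα1 with ha' | ha
    · -- `p = 2`: the cofactor is odd
      have ha : cdeg α = 2 := ha'.symm
      rw [ha] at hA2 ⊢
      have hp2 : p = 2 := by
        rw [hc, ha, hb] at hpc
        exact (Nat.prime_dvd_prime_iff_eq hp Nat.prime_two).1 hpc
      have hBd : d + 2 ≤ dsum (X.K ⧸ P) 2 := by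
        rcases Nat.eq_or_lt_of_le hB2 with h | h
        · exfalso
          refine hPp ?_
          rw [hp2, Subgroup.index_eq_card]
          refine dvd_trans ?_ (Subgroup.index_dvd_card (commutator (X.K ⧸ P)))
          rw [← dsum_two, ← h, hd]
          exact even_iff_two_dvd.1 X.odd.add_one
        · omega
      have := Nat.mul_le_mul hA2 hBd
      nlinarith
    · have h := Nat.mul_le_mul hAsq hB2
      obtain ⟨a, ha'⟩ : ∃ a, a = cdeg α := ⟨_, rfl⟩
      rw [← ha'] at h ⊢
      have h7 : 2 * a + 3 ≤ a * a := le_trans (show 2 * a + 3 ≤ 3 * a by omega)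
        (Nat.mul_le_mul_right a (show 3 ≤ a by omega))
      have h8 : (2 * a + 2) * d ≤ a * a * d := Nat.mul_le_mul_right d (by omega)
      rw [show a * a * (d + 1) = a * a * d + a * a by ring] at h
      omega
  · have hBb : dsum (X.K ⧸ P) 2 + d * (cdeg β * cdeg β) ≤ dsum (X.K ⧸ P) (cdeg β + 1) := by
      refine dsum_add_le hb ((X.orbit_le P hPc β fun e => ?_).trans (Finset.card_le_card fun χ hχ =>
        Finset.mem_filter.2 ⟨Finset.mem_univ _, (Finset.mem_filter.1 hχ).2.1⟩))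
      have : cdeg β = 1 := cdeg_eq (by rw [e, Nat.cast_one])
      omega
    have h := Nat.mul_le_mul hAsq (le_trans (Nat.add_le_add_right hB2 _) hBb)
    refine le_trans ?_ h
    obtain ⟨a, ha'⟩ : ∃ a, a = cdeg α := ⟨_, rfl⟩
    obtain ⟨b, hb'⟩ : ∃ b, b = cdeg β := ⟨_, rfl⟩
    rw [← ha', ← hb']
    have h4 : 4 ≤ a * a := Nat.mul_le_mul (show 2 ≤ a by omega) (show 2 ≤ a by omega)
    have h2 : 2 ≤ a * b := le_trans (show 2 ≤ 2 * 1 by omega)
      (Nat.mul_le_mul (show 2 ≤ a by omega) (show 1 ≤ b by omega))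
    have e : a * a * (d + 1 + d * (b * b)) = a * a * d + a * a + a * b * (a * b) * d := by ring
    have h5 : 2 * (a * b) * d ≤ a * b * (a * b) * d :=
      Nat.mul_le_mul_right d (Nat.mul_le_mul_right _ h2)
    have h6 : 4 * d ≤ a * a * d := Nat.mul_le_mul_right d h4
    rw [e, add_mul]
    omega

end NCtx

end Cfsg.Agent.Zassenhaus
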