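import Cfsg.Agent.Zassenhaus.EvenChars

/-!
# Simple Zassenhaus groups with a nonabelian 2-group as kernel: the kernel has order `q²`
-/

set_option autoImplicit false

namespace Cfsg.Agent.Zassenhaus

open Subgroup MulAction
open scoped ComplexConjugate

universe u v

set_option linter.unusedSectionVars false

variable {G : Type u} {Ω : Type v} [Group G] [MulAction G Ω] [Fintype G] [Fintype Ω]

/-- The square of a sum is, modulo 2, the sum of the squares. -/
theorem exists_half_sq_sub {ι : Type*} (s : Finset ι) (w : ι → ℕ) (y : ι → ℂ)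
    (hy : ∀ i, IsIntegral ℤ (y i)) :
    ∃ A z : ℂ, IsIntegral ℤ A ∧ IsIntegral ℤ z ∧ A = ∑ i ∈ s, (w i : ℂ) * y i ∧
      A * A - ∑ i ∈ s, (w i : ℂ) * (y i * y i) = 2 * z := by
  classical
  induction s using Finset.induction_on with
  | empty => exact ⟨0, 0, isIntegral_zero, isIntegral_zero, by simp, by simp⟩
  | insert i s hi ih =>
    obtain ⟨A, z, hA, hz, hAe, hzA⟩ := ih
    obtain ⟨k, hk⟩ : 2 ∣ w i * (w i - 1) := (Nat.even_mul_pred_self (w i)).two_dvd
    have hk' : (w i : ℂ) * w i - w i = 2 * k := by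
      have h1 : w i * w i = 2 * k + w i := by
        rw [← hk]
        rcases w i with _ | n
        · rfl
        · simp [Nat.mul_succ, Nat.succ_sub_one]
      rw [sub_eq_iff_eq_add]
      exact_mod_cast h1
    have hw : ∀ n : ℕ, IsIntegral ℤ (n : ℂ) := fun n => isIntegral_algebraMap (x := (n : ℤ))
    refine ⟨(w i : ℂ) * y i + A, z + (k : ℂ) * (y i * y i) + (w i : ℂ) * y i * A, ?_, ?_, ?_, ?_⟩
    · exact ((hw _).mul (hy i)).add hA
    · exact (hz.add ((hw _).mul ((hy i).mul (hy i)))).add (((hw _).mul (hy i)).mul hA)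
    · rw [Finset.sum_insert hi, ← hAe]
    · rw [Finset.sum_insert hi]
      linear_combination hzA + (y i * y i) * hk'

namespace EvenCtx

variable {a b : Ω} {U : Subgroup G} (Xe : EvenCtx G a b U)
include Xe

set_option maxHeartbeats 1000000 in
/-- The kernel has order `q²`. -/
theorem card_kernel_sq [IsSimpleGroup G] : Nat.card U = (Nat.card (twoPt G a b) + 1) ^ 2 := by
  classical
  refine Xe.card_kernel.resolve_right fun hN => ?_
  have hd3 := Xe.odd.three_le_card
  have hdodd := Xe.odd.odd
  let X := Xe.toN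
  haveI := Fintype.ofFinite X.L
  haveI : Fintype Xe.zL := Fintype.ofFinite _
  set d := Nat.card (twoPt G a b) with hd
  set N := Nat.card U with hNdef
  set q := d + 1 with hq
  have hL : Nat.card X.L = N * d := X.card_L
  have hcardG : Nat.card G = (N + 1) * (N * d) := Xe.card_group
  -- the characters of the stabiliser
  set Triv : IrrCharacter X.L → Prop :=
    fun θ => ∀ z ∈ Xe.zL, (θ : X.L → ℂ) z = (θ : X.L → ℂ) 1 with hTriv
  have hlinTriv : ∀ θ, X.IsLin θ → Triv θ := fun θ h z hz => h z (Xe.zL_le hz)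
  set w : IrrCharacter X.L → ℕ := fun θ => cdeg θ / d with hwdef
  have hweight : ∀ θ, ¬X.IsLin θ →
      cdeg θ = d * w θ ∧ (∃ j, w θ = 2 ^ j) ∧ (Triv θ → w θ = 1) := by
    intro θ h
    obtain ⟨w', j, h1, h2, h3⟩ := Xe.exists_weight h
    have hww : w θ = w' := by
      show cdeg θ / d = w'
      rw [h1]
      exact Nat.mul_div_cancel_left _ (by omega)
    rw [hww]
    exact ⟨h1, ⟨j, h2⟩, h3⟩
  set Low := {θ : IrrCharacter X.L // ¬X.IsLin θ ∧ Triv θ} with hLowdef
  have hLowdeg : ∀ i : Low, cdeg i.1 = d := fun i => by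
    rw [(hweight _ i.2.1).1, (hweight _ i.2.1).2.2 i.2.2, mul_one]
  have hsumAll : ∑ θ : IrrCharacter X.L, cdeg θ ^ 2 = N * d := by
    have h := Char.sum_sq_degree (G := X.L)
    simp only [(cdeg_spec _).2] at h
    rw [← hL]
    exact_mod_cast h
  have hindex : Xe.zL.index = q * q * d := by
    have h := Subgroup.card_mul_index Xe.zL
    rw [Xe.card_zL, show Nat.card (stabilizer G a) = N * d from hL, hN] at h
    refine Nat.eq_of_mul_eq_mul_left (show 0 < q by omega) ?_
    rw [show q * Xe.zL.index = _ from h]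
    ring
  have hcardLow : Fintype.card Low = q + 1 := by
    have h := Xe.sum_trivial
    rw [hindex, ← Finset.sum_filter_add_sum_filter_not (Finset.univ.filter Triv) X.IsLin,
      Finset.filter_filter, Finset.filter_filter,
      Finset.sum_congr rfl (g := fun _ => 1) (fun θ hθ => by
        rw [X.cdeg_lin (Finset.mem_filter.1 hθ).2.2, one_pow]),
      Finset.sum_congr rfl (s₁ := Finset.univ.filter fun θ => Triv θ ∧ ¬X.IsLin θ)
        (g := fun _ => d ^ 2) (fun θ hθ => by
          rw [hLowdeg ⟨θ, (Finset.mem_filter.1 hθ).2.2, (Finset.mem_filter.1 hθ).2.1⟩]),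
      Finset.sum_const, Finset.sum_const, smul_eq_mul, smul_eq_mul, mul_one] at h
    have h1 : (Finset.univ.filter fun θ => Triv θ ∧ X.IsLin θ).card = d := by
      rw [show d = Nat.card {θ : IrrCharacter X.L // X.IsLin θ} from X.card_lin.symm,
        Nat.card_eq_fintype_card, Fintype.card_subtype]
      congr 1
      exact Finset.filter_congr fun θ _ => ⟨fun h => h.2, fun h => ⟨hlinTriv θ h, h⟩⟩
    have h2 : (Finset.univ.filter fun θ => Triv θ ∧ ¬X.IsLin θ).card = Fintype.card Low := by
      refine Eq.trans ?_ (Fintype.card_subtype _).symm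
      congr 1
      exact Finset.filter_congr fun θ _ => and_comm
    rw [h1, h2] at h
    refine Nat.eq_of_mul_eq_mul_right (show 0 < d ^ 2 by positivity) ?_
    have h3 : q * q * d = d + (q + 1) * d ^ 2 := by rw [hq]; ring
    omega
  set High : Finset (IrrCharacter X.L) := Finset.univ.filter fun θ => ¬Triv θ with hHigh
  have hHighnl : ∀ η ∈ High, ¬X.IsLin η := fun η hη h =>
    (Finset.mem_filter.1 hη).2 (hlinTriv η h)
  have hsumHigh : ∑ η ∈ High, w η ^ 2 = q * q := by
    have h := hsumAll
    rw [← Finset.sum_filter_add_sum_filter_not Finset.univ Triv, Xe.sum_trivial, hindex,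
      Finset.sum_congr rfl (s₁ := Finset.univ.filter fun θ => ¬Triv θ)
        (g := fun η => d ^ 2 * w η ^ 2)
        (fun η hη => by rw [(hweight η (hHighnl η hη)).1, mul_pow]), ← Finset.mul_sum, hN] at h
    refine Nat.eq_of_mul_eq_mul_left (show 0 < d ^ 2 by positivity) ?_
    have h3 : q ^ 3 * d = q * q * d + d ^ 2 * (q * q) := by rw [hq]; ring
    change q * q * d + d ^ 2 * ∑ η ∈ High, w η ^ 2 = q ^ 3 * d at h
    omega
  -- the rows of the characters trivial on the centre
  set u : Low → IrrCharacter G → ℤ := fun i χ => (X.mult i.1 χ : ℤ) with hu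
  have hgram : ∀ i j : Low,
      ∑ χ, X.mult i.1 χ * X.mult j.1 χ = (if i = j then 1 else 0) + d := by
    intro i j
    rw [X.gram_nonlin i.1 j.1 j.2.1 (aη := 1) (by rw [hLowdeg, mul_one]), hLowdeg, mul_one]
    congr 1
    by_cases hij : i = j
    · rw [if_pos hij, if_pos (congrArg Subtype.val hij)]
    · rw [if_neg hij, if_neg fun h => hij (Subtype.ext h)]
  have hdegrow : ∀ θ, ∑ χ, X.mult θ χ * cdeg χ = (N + 1) * cdeg θ := by
    intro θ
    have h := X.ind_expansion θ 1
    rw [X.ind_one, ← X.card_F, (cdeg_spec θ).2] at h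
    simp only [(cdeg_spec _).2] at h
    exact_mod_cast h.symm
  obtain ⟨i₁, i₂, i₃, h12, h13, h23⟩ :=
    (Fintype.two_lt_card_iff (α := Low)).1 (by omega)
  obtain ⟨e, c, ε, hε, hue⟩ := exists_seed u (fun χ => (cdeg χ : ℤ))
    (fun χ => by exact_mod_cast (cdeg_spec χ).1) (d : ℤ) (((N + 1) * d : ℕ) : ℤ)
    (fun i j hij => by
      have := hgram i j
      rw [if_pos hij] at this
      simp only [hu]
      exact_mod_cast this)
    (fun i j hij => by
      have := hgram i j
      rw [if_neg hij, zero_add] at this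
      simp only [hu]
      exact_mod_cast this)
    (fun i => by
      have := hdegrow i.1
      rw [hLowdeg] at this
      simp only [hu]
      exact_mod_cast this) h12 h13 h23
  have hεε : ε * ε = 1 := by rcases hε with h | h <;> simp [h]
  have hnorm : ∀ i j : Low, ∑ χ, c χ * c χ + ε * c (e i) + ε * c (e j) +
      (if e i = e j then 1 else 0) = (if i = j then 1 else 0) + d := by
    intro i j
    have h : ∑ χ, u i χ * u j χ = ((if i = j then 1 else 0) + d : ℤ) := by
      simp only [hu]
      exact_mod_cast hgram i j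
    simp only [hue, add_mul, mul_add, Finset.sum_add_distrib, ite_mul, mul_ite, zero_mul, mul_zero,
      Finset.sum_ite_eq', Finset.mem_univ, if_true] at h
    rw [← h]
    by_cases heq : e i = e j
    · rw [if_pos heq, if_pos heq.symm]; linarith [hεε]
    · rw [if_neg heq, if_neg (Ne.symm heq)]; linarith
  have hx : ∀ i, c (e i) = c (e i₁) := fun i => by
    have h1 := hnorm i i
    have h2 := hnorm i₁ i₁
    rw [if_pos rfl, if_pos rfl] at h1 h2
    rcases hε with h | h <;> subst h <;> linarith
  have heinj : Function.Injective e := fun i j h => by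
    by_contra hij
    have h1 := hnorm i j
    have h2 := hnorm i i
    rw [if_pos h, if_neg hij, ← h] at h1
    rw [if_pos rfl, if_pos rfl] at h2
    linarith
  set x := c (e i₁) with hxdef
  have hcc : ∑ χ, c χ * c χ = d - 2 * ε * x := by
    have h := hnorm i₁ i₁
    rw [if_pos rfl, if_pos rfl, ← hxdef] at h
    linarith
  -- linear characters do not meet the exceptional characters
  have hlin : ∀ l, X.IsLin l →
      (∀ i, X.mult l (e i) = 0) ∧ ∑ χ, (X.mult l χ : ℤ) * c χ = 1 := by
    intro l hl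
    have h1 : ∀ i : Low, ∑ χ, (X.mult l χ : ℤ) * c χ + ε * X.mult l (e i) = 1 := by
      intro i
      have h := X.gram_nonlin l i.1 i.2.1 (aη := 1) (by rw [hLowdeg, mul_one])
      rw [if_neg fun h : l = i.1 => i.2.1 (h ▸ hl), zero_add, X.cdeg_lin hl, mul_one] at h
      have h' : ∑ χ, (X.mult l χ : ℤ) * u i χ = 1 := by
        simp only [hu]
        exact_mod_cast h
      simp only [hue, mul_add, mul_ite, mul_zero, Finset.sum_add_distrib, Finset.sum_ite_eq',
        Finset.mem_univ, if_true] at h'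
      linarith
    have hv : ∀ i, X.mult l (e i) = X.mult l (e i₁) := fun i => by
      have ha := h1 i
      have hb := h1 i₁
      rcases hε with h | h <;> subst h <;> omega
    have h0 : X.mult l (e i₁) = 0 := by
      have h3 : (q + 1) * (X.mult l (e i₁) * X.mult l (e i₁)) ≤ 2 := by
        refine le_trans ?_ (X.norm_lin hl)
        rw [← hcardLow, ← Finset.card_univ, ← smul_eq_mul, ← Finset.sum_const]
        refine le_trans (le_of_eq (Finset.sum_congr rfl fun i _ => by rw [← hv i])) ?_
        rw [← Finset.sum_image (f := fun χ => X.mult l χ * X.mult l χ) fun _ _ _ _ h => heinj h]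
        exact Finset.sum_le_sum_of_subset (Finset.subset_univ _)
      by_contra h0
      have : 1 ≤ X.mult l (e i₁) * X.mult l (e i₁) := Nat.mul_pos (by omega) (by omega)
      nlinarith
    refine ⟨fun i => (hv i).trans h0, ?_⟩
    have := h1 i₁
    rw [h0] at this
    push_cast at this
    linarith
  let oneL : IrrCharacter X.L := ⟨fun _ => 1, Char.isIrrCharacter_one⟩
  have honeLin : X.IsLin oneL := fun _ _ => rfl
  have himage : ∑ χ ∈ Finset.univ.image e, c χ * c χ = (q + 1 : ℕ) * (x * x) := by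
    rw [Finset.sum_image fun _ _ _ _ h => heinj h, Finset.sum_congr rfl fun i _ => by rw [hx i],
      Finset.sum_const, Finset.card_univ, hcardLow, nsmul_eq_mul]
  have hx0 : x = 0 := by
    by_contra hne
    have hsplit := Finset.sum_sdiff (f := fun χ => c χ * c χ)
      (Finset.subset_univ (Finset.univ.image e))
    rw [himage, hcc] at hsplit
    have hnn : ∀ χ ∈ Finset.univ \ Finset.univ.image e, 0 ≤ c χ * c χ :=
      fun χ _ => mul_self_nonneg _
    have hS0 := Finset.sum_nonneg hnn
    have hxx : 1 ≤ x * x := (Int.one_le_abs (mul_ne_zero hne hne)).trans_eq (abs_mul_self _)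
    have hεx : 0 ≤ x * x + ε * x := by
      rcases hε with h | h <;> subst h
      · nlinarith [sq_nonneg (2 * x + 1)]
      · nlinarith [sq_nonneg (2 * x - 1)]
    have hd1 : (3 : ℤ) ≤ d := by exact_mod_cast hd3
    rw [hq] at hsplit
    push_cast at hsplit
    have hzero : ∑ χ ∈ Finset.univ \ Finset.univ.image e, c χ * c χ = 0 := by
      nlinarith [mul_nonneg (sub_nonneg.2 hd1) (sub_nonneg.2 hxx)]
    obtain ⟨h0, h1⟩ := hlin oneL honeLin
    rw [Finset.sum_eq_zero] at h1
    · exact zero_ne_one h1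
    intro χ _
    by_cases hχ : χ ∈ Finset.univ.image e
    · obtain ⟨i, -, rfl⟩ := Finset.mem_image.1 hχ
      rw [h0 i, Nat.cast_zero, zero_mul]
    · rw [mul_self_eq_zero.1 ((Finset.sum_eq_zero_iff_of_nonneg hnn).1 hzero χ
        (Finset.mem_sdiff.2 ⟨Finset.mem_univ _, hχ⟩)), mul_zero]
  have hε1 : ε = 1 := by
    have h := hue i₁ (e i₁)
    rw [if_pos rfl, ← hxdef, hx0, zero_add] at h
    rcases hε with h' | h'
    · exact h'
    · rw [h'] at h
      simp only [hu] at h
      omega
  have hrow : ∀ i χ, (X.mult i.1 χ : ℤ) = c χ + if χ = e i then 1 else 0 := fun i χ => by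
    rw [← hε1]; exact hue i χ
  have hcol : ∀ i j : Low, X.mult j.1 (e i) = if i = j then 1 else 0 := fun i j => by
    have h := hrow j (e i)
    rw [hx i, hx0, zero_add] at h
    by_cases hij : i = j
    · rw [if_pos (congrArg e hij)] at h
      rw [if_pos hij]
      exact_mod_cast h
    · rw [if_neg fun h => hij (heinj h)] at h
      rw [if_neg hij]
      exact_mod_cast h
  -- the multiplicities outside the trivial part do not depend on the exceptional character
  set f : IrrCharacter X.L → ℕ := fun η => X.mult η (e i₁) with hfdef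
  have hf : ∀ η ∈ High, ∀ i, X.mult η (e i) = f η := by
    intro η hη i
    have key : ∀ i : Low, ∑ χ, (X.mult η χ : ℤ) * c χ + X.mult η (e i) = (cdeg η : ℤ) := by
      intro i
      have h := X.gram_nonlin η i.1 i.2.1 (aη := 1) (by rw [hLowdeg, mul_one])
      rw [if_neg fun h : η = i.1 => (Finset.mem_filter.1 hη).2 (h ▸ i.2.2), zero_add, mul_one] at h
      have h' : ∑ χ, (X.mult η χ : ℤ) * u i χ = (cdeg η : ℤ) := by
        simp only [hu]
        exact_mod_cast h
      simp only [hu, hrow, mul_add, mul_ite, mul_zero, mul_one, Finset.sum_add_distrib,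
        Finset.sum_ite_eq', Finset.mem_univ, if_true] at h'
      exact h'
    have h1 := key i
    have h2 := key i₁
    show X.mult η (e i) = X.mult η (e i₁)
    omega
  have hres : ∀ i (l : X.L), (e i : G → ℂ) l =
      (i.1 : X.L → ℂ) l + ∑ η ∈ High, (f η : ℂ) * (η : X.L → ℂ) l := by
    intro i l
    rw [X.res_expansion, ← Finset.sum_filter_add_sum_filter_not Finset.univ Triv]
    congr 1
    · rw [Finset.sum_eq_single i.1]
      · rw [hcol i i, if_pos rfl, Nat.cast_one, one_mul]
      · intro θ hθ hne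
        by_cases hl : X.IsLin θ
        · rw [(hlin θ hl).1 i, Nat.cast_zero, zero_mul]
        · rw [show X.mult θ (e i) = _ from hcol i ⟨θ, hl, (Finset.mem_filter.1 hθ).2⟩,
            if_neg fun h => hne (congrArg Subtype.val h).symm, Nat.cast_zero, zero_mul]
      · exact fun h => (h (Finset.mem_filter.2 ⟨Finset.mem_univ _, i.2.2⟩)).elim
    · exact Finset.sum_congr rfl fun η hη => by rw [hf η hη i]
  set φ := ∑ η ∈ High, f η * w η with hφ
  set S := ∑ η ∈ High, f η * f η with hS
  have hD : ∀ i, cdeg (e i) = d * (1 + φ) := fun i => by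
    refine cdeg_eq ?_
    have h := hres i 1
    rw [Subgroup.coe_one] at h
    rw [h, (cdeg_spec i.1).2, hLowdeg, hφ]
    push_cast
    rw [mul_add, mul_one, Finset.mul_sum]
    congr 1
    refine Finset.sum_congr rfl fun η hη => ?_
    rw [(cdeg_spec η).2, (hweight η (hHighnl η hη)).1]
    push_cast
    ring
  -- values on the centre
  obtain ⟨z0, hz0, hz0U⟩ := Xe.exists_invol
  set zl : X.L := ⟨z0, Xe.ker.fix z0 hz0U⟩ with hzl
  have hzlZ : zl ∈ Xe.zL := (EvenCtx.mem_zL (Xe := Xe)).2 ⟨hz0U, Xe.mem_center hz0 hz0U⟩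
  have hcenter : ∀ η ∈ High, (η : X.L → ℂ) zl = -(w η : ℂ) := by
    intro η hη
    have h := Xe.sum_center (Finset.mem_filter.1 hη).2
    have hconst : ∀ z : Xe.zL, z ≠ 1 → (η : X.L → ℂ) z = (η : X.L → ℂ) zl := by
      intro z hz
      obtain ⟨hzU, hzc⟩ := (EvenCtx.mem_zL (Xe := Xe)).1 z.2
      have hz1 : (⟨((z : X.L) : G), hzU⟩ : U) ≠ 1 := fun h => hz (Subtype.ext (Subtype.ext
        (show ((z : X.L) : G) = 1 from congrArg Subtype.val h)))
      obtain ⟨k, hk, -⟩ := Xe.exists_twoPt_conj hz0 hz0U (Xe.orderOf_center hzc hz1) hzU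
      have e' : (z : X.L) = (⟨(k : G), k.2.1⟩ : X.L) * zl * (⟨(k : G), k.2.1⟩ : X.L)⁻¹ :=
        Subtype.ext hk.symm
      rw [e']
      exact Char.isClassFunction_of_isIrr η.2 zl (⟨(k : G), k.2.1⟩ : X.L)
    rw [← Finset.add_sum_erase Finset.univ _ (Finset.mem_univ (1 : Xe.zL)),
      Finset.sum_congr rfl fun z hz => hconst z (Finset.ne_of_mem_erase hz), Finset.sum_const,
      Finset.card_erase_of_mem (Finset.mem_univ _), Finset.card_univ, ← Nat.card_eq_fintype_card,
      Xe.card_zL, Nat.add_sub_cancel, nsmul_eq_mul, Subgroup.coe_one, (cdeg_spec η).2,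
      (hweight η (hHighnl η hη)).1, Nat.cast_mul] at h
    refine mul_left_cancel₀ (show (d : ℂ) ≠ 0 by exact_mod_cast (by omega : d ≠ 0)) ?_
    linear_combination h
  have hzval : ∀ i, (e i : G → ℂ) z0 = (d : ℂ) - φ := fun i => by
    rw [show (e i : G → ℂ) z0 = (e i : G → ℂ) (zl : G) from rfl, hres i zl, i.2.2 zl hzlZ,
      (cdeg_spec i.1).2, hLowdeg, hφ, sub_eq_add_neg]
    push_cast
    rw [← Finset.sum_neg_distrib]
    congr 1
    exact Finset.sum_congr rfl fun η hη => by rw [hcenter η hη, mul_neg]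
  have hφle : φ ≤ 2 * d := by
    have hcent : Nat.card (centralizer ({z0} : Set G)) = N := by
      rw [hNdef]
      congr 2
      have hz01 : z0 ≠ 1 := fun e => by rw [e, orderOf_one] at hz0; omega
      ext g
      exact ⟨fun hg => Xe.centralizer_le hz0U hz01 (mem_centralizer_singleton_iff.1 hg),
        fun hg => mem_centralizer_singleton_iff.2 (Xe.invol_comm hz0 hz0U g hg).symm⟩
    have h := Char.second_orthogonality z0 z0
    rw [if_pos (IsConj.refl _), hcent] at h
    simp only [Complex.mul_conj] at h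
    have h' : ∑ χ : IrrCharacter G, Complex.normSq ((χ : G → ℂ) z0) = (N : ℝ) := by
      exact_mod_cast h
    have h2 : ((q + 1 : ℕ) : ℝ) * (((d : ℝ) - φ) * ((d : ℝ) - φ)) ≤ (N : ℝ) := by
      rw [← h']
      refine le_trans (le_of_eq ?_) (Finset.sum_le_sum_of_subset_of_nonneg
        (Finset.subset_univ (Finset.univ.image e)) fun χ _ _ => Complex.normSq_nonneg _)
      rw [Finset.sum_image fun _ _ _ _ h => heinj h, Finset.sum_congr rfl fun i _ => by
        rw [hzval i, show (d : ℂ) - (φ : ℂ) = (((d : ℝ) - φ : ℝ) : ℂ) by push_cast; ring,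
          Complex.normSq_ofReal],
        Finset.sum_const, Finset.card_univ, hcardLow, nsmul_eq_mul]
    by_contra hlt
    have h3 : (q : ℝ) ≤ φ - d := by
      have : ((q + d : ℕ) : ℝ) ≤ φ := by exact_mod_cast (show q + d ≤ φ by omega)
      push_cast at this
      linarith
    have h4 : (q : ℝ) * q ≤ ((d : ℝ) - φ) * ((d : ℝ) - φ) := by
      have h5 := mul_self_le_mul_self (Nat.cast_nonneg q) h3
      linarith
    have hqpos : (0 : ℝ) < q := by exact_mod_cast (show 0 < q by omega)
    rw [hN] at h2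
    push_cast at h2
    nlinarith
  -- simplicity
  have hS0 : S ≠ 0 := by
    intro h0
    have hf0 : φ = 0 := Finset.sum_eq_zero fun η hη => by
      rw [mul_self_eq_zero.1 ((Finset.sum_eq_zero_iff.1 h0) η hη), zero_mul]
    have hchar := Char.IsIrr.isCharacter (e i₁).2
    have hker : z0 ∈ Char.kerSubgroup hchar := by
      rw [Char.mem_kerSubgroup, hzval, (cdeg_spec (e i₁)).2, hD, hf0]
      simp
    rcases (Char.kerSubgroup_normal hchar).eq_bot_or_eq_top with h | h
    · rw [h, Subgroup.mem_bot] at hker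
      rw [hker, orderOf_one] at hz0
      omega
    · let oneG : IrrCharacter G := ⟨fun _ => 1, Char.isIrrCharacter_one⟩
      have hne : e i₁ ≠ oneG := fun h' => by
        have h1 := hD i₁
        rw [h', show cdeg oneG = 1 from cdeg_eq (by simp [oneG]), hf0] at h1
        omega
      have h2 := Char.classInner_irrChar (e i₁) oneG
      rw [if_neg hne] at h2
      simp only [classInner] at h2
      rw [Finset.sum_congr rfl (g := fun _ => (cdeg (e i₁) : ℂ)) fun g _ => by
        rw [(Char.mem_kerSubgroup hchar (g := g)).1 (h ▸ Subgroup.mem_top g), (cdeg_spec (e i₁)).2]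
        simp [oneG], Finset.sum_const, Finset.card_univ, nsmul_eq_mul, ← Nat.card_eq_fintype_card,
        inv_mul_cancel_left₀ Char.card_ne_zero] at h2
      exact (cdeg_spec (e i₁)).1.ne' (by exact_mod_cast h2)
  -- sums over the elements without fixed points
  set χ₀ : G → ℂ := (e i₁ : G → ℂ) with hχ₀
  have hχcl : IsClassFunction G χ₀ := Char.isClassFunction_of_isIrr (e i₁).2
  have hoff : ∀ l : X.L, l ∉ X.K → χ₀ l = 0 := fun l hl => by
    rw [hχ₀, hres, X.nonlin_off i₁.2.1 hl, zero_add]
    exact Finset.sum_eq_zero fun η hη => by rw [X.nonlin_off (hHighnl η hη) hl, mul_zero]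
  set P := Finset.univ.filter (fun g : G => ∀ p : Ω, g • p ≠ p) with hP
  have hsum1 : ∑ g ∈ P, χ₀ g = (N : ℂ) * ((d * (1 + φ) : ℕ) : ℂ) := by
    have hG0 : ∑ g, χ₀ g = 0 := by
      have hne : e i₁ ≠ ⟨fun _ => 1, Char.isIrrCharacter_one⟩ := fun h' => by
        have h1 := hD i₁
        rw [h', show cdeg (⟨fun _ => (1 : ℂ), Char.isIrrCharacter_one⟩ : IrrCharacter G) = 1 from
          cdeg_eq (by simp)] at h1
        have : d * 1 ≤ d * (1 + φ) := Nat.mul_le_mul_left _ (by omega)
        omega
      have h2 := Char.classInner_irrChar (e i₁) (⟨fun _ => 1, Char.isIrrCharacter_one⟩)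
      rw [if_neg hne] at h2
      simpa [classInner, Char.card_ne_zero] using h2
    have hL0 : ∑ l : X.L, χ₀ l = 0 := by
      have h2 := X.mult_res oneL (e i₁)
      rw [(hlin oneL honeLin).1 i₁] at h2
      simp only [classInner, oneL, map_one, mul_one, Nat.cast_zero, mul_eq_zero, inv_eq_zero] at h2
      exact h2.resolve_left Char.card_ne_zero
    have h := X.sum_fpf χ₀ hχcl hoff
    rw [hG0, hL0, mul_zero, add_zero, zero_add, hχ₀, (cdeg_spec (e i₁)).2, hD] at h
    exact h
  have hsum2 : ∑ g ∈ P, χ₀ g * conj (χ₀ g) + ((N : ℂ) + 1) * ((N : ℂ) * d * S) =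
      (N : ℂ) * (((d * (1 + φ) : ℕ) : ℂ) * ((d * (1 + φ) : ℕ) : ℂ)) := by
    have hG1 : ∑ g, χ₀ g * conj (χ₀ g) = (Nat.card G : ℂ) := by
      have h2 := Char.classInner_irr_self (e i₁).2
      rw [classInner, inv_mul_eq_iff_eq_mul₀ Char.card_ne_zero, mul_one] at h2
      exact h2
    have hLS : ∑ θ, X.mult θ (e i₁) * X.mult θ (e i₁) = 1 + S := by
      rw [← Finset.sum_filter_add_sum_filter_not Finset.univ Triv]
      congr 1
      · rw [Finset.sum_eq_single i₁.1]
        · rw [hcol i₁ i₁, if_pos rfl]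
        · intro θ hθ hne
          by_cases hl : X.IsLin θ
          · rw [(hlin θ hl).1 i₁, mul_zero]
          · rw [show X.mult θ (e i₁) = _ from hcol i₁ ⟨θ, hl, (Finset.mem_filter.1 hθ).2⟩,
              if_neg fun h => hne (congrArg Subtype.val h).symm, mul_zero]
        · exact fun h => (h (Finset.mem_filter.2 ⟨Finset.mem_univ _, i₁.2.2⟩)).elim
    have hL1 : ∑ l : X.L, χ₀ l * conj (χ₀ l) = ((N * d * (1 + S) : ℕ) : ℂ) := by
      have h2 := Char.classInner_eq_sum (f := fun l : X.L => χ₀ l) (f' := fun l : X.L => χ₀ l)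
        (fun x y => by simpa using hχcl (x : G) (y : G))
      rw [classInner, inv_mul_eq_iff_eq_mul₀ Char.card_ne_zero] at h2
      rw [h2, Nat.cast_mul, ← hL, ← hLS, Nat.cast_sum]
      congr 1
      refine Finset.sum_congr rfl fun θ _ => ?_
      rw [← Char.classInner_conj_symm (φ := fun l : X.L => χ₀ l) (ψ := (θ : X.L → ℂ)), hχ₀,
        X.mult_res θ (e i₁), map_natCast, Nat.cast_mul]
    have h := X.sum_fpf (fun g => χ₀ g * conj (χ₀ g))
      (fun g k => by
        show χ₀ _ * conj (χ₀ _) = χ₀ g * conj (χ₀ g)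
        rw [hχcl g k]) (fun l hl => by rw [hoff l hl, zero_mul])
    rw [hG1, hL1, ← X.card_F, hcardG] at h
    simp only [hχ₀, (cdeg_spec (e i₁)).2, hD, map_natCast] at h
    simp only [← hχ₀] at h
    rw [show Nat.card X.F = N from rfl] at h
    push_cast at h ⊢
    linear_combination h
  have hineq : (N + 1) * S ≤ d * ((1 + φ) * (1 + φ)) := by
    have h1 : (0 : ℝ) ≤ (∑ g ∈ P, χ₀ g * conj (χ₀ g)).re := by
      rw [Complex.re_sum]
      exact Finset.sum_nonneg fun g _ => by
        rw [Complex.mul_conj, Complex.ofReal_re]; exact Complex.normSq_nonneg _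
    rw [eq_sub_of_add_eq hsum2] at h1
    have h2 : (((N + 1) * (N * d * S) : ℕ) : ℝ) ≤ ((N * (d * (1 + φ) * (d * (1 + φ))) : ℕ) : ℝ) := by
      simp only [Complex.sub_re, Complex.mul_re, Complex.add_re, Complex.natCast_re,
        Complex.natCast_im, Complex.add_im, Complex.one_re, Complex.one_im, Complex.mul_im, mul_zero,
        zero_mul, sub_zero, add_zero] at h1
      push_cast at h1 ⊢
      linarith
    refine Nat.le_of_mul_le_mul_left ?_ (show 0 < N * d from Nat.mul_pos Nat.card_pos (by omega))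
    calc N * d * ((N + 1) * S) = (N + 1) * (N * d * S) := by ring
      _ ≤ N * (d * (1 + φ) * (d * (1 + φ))) := by exact_mod_cast h2
      _ = N * d * (d * ((1 + φ) * (1 + φ))) := by ring
  -- the exceptional characters are real off the fixed points
  have hsame : ∀ i j, ∀ g ∈ P, (e i : G → ℂ) g = (e j : G → ℂ) g := by
    intro i j g hg
    have hzero : ∀ θ : IrrCharacter X.L, indFun X.L (θ : X.L → ℂ) g = 0 := fun θ =>
      Char.indFun_apply_eq_zero X.L _ fun k hk =>
        (Finset.mem_filter.1 hg).2 (k • X.a) (by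
          have h := mem_stabilizer_iff.1 hk
          rwa [mul_smul, mul_smul, inv_smul_eq_iff] at h)
    have hval : ∀ i : Low, indFun X.L (i.1 : X.L → ℂ) g =
        ∑ χ : IrrCharacter G, (c χ : ℂ) * (χ : G → ℂ) g + (e i : G → ℂ) g := by
      intro i
      rw [X.ind_expansion, Finset.sum_congr rfl
        (g := fun χ : IrrCharacter G => (c χ : ℂ) * (χ : G → ℂ) g +
          if χ = e i then (χ : G → ℂ) g else 0) fun χ _ => by
          rw [show (X.mult i.1 χ : ℂ) = ((X.mult i.1 χ : ℤ) : ℂ) from (Int.cast_natCast _).symm,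
            hrow i χ]
          by_cases hχ : χ = e i
          · rw [if_pos hχ, if_pos hχ]; push_cast; ring
          · rw [if_neg hχ, if_neg hχ]; push_cast; ring,
        Finset.sum_add_distrib, Finset.sum_ite_eq', if_pos (Finset.mem_univ _)]
    have hi := hval i
    have hj := hval j
    rw [hzero] at hi hj
    linear_combination hj - hi
  have hreal : ∀ g ∈ P, conj (χ₀ g) = χ₀ g := by
    intro g hg
    obtain ⟨j, hj⟩ : ∃ j, e j = Char.conjIrr (e i₁) := by
      by_contra hno
      push Not at hno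
      have hclosed : ∀ i : Low, ¬X.IsLin (Char.conjIrr i.1) ∧ Triv (Char.conjIrr i.1) := by
        refine fun i => ⟨fun h => i.2.1 fun k hk => ?_, fun z hz => ?_⟩
        · have := h k hk
          simp only [Char.conjIrr_apply] at this
          exact (starRingEnd ℂ).injective this
        · simp only [Char.conjIrr_apply]
          rw [i.2.2 z hz]
      have hcst : ∀ i : Low, (X.mult i.1 (e i₁) : ℤ) = c (Char.conjIrr (e i₁)) := fun i => by
        have h := hrow ⟨_, hclosed i⟩ (Char.conjIrr (e i₁))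
        rw [X.mult_conj, if_neg fun h => hno _ h.symm, add_zero] at h
        exact h
      have h1 := hcst i₁
      have h2 := hcst i₂
      rw [hcol, if_pos rfl] at h1
      rw [hcol, if_neg h12] at h2
      omega
    rw [hχ₀, hsame i₁ j g hg, hj, Char.conjIrr_apply, Complex.conj_conj]
    exact (hsame j i₁ g hg).symm.trans (by rw [hj, Char.conjIrr_apply])
  -- parity
  have heven : 2 ∣ S := by
    obtain ⟨ψ, hψ⟩ := Char.isClassFunction_iff_exists.1 hχcl
    have hψg : ∀ g, χ₀ g = ψ (ConjClasses.mk g) := fun g => congrFun hψ g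
    have hψint : ∀ C, IsIntegral ℤ (ψ C) := fun C => by
      obtain ⟨g, rfl⟩ := ConjClasses.mk_surjective C
      rw [← hψg]
      exact Char.IsChar.isIntegral (Char.IsIrr.isCharacter (e i₁).2) g
    set ω : ConjClasses G → ℕ := fun C =>
      (P.filter fun g => ConjClasses.mk g = C).card / (N * d) with hω
    have hdvd : ∀ C ∈ P.image ConjClasses.mk,
        (P.filter fun g => ConjClasses.mk g = C).card = ω C * (N * d) := by
      intro C hC
      obtain ⟨g, hg, rfl⟩ := Finset.mem_image.1 hC
      refine (Nat.div_mul_cancel ?_).symm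
      have hgP := (Finset.mem_filter.1 hg).2
      have e1 : (P.filter fun k => ConjClasses.mk k = ConjClasses.mk g).card =
          (centralizer ({g} : Set G)).index := by
        rw [← Char.card_isConj_eq_index, Nat.card_eq_fintype_card, Fintype.card_subtype]
        congr 1
        ext k
        simp only [hP, Finset.mem_filter, Finset.mem_univ, true_and, ConjClasses.mk_eq_mk_iff_isConj]
        refine ⟨fun h => h.2.symm, fun h => ⟨fun p hp => ?_, h.symm⟩⟩
        obtain ⟨r, hr⟩ := isConj_iff.1 h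
        refine hgP (r⁻¹ • p) (MulAction.injective r ?_)
        show r • g • r⁻¹ • p = r • r⁻¹ • p
        rw [← hr, mul_smul, mul_smul] at hp
        rw [hp, smul_inv_smul]
      obtain ⟨t, ht⟩ := Xe.card_centralizer_dvd hgP
      refine ⟨t, e1.trans (Nat.eq_of_mul_eq_mul_left
        (Nat.card_pos (α := centralizer ({g} : Set G))) ?_)⟩
      rw [Subgroup.card_mul_index, hcardG, ht]
      ring
    obtain ⟨A, z, -, hz, hAe, hzA⟩ := exists_half_sq_sub (P.image ConjClasses.mk) ω ψ hψint
    have hfib : ∀ F : ConjClasses G → ℂ, ∑ g ∈ P, F (ConjClasses.mk g) =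
        ((N * d : ℕ) : ℂ) * ∑ C ∈ P.image ConjClasses.mk, (ω C : ℂ) * F C := by
      intro F
      rw [Finset.sum_comp, Finset.mul_sum]
      exact Finset.sum_congr rfl fun C hC => by
        rw [hdvd C hC, nsmul_eq_mul]; push_cast; ring
    have hNd : ((N * d : ℕ) : ℂ) ≠ 0 :=
      Nat.cast_ne_zero.2 (Nat.mul_pos Nat.card_pos (by omega)).ne'
    have hA : A = 1 + (φ : ℂ) := by
      refine mul_left_cancel₀ hNd ?_
      rw [hAe, ← hfib, Finset.sum_congr rfl fun g _ => (hψg g).symm, hsum1]
      push_cast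
      ring
    have hB : ∑ C ∈ P.image ConjClasses.mk, (ω C : ℂ) * (ψ C * ψ C) =
        (d : ℂ) * ((1 + φ) * (1 + φ)) - ((N : ℂ) + 1) * S := by
      refine mul_left_cancel₀ hNd ?_
      rw [← hfib, Finset.sum_congr rfl (g := fun g => χ₀ g * conj (χ₀ g)) fun g hg => by
        rw [← hψg, hreal g hg], eq_sub_of_add_eq hsum2]
      push_cast
      ring
    rw [hA, hB] at hzA
    have h2 : 2 ∣ (1 + φ) * (1 + φ) + (N + 1) * S + d * ((1 + φ) * (1 + φ)) := by
      refine Char.nat_dvd_of_isIntegral two_ne_zero ?_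
      rw [show ((((1 + φ) * (1 + φ) + (N + 1) * S + d * ((1 + φ) * (1 + φ)) : ℕ)) : ℂ) / ((2 : ℕ) : ℂ)
        = z + ((d * ((1 + φ) * (1 + φ)) : ℕ) : ℂ) by
          push_cast
          linear_combination hzA / 2]
      exact hz.add (isIntegral_algebraMap (x := ((d * ((1 + φ) * (1 + φ)) : ℕ) : ℤ)))
    have h3 : 2 ∣ (1 + φ) * (1 + φ) + d * ((1 + φ) * (1 + φ)) := by
      rw [show (1 + φ) * (1 + φ) + d * ((1 + φ) * (1 + φ)) = (d + 1) * ((1 + φ) * (1 + φ)) by ring]
      exact hdodd.add_one.two_dvd.mul_right _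
    have h4 : 2 ∣ (N + 1) * S := by omega
    exact (Nat.prime_two.dvd_mul.1 h4).resolve_left fun h =>
      Nat.not_even_iff_odd.2 Xe.even_card.add_one (even_iff_two_dvd.2 h)
  -- conclusion
  have hN' : N = q ^ 3 := hN
  have hSlt : S < 4 := by
    by_contra hge
    push Not at hge
    have h1 : (N + 1) * 4 ≤ (N + 1) * S := Nat.mul_le_mul_left _ hge
    have h2 : d * ((1 + φ) * (1 + φ)) ≤ d * ((1 + 2 * d) * (1 + 2 * d)) :=
      Nat.mul_le_mul_left _ (Nat.mul_le_mul (by omega) (by omega))
    have h3 := h1.trans (hineq.trans h2)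
    rw [hN', hq] at h3
    nlinarith
  have hS2 : S = 2 := by omega
  have hf1 : ∀ η ∈ High, f η ≤ 1 := fun η hη => by
    have h := Finset.single_le_sum (f := fun η => f η * f η) (fun _ _ => Nat.zero_le _) hη
    rw [← hS, hS2] at h
    by_contra h'
    have : 2 * 2 ≤ f η * f η := Nat.mul_le_mul (by omega) (by omega)
    omega
  have hcard2 : (High.filter fun η => f η = 1).card = 2 := by
    rw [← hS2, hS, Finset.card_filter]
    refine Finset.sum_congr rfl fun η hη => ?_
    rcases Nat.le_one_iff_eq_zero_or_eq_one.1 (hf1 η hη) with h | h <;> simp [h]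
  obtain ⟨η₁, η₂, hne, h12'⟩ := Finset.card_eq_two.1 hcard2
  have hφw : φ = w η₁ + w η₂ := by
    rw [← Finset.sum_pair (f := w) hne, ← h12', hφ]
    conv_rhs => rw [Finset.sum_filter]
    refine Finset.sum_congr rfl fun η hη => ?_
    rcases Nat.le_one_iff_eq_zero_or_eq_one.1 (hf1 η hη) with h | h <;> simp [h]
  have hmem : ∀ η ∈ ({η₁, η₂} : Finset (IrrCharacter X.L)), η ∈ High := fun η h =>
    Finset.filter_subset _ _ (h12' ▸ h)
  obtain ⟨n, -, hn⟩ := Xe.center_two_power
  have hhalf : ∀ η η', η ≠ η' → η ∈ High → η' ∈ High → 2 * w η ≤ q := by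
    intro η η' hne hη hη'
    have hle : w η ^ 2 + w η' ^ 2 ≤ q * q := by
      rw [← hsumHigh, ← Finset.sum_pair (f := fun η => w η ^ 2) hne]
      exact Finset.sum_le_sum_of_subset (Finset.insert_subset hη (Finset.singleton_subset_iff.2 hη'))
    obtain ⟨-, ⟨j, hj⟩, -⟩ := hweight η (hHighnl η hη)
    obtain ⟨-, ⟨j', hj'⟩, -⟩ := hweight η' (hHighnl η' hη')
    have hpos : 0 < w η' ^ 2 := by rw [hj']; positivity
    have hlt : w η < q := by
      by_contra hge
      push Not at hge
      have := Nat.mul_le_mul hge hge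
      rw [pow_two, pow_two] at *
      omega
    have hq2 : q = 2 ^ n := hn
    rw [hj, hq2] at hlt
    have hjn := (Nat.pow_lt_pow_iff_right (by norm_num : 1 < 2)).1 hlt
    rw [hj, hq2, ← pow_succ']
    exact Nat.pow_le_pow_right two_pos hjn
  have e1 := hhalf η₁ η₂ hne (hmem _ (by simp)) (hmem _ (by simp))
  have e2 := hhalf η₂ η₁ hne.symm (hmem _ (by simp)) (hmem _ (by simp))
  have h3 : d * ((1 + φ) * (1 + φ)) ≤ d * ((1 + q) * (1 + q)) :=
    Nat.mul_le_mul_left _ (Nat.mul_le_mul (by omega) (by omega))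
  have h4 := hineq.trans h3
  rw [hS2, hN', hq] at h4
  nlinarith

end EvenCtx

end Cfsg.Agent.Zassenhaus
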