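import Cfsg.Agent.Zassenhaus.EvenOdd
import Cfsg.Agent.Zassenhaus.EvenCube

/-!
# Simple Zassenhaus groups with a nonabelian 2-group as kernel
-/

set_option autoImplicit false

namespace Cfsg.Agent.Zassenhaus

open Subgroup MulAction

universe u v

variable {G : Type u} {Ω : Type v} [Group G] [MulAction G Ω] [Finite G] [Fintype Ω]

theorem EvenCtx.exists_exponent [IsSimpleGroup G] {a b : Ω} {U : Subgroup G}
    (X : EvenCtx G a b U) :
    ∃ n, Odd n ∧ 1 < n ∧ Nat.card (twoPt G a b) + 1 = 2 ^ n ∧ Nat.card U = (2 ^ n) ^ 2 := by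
  haveI := Fintype.ofFinite G
  obtain ⟨n, hn1, hn⟩ := X.center_two_power
  have hU := X.card_kernel_sq
  exact ⟨n, X.odd_exponent hU hn, hn1, hn, hn ▸ hU⟩

end Cfsg.Agent.Zassenhaus
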