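import Cfsg.Agent.Zassenhaus.Swap
import Cfsg.Agent.S0728

/-! A sharply triply transitive group of even degree has a normal subgroup of index two, so it is
not simple. -/

set_option autoImplicit false

namespace Cfsg.Agent.Zassenhaus

open Subgroup MulAction

variable {G Ω : Type*} [Group G] [MulAction G Ω]

/-- `S0728` for an abstract action. -/
theorem ZCtx.three_unique [Finite G] [Finite Ω] (C : ZCtx G Ω) (heven : Even (Nat.card Ω))
    (h6 : 6 ≤ Nat.card Ω) {a b : Ω} (hab : a ≠ b)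
    (hth : ∀ x y : Ω, x ≠ a → x ≠ b → y ≠ a → y ≠ b → ∃ h ∈ twoPt G a b, h • x = y)
    (A B : Subgroup G) (hA : A ≤ twoPt G a b) (hB : B ≤ twoPt G a b)
    (hA3 : Nat.card A = 3) (hB3 : Nat.card B = 3) : A = B := by
  classical
  haveI := Fintype.ofFinite Ω
  set π := MulAction.toPermHom G Ω with hπ
  have hinj : Function.Injective π := by
    rw [injective_iff_map_eq_one]
    exact fun g hg => C.faithful (by omega) fun x => congrFun (congrArg DFunLike.coe hg) x
  have hsharp : ∀ x : Fin 3 ↪ Ω, stabilizer π.range x = ⊥ := by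
    intro x
    rw [eq_bot_iff]
    rintro ⟨_, g, rfl⟩ hg
    rw [MulAction.mem_stabilizer_iff] at hg
    have h : ∀ i, g • x i = x i := fun i => DFunLike.congr_fun hg i
    have := C.three g (x 0) (x 1) (x 2) (by simp) (by simp) (by simp) (h 0) (h 1) (h 2)
    rw [mem_bot]
    exact Subtype.ext (by simp [this])
  have h3 : IsMultiplyPretransitive π.range Ω 3 := by
    have key : ∀ x : Fin 3 ↪ Ω, ∃ g : G, g • x 0 = a ∧ g • x 1 = b := fun x => C.two (by simp) hab
    rw [isMultiplyPretransitive_iff]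
    intro x y
    obtain ⟨g, hg0, hg1⟩ := key x
    obtain ⟨g', hg0', hg1'⟩ := key y
    have hne : ∀ (z : Fin 3 ↪ Ω) (k : G), k • z 0 = a → k • z 1 = b →
        k • z 2 ≠ a ∧ k • z 2 ≠ b := fun z k e0 e1 =>
      ⟨fun e => absurd (z.injective (MulAction.injective k (e.trans e0.symm))) (by decide),
        fun e => absurd (z.injective (MulAction.injective k (e.trans e1.symm))) (by decide)⟩
    obtain ⟨h, hh, he⟩ := hth _ _ (hne x g hg0 hg1).1 (hne x g hg0 hg1).2 (hne y g' hg0' hg1').1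
      (hne y g' hg0' hg1').2
    refine ⟨⟨π (g'⁻¹ * h * g), ⟨_, rfl⟩⟩, Function.Embedding.ext fun i => ?_⟩
    show (g'⁻¹ * h * g) • x i = y i
    rw [mul_smul, mul_smul, inv_smul_eq_iff]
    fin_cases i
    · show h • g • x 0 = g' • y 0; rw [hg0, hg0']; exact hh.1
    · show h • g • x 1 = g' • y 1; rw [hg1, hg1']; exact hh.2
    · exact he
  let e : G →* π.range := π.rangeRestrict
  have hei : Function.Injective e := fun g h hgh => hinj (congrArg Subtype.val hgh)
  refine map_injective hei (S0728.result (by rwa [← Nat.card_eq_fintype_card])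
    (by rwa [← Nat.card_eq_fintype_card]) π.range h3 hsharp hab (A.map e) (B.map e) ?_ ?_ ?_ ?_)
  · rintro _ ⟨g, hg, rfl⟩; exact hA hg
  · rintro _ ⟨g, hg, rfl⟩; exact hB hg
  · rw [card_map_of_injective hei]; exact hA3
  · rw [card_map_of_injective hei]; exact hB3

/-- The full two-point stabiliser excludes simplicity. -/
theorem ZCtx.not_simple [Finite G] [Finite Ω] (C : ZCtx G Ω) (h3 : 3 ≤ Nat.card Ω) [IsSimpleGroup G]
    {a b : Ω} (hab : a ≠ b) (heven : Even (Nat.card (twoPt G a b)))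
    (hd : Nat.card (twoPt G a b) + 2 = Nat.card Ω) : False := by
  classical
  haveI := Fintype.ofFinite Ω
  have hne : twoPt G a b ≠ ⊥ := fun e => by
    rw [e, card_bot] at heven
    exact absurd heven Nat.not_even_one
  obtain ⟨c, hca, hcb⟩ := exists_third h3 a b
  have hth : ∀ x y : Ω, x ≠ a → x ≠ b → y ≠ a → y ≠ b → ∃ h ∈ twoPt G a b, h • x = y := by
    intro x y hxa hxb hya hyb
    have hm : ∀ h : twoPt G a b, (h : G) • x ∈ ({a, b} : Finset Ω)ᶜ := fun h => by
      simp only [Finset.mem_compl, Finset.mem_insert, Finset.mem_singleton, not_or]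
      exact ⟨fun e => hxa (MulAction.injective (h : G) (e.trans h.2.1.symm)),
        fun e => hxb (MulAction.injective (h : G) (e.trans h.2.2.symm))⟩
    let φ : twoPt G a b → (({a, b} : Finset Ω)ᶜ : Finset Ω) := fun h => ⟨(h : G) • x, hm h⟩
    have hb : Function.Bijective φ := by
      rw [Nat.bijective_iff_injective_and_card]
      refine ⟨fun h k e => Subtype.ext (eq_of_inv_mul_eq_one (C.eq_one hab
        (mul_mem (inv_mem k.2) h.2) hxa hxb (by
          rw [mul_smul, show (h : G) • x = (k : G) • x from congrArg Subtype.val e,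
            inv_smul_smul]))).symm, ?_⟩
      rw [Nat.card_eq_finsetCard, Finset.card_compl, Finset.card_pair hab,
        ← Nat.card_eq_fintype_card]
      omega
    obtain ⟨h, hh⟩ := hb.2 ⟨y, by simp [hya, hyb]⟩
    exact ⟨h, h.2, congrArg Subtype.val hh⟩
  have hevenΩ : Even (Nat.card Ω) := hd ▸ heven.add even_two
  obtain ⟨s, hsa, hsb, hsc⟩ : ∃ s : G, s • a = b ∧ s • b = a ∧ s • c = c := by
    obtain ⟨g, hga, hgb⟩ := C.two hab (Ne.symm hab)
    obtain ⟨h, hh, he⟩ := hth (g • c) c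
      (fun e => hcb (MulAction.injective g (e.trans hgb.symm)))
      (fun e => hca (MulAction.injective g (e.trans hga.symm))) hca hcb
    exact ⟨h * g, by rw [mul_smul, hga]; exact hh.2, by rw [mul_smul, hgb]; exact hh.1,
      by rw [mul_smul, he]⟩
  have hs2 : s * s = 1 := C.swap_sq hab (Ne.symm hca) (Ne.symm hcb) hsa hsb hsc
  have hsi : s⁻¹ = s := inv_eq_of_mul_eq_one_right hs2
  obtain ⟨N, hNi, hNs⟩ := C.exists_index_two h3 hevenΩ hab (Ne.symm hca) (Ne.symm hcb) hsa hsb hsc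
    hth (fun A B hA hB hA3 hB3 => by
      refine C.three_unique hevenΩ ?_ hab hth A B hA hB hA3 hB3
      have := Nat.le_of_dvd Nat.card_pos (card_dvd_of_le hA)
      obtain ⟨j, hj⟩ := hevenΩ
      omega)
  obtain ⟨F, hF⟩ := C.exists_kernel h3 hab hne
  set φ := swapAut hsa hsb (C.swap_sq hab (Ne.symm hca) (Ne.symm hcb) hsa hsb hsc) with hφ
  have hφc : ∀ h : twoPt G a b, ((φ h : twoPt G a b) : G) = s * h * s := fun h => by
    rw [hφ, swapAut_coe, hsi]
  have hφN : ∀ h, φ h ∈ N ↔ h ∈ N := fun h => ⟨fun hh => by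
    have := hNs _ hh
    rwa [swapAut_invol] at this, hNs h⟩
  have hmm : ∀ x y : twoPt G a b, x * y ∈ N ↔ (x ∈ N ↔ y ∈ N) := fun x y =>
    mul_mem_iff_of_index_two hNi
  have hconjF : ∀ (h : twoPt G a b) (u : G), u ∈ F → (h : G) * u * (h : G)⁻¹ ∈ F :=
    fun h u hu => hF.norm _ h.2.1 u hu
  have hFtr : ∀ u v : G, u ∈ F → v ∈ F → u ≠ 1 → v ≠ 1 →
      ∃ k : twoPt G a b, (k : G) * u * (k : G)⁻¹ = v := by
    intro u v hu hv hu1 hv1
    obtain ⟨k, hk, he⟩ := hth (u • b) (v • b) (hF.smul_ne hu (Ne.symm hab))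
      (fun e => hu1 (hF.eq_one_of_fix hu (Ne.symm hab) e)) (hF.smul_ne hv (Ne.symm hab))
      (fun e => hv1 (hF.eq_one_of_fix hv (Ne.symm hab) e))
    refine ⟨⟨k, hk⟩, hF.eq_of_smul (hconjF ⟨k, hk⟩ u hu) hv (Ne.symm hab) ?_⟩
    rw [mul_smul, mul_smul, inv_smul_eq_iff.2 (show b = k • b from hk.2.symm), he]
  -- one decomposition
  obtain ⟨u₀, hu₀, hu₀1⟩ : ∃ u ∈ F, u ≠ 1 := by
    obtain ⟨u, hu, -⟩ := hF.reg b c (Ne.symm hab) hca
    exact ⟨u, u.2, fun e => hcb (by rw [← hu, e, one_smul])⟩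
  obtain ⟨v₁, hv₁, v₂, hv₂, h₀, hdec⟩ : ∃ v₁ ∈ F, ∃ v₂ ∈ F, ∃ h₀ : twoPt G a b,
      s * u₀ * s = v₁ * (h₀ : G) * s * v₂ := by
    set w := s * u₀ * s with hw
    have hwa : w • a ≠ a := by
      rw [hw, mul_smul, mul_smul, hsa]
      intro e
      exact hu₀1 (hF.eq_one_of_fix hu₀ (Ne.symm hab) (MulAction.injective s (e.trans hsb.symm)))
    obtain ⟨⟨v₁, hv₁⟩, he₁, -⟩ := hF.reg b (w • a) (Ne.symm hab) hwa
    set z := v₁⁻¹ * w with hz
    have hza : z • a = b := by rw [hz, mul_smul, inv_smul_eq_iff]; exact he₁.symm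
    have hzi : z⁻¹ • a ≠ a := fun e => hab (by
      have := (inv_smul_eq_iff.1 e).symm
      rw [hza] at this; exact this.symm)
    obtain ⟨⟨v, hv⟩, he₂, -⟩ := hF.reg b (z⁻¹ • a) (Ne.symm hab) hzi
    have hmem : z * v * s ∈ twoPt G a b := by
      constructor
      · show (z * v * s) • a = a
        rw [mul_smul, mul_smul, hsa, show v • b = z⁻¹ • a from he₂, smul_inv_smul]
      · show (z * v * s) • b = b
        rw [mul_smul, mul_smul, hsb, hF.fix v hv, hza]
    refine ⟨v₁, hv₁, v⁻¹, F.inv_mem hv, ⟨_, hmem⟩, ?_⟩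
    show w = v₁ * (z * v * s) * s * v⁻¹
    calc w = v₁ * (z * v * (s * s)) * v⁻¹ := by rw [hz, hs2]; group
      _ = v₁ * (z * v * s) * s * v⁻¹ := by group
  have hall : ∀ u ∈ F, u ≠ 1 → ∃ w₁ ∈ F, ∃ w₂ ∈ F, ∃ h : twoPt G a b,
      (h ∈ N ↔ h₀ ∈ N) ∧ s * u * s = w₁ * (h : G) * s * w₂ := by
    intro u hu hu1
    obtain ⟨k, rfl⟩ := hFtr u₀ u hu₀ hu hu₀1 hu1
    refine ⟨(φ k : G) * v₁ * (φ k : G)⁻¹, hconjF _ _ hv₁, (φ k : G) * v₂ * (φ k : G)⁻¹,
      hconjF _ _ hv₂, φ k * h₀ * k⁻¹, ?_, ?_⟩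
    · rw [hmm, hmm, hφN, N.inv_mem_iff]; tauto
    · push_cast
      calc s * ((k : G) * u₀ * (k : G)⁻¹) * s = (s * k * s) * (s * u₀ * s) * (s * k * s)⁻¹ := by
            rw [_root_.mul_inv_rev, _root_.mul_inv_rev, hsi]
            calc s * ((k : G) * u₀ * (k : G)⁻¹) * s
                = s * k * 1 * u₀ * 1 * (k : G)⁻¹ * s := by group
              _ = s * k * (s * s) * u₀ * (s * s) * (k : G)⁻¹ * s := by rw [hs2]
              _ = s * k * s * (s * u₀ * s) * (s * ((k : G)⁻¹ * s)) := by group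
        _ = (φ k : G) * (v₁ * h₀ * s * v₂) * (φ k : G)⁻¹ := by rw [hdec, hφc]
        _ = ((φ k : G) * v₁ * (φ k : G)⁻¹) * ((φ k : G) * h₀ * (k : G)⁻¹) * s *
            ((φ k : G) * v₂ * (φ k : G)⁻¹) := by
            have e : (k : G)⁻¹ * s * (φ k : G) = s := by
              rw [hφc]
              calc (k : G)⁻¹ * s * (s * k * s) = (k : G)⁻¹ * (s * s) * k * s := by group
                _ = s := by rw [hs2]; group
            calc _ = ((φ k : G) * v₁ * (φ k : G)⁻¹) * (φ k : G) * h₀ * s * v₂ * (φ k : G)⁻¹ := by group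
              _ = ((φ k : G) * v₁ * (φ k : G)⁻¹) * (φ k : G) * h₀ * ((k : G)⁻¹ * s * (φ k : G)) * v₂ *
                  (φ k : G)⁻¹ := by rw [e]
              _ = _ := by group
  set σ : G := (h₀ : G) * s with hσ
  let S : Set G := {g | (∃ u ∈ F, ∃ n : twoPt G a b, n ∈ N ∧ g = u * n) ∨
    ∃ u ∈ F, ∃ n : twoPt G a b, n ∈ N ∧ ∃ v ∈ F, g = u * n * σ * v}
  let gens : Set G := (F : Set G) ∪ ((N.map (twoPt G a b).subtype : Subgroup G) : Set G) ∪ {σ}
  have hx0 : h₀ * φ h₀ ∈ N := by rw [hmm, hφN]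
  have hσ2 : σ * σ = ((h₀ * φ h₀ : twoPt G a b) : G) := by
    push_cast; rw [hφc, hσ]; group
  have hσn : ∀ n : twoPt G a b, n ∈ N → ∃ n' : twoPt G a b, n' ∈ N ∧ σ * n = n' * σ := by
    intro n hn
    refine ⟨h₀ * φ n * h₀⁻¹, ?_, ?_⟩
    · rw [hmm, hmm, hφN, N.inv_mem_iff]; tauto
    · push_cast
      rw [hφc, hσ]
      calc (h₀ : G) * s * n = (h₀ : G) * s * n * (s * s) := by rw [hs2, mul_one]
        _ = _ := by group
  have leftF : ∀ w ∈ F, ∀ g ∈ S, w * g ∈ S := by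
    rintro w hw g (⟨u, hu, n, hn, rfl⟩ | ⟨u, hu, n, hn, v, hv, rfl⟩)
    · exact Or.inl ⟨w * u, F.mul_mem hw hu, n, hn, by group⟩
    · exact Or.inr ⟨w * u, F.mul_mem hw hu, n, hn, v, hv, by group⟩
  have leftN : ∀ m : twoPt G a b, m ∈ N → ∀ g ∈ S, (m : G) * g ∈ S := by
    rintro m hm g (⟨u, hu, n, hn, rfl⟩ | ⟨u, hu, n, hn, v, hv, rfl⟩)
    · exact Or.inl ⟨(m : G) * u * (m : G)⁻¹, hconjF m u hu, m * n, N.mul_mem hm hn, by push_cast; group⟩
    · exact Or.inr ⟨(m : G) * u * (m : G)⁻¹, hconjF m u hu, m * n, N.mul_mem hm hn, v, hv,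
        by push_cast; group⟩
  have hmove : ∀ (u : G) (n : twoPt G a b), u ∈ F →
      (n : G)⁻¹ * u * n ∈ F := fun u n hu => by
    simpa using hconjF n⁻¹ u hu
  have leftσ : ∀ g ∈ S, σ * g ∈ S := by
    rintro g (⟨u, hu, n, hn, rfl⟩ | ⟨u, hu, n, hn, v, hv, rfl⟩)
    · obtain ⟨n', hn', e⟩ := hσn n hn
      refine Or.inr ⟨1, F.one_mem, n', hn', (n : G)⁻¹ * u * n, hmove u n hu, ?_⟩
      rw [one_mul, ← e]; group
    · obtain ⟨n', hn', e⟩ := hσn n hn
      have e1 : σ * (u * n * σ * v) = (n' : G) * (σ * ((n : G)⁻¹ * u * n) * σ * v) := by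
        calc σ * (u * n * σ * v) = (σ * n) * ((n : G)⁻¹ * u * n) * σ * v := by group
          _ = _ := by rw [e]; group
      rw [e1]
      refine leftN n' hn' _ ?_
      set u' := (n : G)⁻¹ * u * n with hu'
      have hu'F : u' ∈ F := hmove u n hu
      by_cases h1 : u' = 1
      · refine Or.inl ⟨((h₀ * φ h₀ : twoPt G a b) : G) * v * ((h₀ * φ h₀ : twoPt G a b) : G)⁻¹,
          hconjF _ _ hv, h₀ * φ h₀, hx0, ?_⟩
        rw [h1, mul_one, hσ2]; group
      · obtain ⟨w₁, hw₁, w₂, hw₂, h, hh, e2⟩ := hall ((h₀ : G)⁻¹ * u' * h₀) (hmove u' h₀ hu'F)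
          (fun e => h1 (by
            have := congrArg (fun z => (h₀ : G) * z * (h₀ : G)⁻¹) e
            simpa [mul_assoc] using this))
        refine Or.inr ⟨((h₀ * φ h₀ : twoPt G a b) : G) * w₁ * ((h₀ * φ h₀ : twoPt G a b) : G)⁻¹,
          hconjF _ _ hw₁, h₀ * φ h₀ * (h * h₀⁻¹), ?_, w₂ * v, F.mul_mem hw₂ hv, ?_⟩
        · refine N.mul_mem hx0 ?_
          rw [hmm, N.inv_mem_iff]; exact hh
        · push_cast
          rw [hφc, hσ]
          calc (h₀ : G) * s * u' * ((h₀ : G) * s) * v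
              = (h₀ : G) * s * h₀ * 1 * ((h₀ : G)⁻¹ * u' * h₀) * s * v := by group
            _ = (h₀ : G) * (s * h₀ * s) * (s * ((h₀ : G)⁻¹ * u' * h₀) * s) * v := by
                rw [← hs2]; group
            _ = (h₀ : G) * (s * h₀ * s) * (w₁ * h * s * w₂) * v := by rw [e2]
            _ = _ := by group
  have hone : (1 : G) ∈ S := Or.inl ⟨1, F.one_mem, 1, N.one_mem, by simp⟩
  have hσinv : σ⁻¹ = σ * (((h₀ * φ h₀)⁻¹ : twoPt G a b) : G) := by
    rw [Subgroup.coe_inv, ← hσ2]; group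
  have hsub : ∀ g ∈ closure gens, g ∈ S := by
    intro g hg
    refine closure_induction_left (p := fun g _ => g ∈ S) hone ?_ ?_ hg
    · rintro x ((hx | ⟨m, hm, rfl⟩) | rfl) y _ hy
      · exact leftF x hx y hy
      · exact leftN m hm y hy
      · exact leftσ y hy
    · rintro x ((hx | ⟨m, hm, rfl⟩) | rfl) y _ hy
      · exact leftF x⁻¹ (F.inv_mem hx) y hy
      · exact leftN m⁻¹ (N.inv_mem hm) y hy
      · rw [hσinv, mul_assoc]
        exact leftσ _ (leftN _ (N.inv_mem hx0) y hy)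
  set G₀ := closure gens with hG₀
  have hFG : ∀ u ∈ F, u ∈ G₀ := fun u hu => subset_closure (Or.inl (Or.inl hu))
  have hNG : ∀ n : twoPt G a b, n ∈ N → (n : G) ∈ G₀ := fun n hn =>
    subset_closure (Or.inl (Or.inr ⟨n, hn, rfl⟩))
  have hσG : σ ∈ G₀ := subset_closure (Or.inr rfl)
  -- the two-point stabiliser normalises `G₀`
  have hHn : ∀ k : twoPt G a b, ∀ g ∈ G₀, (k : G) * g * (k : G)⁻¹ ∈ G₀ := by
    intro k g hg
    have hle : G₀ ≤ G₀.comap (MulAut.conj (k : G)).toMonoidHom := by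
      rw [hG₀, closure_le]
      rintro x ((hx | ⟨n, hn, rfl⟩) | rfl)
      · exact hFG _ (hconjF k x hx)
      · haveI := Subgroup.normal_of_index_eq_two hNi
        exact hNG (k * n * k⁻¹) ((inferInstance : N.Normal).conj_mem n hn k)
      · show (k : G) * σ * (k : G)⁻¹ ∈ G₀
        have e : (k : G) * σ * (k : G)⁻¹ = ((k * h₀ * (φ k)⁻¹ * h₀⁻¹ : twoPt G a b) : G) * σ := by
          push_cast
          rw [hφc, hσ, _root_.mul_inv_rev, _root_.mul_inv_rev, hsi]
          calc (k : G) * ((h₀ : G) * s) * (k : G)⁻¹ = (k : G) * h₀ * s * (k : G)⁻¹ * (s * s) := by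
                rw [hs2]; group
            _ = _ := by group
        rw [e]
        refine mul_mem (hNG _ ?_) hσG
        rw [hmm, hmm, hmm, N.inv_mem_iff, N.inv_mem_iff, hφN]; tauto
    exact hle hg
  haveI hnor : G₀.Normal := by
    rw [← normalizer_eq_top_iff, eq_top_iff]
    have hHnor : ∀ k : twoPt G a b, (k : G) ∈ normalizer (G₀ : Set G) := fun k => by
      rw [mem_normalizer_iff]
      refine fun x => ⟨fun hx => hHn k x hx, fun hx => ?_⟩
      have := hHn k⁻¹ _ hx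
      simpa [mul_assoc] using this
    have hle : G₀ ≤ normalizer (G₀ : Set G) := le_normalizer
    have hsN : s ∈ normalizer (G₀ : Set G) := by
      have : s = (h₀ : G)⁻¹ * σ := by rw [hσ]; group
      rw [this]
      exact mul_mem (inv_mem (hHnor h₀)) (hle hσG)
    have hA : ∀ g : G, g • a = a → g ∈ normalizer (G₀ : Set G) := by
      intro g hga
      obtain ⟨⟨u, hu⟩, he, -⟩ := hF.reg b (g • b) (Ne.symm hab)
        (fun e => hab (MulAction.injective g (hga.trans e.symm)))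
      have hmem : u⁻¹ * g ∈ twoPt G a b :=
        ⟨by show (u⁻¹ * g) • a = a; rw [mul_smul, hga, inv_smul_eq_iff, hF.fix u hu],
          by show (u⁻¹ * g) • b = b; rw [mul_smul, inv_smul_eq_iff]; exact he.symm⟩
      have := mul_mem (hle (hFG u hu)) (hHnor ⟨_, hmem⟩)
      rwa [mul_inv_cancel_left] at this
    intro g _
    by_cases hga : g • a = a
    · exact hA g hga
    obtain ⟨⟨u, hu⟩, he, -⟩ := hF.reg b _ (Ne.symm hab) hga
    have hfix : (s * u⁻¹ * g) • a = a := by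
      rw [mul_smul, mul_smul, show u⁻¹ • g • a = b from inv_smul_eq_iff.2 he.symm, hsb]
    have := mul_mem (mul_mem (hle (hFG u hu)) (inv_mem hsN)) (hA _ hfix)
    rwa [show u * s⁻¹ * (s * u⁻¹ * g) = g by group] at this
  rcases IsSimpleGroup.eq_bot_or_eq_top_of_normal G₀ hnor with h | h
  · exact hu₀1 (by
      have := hFG u₀ hu₀
      rwa [h, mem_bot] at this)
  · obtain ⟨k, hk⟩ : ∃ k : twoPt G a b, k ∉ N := by
      by_contra hc
      push Not at hc
      rw [(eq_top_iff' N).2 hc, index_top] at hNi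
      omega
    rcases hsub (k : G) (h.ge (mem_top _)) with ⟨u, hu, n, hn, e⟩ | ⟨u, hu, n, hn, v, hv, e⟩
    · have hub : u • b = b := by
        have h1 : (k : G) • b = b := k.2.2
        rw [e, mul_smul, show (n : G) • b = b from n.2.2] at h1
        exact h1
      rw [hF.eq_one_of_fix hu (Ne.symm hab) hub, one_mul] at e
      exact hk (Subtype.ext e ▸ hn)
    · have h1 : (k : G) • a = a := k.2.1
      rw [e, hσ, mul_smul, mul_smul, mul_smul, mul_smul, hF.fix v hv, hsa,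
        show (h₀ : G) • b = b from h₀.2.2, show (n : G) • b = b from n.2.2] at h1
      exact hF.smul_ne hu (Ne.symm hab) h1

end Cfsg.Agent.Zassenhaus
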