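import Cfsg.Agent.Zassenhaus.NilBound
import Cfsg.Agent.S0188

/-!
Sums of squares of small irreducible degrees.
-/

set_option autoImplicit false
set_option linter.unusedSectionVars false

namespace Cfsg.Agent.Zassenhaus

variable {H : Type*} [Group H] [Finite H]

/-- The sum of the squares of the irreducible degrees below `c`. -/
noncomputable def dsum (H : Type*) [Group H] [Finite H] (c : ℕ) : ℕ :=
  ∑ χ ∈ Finset.univ.filter (fun χ : IrrCharacter H => cdeg χ < c), cdeg χ * cdeg χ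

theorem cdeg_dvd (χ : IrrCharacter H) : cdeg χ ∣ Nat.card H :=
  Char.IsIrr.degree_dvd_card χ.2 (cdeg_spec χ).2

theorem sum_cdeg_sq : ∑ χ : IrrCharacter H, cdeg χ * cdeg χ = Nat.card H := by
  classical
  have := Fintype.ofFinite H
  have h := Char.sum_sq_degree (G := H)
  simp only [(cdeg_spec _).2] at h
  have e : ∀ χ : IrrCharacter H, (cdeg χ : ℂ) ^ 2 = ((cdeg χ * cdeg χ : ℕ) : ℂ) := fun χ => by
    push_cast; ring
  rw [Finset.sum_congr rfl fun χ _ => e χ, ← Nat.cast_sum, Nat.cast_inj] at h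
  exact h

theorem dsum_two : dsum H 2 = (commutator H).index := by
  classical
  rw [← Char.card_linear, Nat.card_eq_fintype_card, Fintype.card_subtype, dsum,
    Finset.card_eq_sum_ones]
  refine Finset.sum_congr (Finset.filter_congr fun χ _ => ?_) fun χ hχ => ?_
  · rw [(cdeg_spec χ).2, Nat.cast_eq_one]
    have := (cdeg_spec χ).1
    constructor <;> intro <;> omega
  · have h := (Finset.mem_filter.1 hχ).2
    rw [(cdeg_spec χ).2, Nat.cast_eq_one] at h
    rw [h]

theorem dsum_mono {b c : ℕ} (h : b ≤ c) : dsum H b ≤ dsum H c :=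
  Finset.sum_le_sum_of_subset fun χ hχ => Finset.mem_filter.2
    ⟨Finset.mem_univ _, lt_of_lt_of_le (Finset.mem_filter.1 hχ).2 h⟩

theorem dsum_add_le {b d : ℕ} (hb : 1 < b)
    (h : d ≤ (Finset.univ.filter fun χ : IrrCharacter H => cdeg χ = b).card) :
    dsum H 2 + d * (b * b) ≤ dsum H (b + 1) := by
  classical
  refine le_trans (Nat.add_le_add_left (Nat.mul_le_mul_right _ h) _) ?_
  have hb2 : (Finset.univ.filter fun χ : IrrCharacter H => cdeg χ = b).card * (b * b) =
      ∑ χ ∈ Finset.univ.filter (fun χ : IrrCharacter H => cdeg χ = b), cdeg χ * cdeg χ := by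
    rw [← smul_eq_mul, ← Finset.sum_const]
    exact Finset.sum_congr rfl fun χ hχ => by rw [(Finset.mem_filter.1 hχ).2]
  rw [hb2, dsum, dsum,
    ← Finset.sum_union (Finset.disjoint_filter.2 fun χ _ h1 h2 => by omega)]
  refine Finset.sum_le_sum_of_subset fun χ hχ => Finset.mem_filter.2 ⟨Finset.mem_univ _, ?_⟩
  rcases Finset.mem_union.1 hχ with h1 | h1 <;> have := (Finset.mem_filter.1 h1).2 <;> omega

/-- In a `p`-group the square of a degree above one is at most the sum below it. -/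
theorem sq_le_dsum {p : ℕ} (hp : p.Prime) {e : ℕ} (hH : Nat.card H = p ^ e) {χ : IrrCharacter H}
    (hχ : 1 < cdeg χ) : cdeg χ * cdeg χ ≤ dsum H (cdeg χ) := by
  classical
  obtain ⟨i, -, hi⟩ := (Nat.dvd_prime_pow hp).1 (hH ▸ cdeg_dvd χ)
  have hlin : 0 < dsum H (cdeg χ) := by
    refine lt_of_lt_of_le ?_ (dsum_mono (b := 2) hχ)
    rw [dsum_two]
    exact Nat.pos_of_ne_zero Subgroup.index_ne_zero_of_finite
  refine Nat.le_of_dvd hlin ?_
  have hsum := sum_cdeg_sq (H := H)
  rw [← Finset.sum_filter_add_sum_filter_not Finset.univ (fun ψ => cdeg ψ < cdeg χ), ← dsum] at hsum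
  have hge : cdeg χ * cdeg χ ∣ ∑ ψ ∈ Finset.univ.filter (fun ψ => ¬cdeg ψ < cdeg χ),
      cdeg ψ * cdeg ψ := Finset.dvd_sum fun ψ hψ => by
    obtain ⟨j, -, hj⟩ := (Nat.dvd_prime_pow hp).1 (hH ▸ cdeg_dvd ψ)
    have h1 := (Finset.mem_filter.1 hψ).2
    rw [hi, hj, not_lt] at h1
    rw [hi, hj]
    exact Nat.mul_dvd_mul (pow_dvd_pow p ((Nat.pow_le_pow_iff_right hp.one_lt).1 h1))
      (pow_dvd_pow p ((Nat.pow_le_pow_iff_right hp.one_lt).1 h1))
  refine (Nat.dvd_add_left hge).1 ?_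
  rw [hsum, hH, hi, ← pow_add]
  refine pow_dvd_pow p ((Nat.pow_le_pow_iff_right hp.one_lt).1 ?_)
  rw [← hH, pow_add, ← hi, ← sum_cdeg_sq]
  exact Finset.single_le_sum (f := fun ψ => cdeg ψ * cdeg ψ) (fun _ _ => Nat.zero_le _)
    (Finset.mem_univ χ)

theorem eq_of_smul {f f' : IrrCharacter H} {u v : ℕ} (hu : 0 < u)
    (h : ∀ c, (f : H → ℂ) c * (u : ℂ) = (f' : H → ℂ) c * (v : ℂ)) : f = f' := by
  classical
  have := Fintype.ofFinite H
  by_contra hne
  have e1 : (u : ℂ) • (f : H → ℂ) = (v : ℂ) • (f' : H → ℂ) := funext fun c => by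
    simp only [Pi.smul_apply, smul_eq_mul]
    linear_combination h c
  have e2 := congrArg (fun g => classInner g (f : H → ℂ)) e1
  simp only [Char.classInner_smul_left, Char.classInner_irr_self f.2,
    Char.classInner_irr_ne f'.2 f.2 (fun e => hne (Subtype.ext e).symm), mul_one, mul_zero] at e2
  exact hu.ne' (by exact_mod_cast e2)

section Product

variable {F A B : Type*} [Group F] [Group A] [Group B] [Finite F] [Finite A] [Finite B]
  (e : F ≃* A × B)

/-- The product character. -/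
noncomputable def prodIrr (α : IrrCharacter A) (β : IrrCharacter B) : IrrCharacter F :=
  ⟨fun f => (α : A → ℂ) (e f).1 * (β : B → ℂ) (e f).2,
    (Char.isIrrCharacter_comp_equiv e).2 ((Cfsg.Agent.S0188.result _).2 ⟨α, β, α.2, β.2, rfl⟩)⟩

theorem cdeg_prodIrr (α : IrrCharacter A) (β : IrrCharacter B) :
    cdeg (prodIrr e α β) = cdeg α * cdeg β :=
  cdeg_eq (by
    show (α : A → ℂ) (e 1).1 * (β : B → ℂ) (e 1).2 = _
    rw [map_one, Prod.fst_one, Prod.snd_one, (cdeg_spec α).2, (cdeg_spec β).2]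
    push_cast
    rfl)

theorem exists_prodIrr (χ : IrrCharacter F) : ∃ α β, prodIrr e α β = χ := by
  obtain ⟨α, β, hα, hβ, h⟩ := (Cfsg.Agent.S0188.result (fun x => (χ : F → ℂ) (e.symm x))).1
    ((Char.isIrrCharacter_comp_equiv e.symm).2 χ.2)
  refine ⟨⟨α, hα⟩, ⟨β, hβ⟩, Subtype.ext (funext fun f => ?_)⟩
  have := congrFun h (e f)
  rw [e.symm_apply_apply] at this
  exact this.symm

theorem prodIrr_injective : Function.Injective fun q : IrrCharacter A × IrrCharacter B =>
    prodIrr e q.1 q.2 := by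
  classical
  rintro ⟨α, β⟩ ⟨α', β'⟩ h
  have h' : ∀ x : A × B, (α : A → ℂ) x.1 * (β : B → ℂ) x.2 =
      (α' : A → ℂ) x.1 * (β' : B → ℂ) x.2 := fun x => by
    have h1 := congrFun (congrArg Subtype.val h) (e.symm x)
    simpa [prodIrr] using h1
  refine Prod.ext (eq_of_smul (v := cdeg β') (cdeg_spec β).1 fun a => ?_)
    (eq_of_smul (v := cdeg α') (cdeg_spec α).1 fun b => ?_)
  · have h1 := h' (a, 1)
    simp only [(cdeg_spec _).2] at h1
    exact h1
  · have h1 := h' (1, b)
    simp only [(cdeg_spec _).2] at h1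
    rw [mul_comm ((β : B → ℂ) b), mul_comm ((β' : B → ℂ) b)]
    exact h1

include e in
theorem dsum_mul_le {a b c : ℕ} (h : ∀ x y, x < a → y < b → x * y < c) :
    dsum A a * dsum B b ≤ dsum F c := by
  classical
  rw [dsum, dsum, Finset.sum_mul_sum, ← Finset.sum_product']
  calc _ = ∑ q ∈ (Finset.univ.filter fun α : IrrCharacter A => cdeg α < a) ×ˢ
        (Finset.univ.filter fun β : IrrCharacter B => cdeg β < b),
        cdeg (prodIrr e q.1 q.2) * cdeg (prodIrr e q.1 q.2) :=
        Finset.sum_congr rfl fun q _ => by rw [cdeg_prodIrr]; ring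
    _ = _ := (Finset.sum_image (f := fun χ => cdeg χ * cdeg χ)
        fun q _ q' _ hq => prodIrr_injective e hq).symm
    _ ≤ dsum F c := Finset.sum_le_sum_of_subset fun χ hχ => by
        obtain ⟨q, hq, rfl⟩ := Finset.mem_image.1 hχ
        obtain ⟨h1, h2⟩ := Finset.mem_product.1 hq
        exact Finset.mem_filter.2 ⟨Finset.mem_univ _, by
          rw [cdeg_prodIrr]
          exact h _ _ (Finset.mem_filter.1 h1).2 (Finset.mem_filter.1 h2).2⟩

end Product

end Cfsg.Agent.Zassenhaus
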