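import Cfsg.Agent.Zassenhaus.NilOddCount
import Cfsg.Agent.Zassenhaus.DegSum
import Cfsg.Agent.S0944
import Cfsg.Agent.Char.Perm

/-!
A Zassenhaus group with kernel of odd prime power order `n ≥ 2 d² + 1` does not exist: the prime to
`p` part of a degree divides the value at an involution, so a seed character has degree `d`.
-/

set_option autoImplicit false
set_option linter.unusedSectionVars false

namespace Cfsg.Agent.Zassenhaus

open Subgroup MulAction
open scoped ComplexConjugate

universe u v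

/-- The numerical contradiction for a character taking the value one on all seeds. -/
theorem seed_ineq {d s A' u T : ℤ} (hd : 3 ≤ d) (hs : 2 ≤ s) (hA' : 0 ≤ A') (hA : 2 * d ≤ s + A')
    (hT : 0 ≤ T) (hcs : (u - s) * (u - s) ≤ A' * T)
    (h : u * u + (d * (s + A') + 2) * (s + T - 1) ≤ d * (u * u)) : False := by
  set N := d * (s + A') + 2 with hN
  have hNpos : 0 < N := by nlinarith
  rcases hA'.eq_or_lt with h0 | h0
  · subst h0
    rw [zero_mul] at hcs
    have hu : u = s := by nlinarith [mul_self_nonneg (u - s)]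
    subst hu
    have h1 : N * (u - 1) ≤ N * (u + T - 1) := mul_le_mul_of_nonneg_left (by linarith) hNpos.le
    have h2 : (d + d) * u ≤ u * u := mul_le_mul_of_nonneg_right (by linarith) (by linarith)
    nlinarith
  set c := A' + d * s + 2 with hc
  have hcpos : 0 < c := by nlinarith
  have hQ : A' * (N * (s - 1)) + N * ((u - s) * (u - s)) ≤ (d - 1) * (u * u) * A' := by
    have h1 : N * ((u - s) * (u - s)) ≤ N * (A' * T) := mul_le_mul_of_nonneg_left hcs hNpos.le
    have h2 := mul_le_mul_of_nonneg_left h hA'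
    nlinarith
  have hbr : 0 < c * (s - 1) - (d - 1) * (s * s) := by
    have h1 : d * s ≤ (s - 1) * (s + A') := by
      have h2 : (s - 1) * (2 * d) ≤ (s - 1) * (s + A') :=
        mul_le_mul_of_nonneg_left hA (by linarith)
      nlinarith
    have e : c * (s - 1) - (d - 1) * (s * s) = (s - 1) * (s + A') - d * s + (3 * s - 2) := by
      rw [hc]; ring
    linarith
  have e : c * (A' * (N * (s - 1)) + N * ((u - s) * (u - s)) - (d - 1) * (u * u) * A') =
      (c * u - N * s) * (c * u - N * s) + N * A' * (c * (s - 1) - (d - 1) * (s * s)) := by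
    rw [hc, hN]; ring
  have h3 : 0 < N * A' * (c * (s - 1) - (d - 1) * (s * s)) := mul_pos (mul_pos hNpos h0) hbr
  have h4 : c * (A' * (N * (s - 1)) + N * ((u - s) * (u - s)) - (d - 1) * (u * u) * A') ≤ 0 :=
    mul_nonpos_of_nonneg_of_nonpos hcpos.le (by linarith)
  linarith [mul_self_nonneg (c * u - N * s)]

namespace NCtx

variable {G : Type u} {Ω : Type v} [Group G] [MulAction G Ω] [Fintype G] [Finite Ω]
  (X : NCtx G Ω)

set_option maxHeartbeats 2000000 in
/-- No kernel of order a large power of an odd prime. -/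
theorem false_of_odd_kernel (hd1 : 1 < Nat.card (twoPt G X.a X.b)) {p e : ℕ} (hp : p.Prime)
    (hp2 : p ≠ 2) (hne : Nat.card X.F = p ^ e)
    (hn2 : 2 * (Nat.card (twoPt G X.a X.b) * Nat.card (twoPt G X.a X.b)) + 1 ≤ Nat.card X.F) :
    False := by
  classical
  have hcon : 2 * Nat.card (twoPt G X.a X.b) + 1 < Nat.card X.F := by
    have : Nat.card (twoPt G X.a X.b) * 2 ≤
        Nat.card (twoPt G X.a X.b) * Nat.card (twoPt G X.a X.b) := Nat.mul_le_mul_left _ hd1
    omega
  have := Fintype.ofFinite X.L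
  set n := Nat.card X.F with hn
  set d := Nat.card (twoPt G X.a X.b) with hd
  have hN : n + 1 = Nat.card Ω := X.card_F
  have hL : Nat.card X.L = n * d := X.card_L
  let P : IrrCharacter X.L → G → ℂ := fun θ => indFun X.L (θ : X.L → ℂ)
  have hPchar : ∀ θ, IsCharacter G (P θ) := fun θ =>
    Char.isCharacter_indFun X.L (Char.IsIrr.isCharacter θ.2)
  choose m hm using fun (θ : IrrCharacter X.L) (χ : IrrCharacter G) =>
    Char.classInner_isCharacter_eq_natCast (hPchar θ) (Char.IsIrr.isCharacter χ.2)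
  choose dG hdG0 hdG using fun χ : IrrCharacter G => Char.IsIrr.degree χ.2
  choose dL hdL0 hdL using fun θ : IrrCharacter X.L => Char.IsIrr.degree θ.2
  have hdLlin : ∀ θ, X.IsLin θ → dL θ = 1 := fun θ h => by
    have := (hdL θ).symm.trans (X.lin_one h); exact_mod_cast this
  haveI : Nonempty (IrrCharacter X.K) := ⟨⟨fun _ => 1, Char.isIrrCharacter_one⟩⟩
  choose! φ hφ1 hφind hφdeg using fun (θ : IrrCharacter X.L) (h : ¬X.IsLin θ) => X.exists_ind h
  set a : IrrCharacter X.L → ℕ := fun θ => cdeg (φ θ) with ha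
  have hdLnon : ∀ θ, ¬X.IsLin θ → dL θ = d * a θ := fun θ h => by
    have := (hdL θ).symm.trans (hφdeg θ h)
    rw [(cdeg_spec (φ θ)).2] at this
    exact_mod_cast this
  have hPcls : ∀ θ, IsClassFunction G (P θ) := fun θ => Char.isClassFunction_indFun X.L _
  have hm' : ∀ (θ : IrrCharacter X.L) (χ : IrrCharacter G), classInner (fun l : X.L => (χ : G → ℂ) l) (θ : X.L → ℂ) = m θ χ := fun θ χ => by
    rw [← Char.classInner_indFun_right X.L _ (Char.isClassFunction_of_isIrr χ.2),
      ← Char.classInner_conj_symm, show classInner (indFun X.L (θ : X.L → ℂ)) (χ : G → ℂ) = _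
        from hm θ χ]
    simp
  have hN_def : ∀ (θ η : IrrCharacter X.L), classInner (P θ) (P η) = ((∑ χ, m θ χ * m η χ : ℕ) : ℂ) := fun θ η => by
    rw [Char.classInner_eq_sum (hPcls θ)]
    push_cast
    refine Finset.sum_congr rfl fun χ _ => ?_
    rw [hm, ← Char.classInner_conj_symm (φ := P η), hm]
    simp
  have hNnon : ∀ θ η, ¬X.IsLin η →
      ∑ χ, m θ χ * m η χ = (if θ = η then 1 else 0) + dL θ * a η := by
    intro θ η hη
    have hres : (fun l : X.L => P η l) = (η : X.L → ℂ) +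
        fun l => if l = 1 then ((Nat.card X.L * a η : ℕ) : ℂ) else 0 := by
      funext l
      by_cases hl1 : l = 1
      · subst hl1
        simp only [Pi.add_apply, if_pos, P, Subgroup.coe_one, X.ind_one, ← hN, hdL, hdLnon η hη, hL]
        push_cast
        ring
      by_cases hlK : l ∈ X.K
      · simp only [Pi.add_apply, if_neg hl1, add_zero, P]
        exact X.ind_ker _ (Char.isClassFunction_of_isIrr η.2) hlK hl1
      · obtain ⟨h, h1, h2⟩ := X.ind_off _ (Char.isClassFunction_of_isIrr η.2) hlK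
        simp only [Pi.add_apply, if_neg hl1, add_zero, P, h2]
        rw [Char.IsChar.inv_eq_conj (Char.IsIrr.isCharacter η.2), ← h1, X.nonlin_off hη hlK]
        simp
    have h := hN_def θ η
    rw [show classInner (P θ) (P η) = classInner (θ : X.L → ℂ) (fun l : X.L => P η l) from
      Char.classInner_indFun_left X.L _ (hPcls η), hres, Char.classInner_add_right,
      Char.classInner_irrChar] at h
    have h3 : classInner (θ : X.L → ℂ)
        (fun l => if l = 1 then ((Nat.card X.L * a η : ℕ) : ℂ) else 0) = ((dL θ * a η : ℕ) : ℂ) := by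
      rw [classInner, Finset.sum_eq_single (1 : X.L) (fun l _ hl => by simp [hl]) (by simp),
        if_pos rfl, map_natCast, hdL, Nat.cast_mul, Nat.cast_mul, ← mul_assoc, ← mul_assoc,
        mul_comm _ (dL θ : ℂ), mul_assoc (dL θ : ℂ), inv_mul_cancel₀ Char.card_ne_zero, mul_one]
    rw [h3] at h
    split_ifs at h ⊢ with he <;> exact_mod_cast h.symm
  have hNlin : ∀ θ η, X.IsLin θ → X.IsLin η →
      ∑ χ, m θ χ * m η χ = (if θ = η then 1 else 0) + (if θ = Char.conjIrr η then 1 else 0) := by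
    intro θ η hθ hη
    obtain ⟨f, hf⟩ := X.lin_hom hη
    have hK1 : ∀ k : X.L, k ∈ X.K → (η : X.L → ℂ) k = 1 := fun k hk => (hη k hk).trans (X.lin_one hη)
    have hres : (fun l : X.L => P η l) = (η : X.L → ℂ) + (Char.conjIrr η : X.L → ℂ) -
        (fun l => if l ∈ X.K then (1 : ℂ) else 0) + fun l => if l = 1 then (n : ℂ) else 0 := by
      funext l
      by_cases hl1 : l = 1
      · subst hl1
        simp only [Pi.add_apply, Pi.sub_apply, P, Subgroup.coe_one, X.ind_one, ← hN,
          Char.conjIrr_apply, hK1 1 X.K.one_mem, if_pos X.K.one_mem, if_pos, map_one]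
        push_cast
        ring
      by_cases hlK : l ∈ X.K
      · simp only [Pi.add_apply, Pi.sub_apply, P, if_pos hlK, if_neg hl1,
          Char.conjIrr_apply, X.ind_ker _ (Char.isClassFunction_of_isIrr η.2) hlK hl1, hK1 l hlK,
          map_one]
        ring
      · obtain ⟨h, h1, h2⟩ := X.ind_off _ (Char.isClassFunction_of_isIrr η.2) hlK
        simp only [Pi.add_apply, Pi.sub_apply, P, if_neg hlK, if_neg hl1, h2, Char.conjIrr_apply,
          Char.IsChar.inv_eq_conj (Char.IsIrr.isCharacter η.2), ← h1]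
        ring
    have h := hN_def θ η
    rw [show classInner (P θ) (P η) = classInner (θ : X.L → ℂ) (fun l : X.L => P η l) from
      Char.classInner_indFun_left X.L _ (hPcls η), hres, Char.classInner_add_right,
      Char.classInner_sub_right, Char.classInner_add_right,
      Char.classInner_irrChar, Char.classInner_irrChar] at h
    have h3 : classInner (θ : X.L → ℂ) (fun l => if l = 1 then (n : ℂ) else 0) =
        classInner (θ : X.L → ℂ) (fun l => if l ∈ X.K then (1 : ℂ) else 0) := by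
      rw [classInner, classInner, Finset.sum_eq_single (1 : X.L) (fun l _ hl => by simp [hl]) (by simp),
        if_pos rfl, map_natCast, X.lin_one hθ, one_mul]
      congr 1
      rw [show n = Nat.card X.K from X.card_K.symm, Nat.card_eq_fintype_card, Fintype.card_subtype,
        ← Finset.sum_boole]
      refine Finset.sum_congr rfl fun l _ => ?_
      by_cases hl : l ∈ X.K
      · simp [hl, hθ l hl, X.lin_one hθ]
      · simp [hl]
    rw [h3, sub_add_cancel] at h
    split_ifs at h ⊢ <;> exact_mod_cast h.symm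
  -- degrees
  have hdeg : ∀ θ, (n + 1) * dL θ = ∑ χ, m θ χ * dG χ := fun θ => by
    have h := congrFun (Char.classFun_expansion (hPcls θ)) 1
    simp only [Finset.sum_apply, Pi.smul_apply, smul_eq_mul, hm, hdG, P, X.ind_one, ← hN, hdL] at h
    exact_mod_cast h
  have hdegres : ∀ χ, dG χ = ∑ θ, m θ χ * dL θ := fun χ => by
    have h := congrFun (Char.classFun_expansion (G := X.L)
      (f := fun l : X.L => (χ : G → ℂ) l) fun x y => by
        simpa using Char.isClassFunction_of_isIrr χ.2 (x : G) (y : G)) 1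
    simp only [Finset.sum_apply, Pi.smul_apply, smul_eq_mul, hm', hdL, Subgroup.coe_one, hdG] at h
    exact_mod_cast h
  -- the trivial character
  let oneL : IrrCharacter X.L := ⟨fun _ => 1, Char.isIrrCharacter_one⟩
  let oneG : IrrCharacter G := ⟨fun _ => 1, Char.isIrrCharacter_one⟩
  have honeLin : X.IsLin oneL := fun _ _ => rfl
  have hconj1 : Char.conjIrr oneL = oneL := Subtype.ext (funext fun g => by simp [oneL])
  have hm1G : ∀ θ, m θ oneG = if θ = oneL then 1 else 0 := fun θ => by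
    have h := hm' θ oneG
    rw [show (fun l : X.L => (oneG : G → ℂ) l) = (oneL : X.L → ℂ) from rfl,
      Char.classInner_irrChar] at h
    by_cases he : θ = oneL
    · subst he; simpa using h.symm
    · rw [if_neg he]; rw [if_neg (Ne.symm he)] at h; exact_mod_cast h.symm
  obtain ⟨St, hStne, hSt⟩ : ∃ St, St ≠ oneG ∧
      ∀ χ, m oneL χ = (if χ = oneG then 1 else 0) + (if χ = St then 1 else 0) := by
    have h2 := hNlin oneL oneL honeLin honeLin
    rw [hconj1, if_pos rfl, ← Finset.add_sum_erase _ _ (Finset.mem_univ oneG), hm1G, if_pos rfl,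
      one_mul, Nat.add_left_cancel_iff] at h2
    obtain ⟨St, hSt1, hSt2⟩ := exists_unit_vector _ _ h2
    refine ⟨St, Finset.ne_of_mem_erase hSt1, fun χ => ?_⟩
    by_cases hχ : χ = oneG
    · subst hχ
      rw [hm1G, if_pos rfl, if_pos rfl, if_neg (Ne.symm (Finset.ne_of_mem_erase hSt1))]
    · rw [hSt2 χ (Finset.mem_erase.2 ⟨hχ, Finset.mem_univ _⟩), if_neg hχ, zero_add]
  -- the nontrivial linear characters
  have hlinreal : ∀ θ, X.IsLin θ → Char.conjIrr θ = θ → θ = oneL := by
    intro θ hθ hreal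
    obtain ⟨f, hf⟩ := X.lin_hom hθ
    refine Subtype.ext (funext fun l => ?_)
    have h1 : (f l : ℂ) * f l = 1 := by
      have h2 := congrArg (fun ψ : IrrCharacter X.L => (ψ : X.L → ℂ) l) hreal
      simp only [Char.conjIrr_apply] at h2
      rw [← Char.IsChar.inv_eq_conj (Char.IsIrr.isCharacter θ.2), hf] at h2
      simp only [map_inv, Units.val_inv_eq_inv_val] at h2
      nth_rw 1 [← h2]
      exact inv_mul_cancel₀ (f l).ne_zero
    have hd' : (f l : ℂ) ^ d = 1 := by
      have h2 := hθ _ (X.K.pow_index_mem l)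
      rw [X.index_K, hf] at h2
      simp only [map_pow, map_one, Units.val_pow_eq_pow_val, Units.val_one] at h2
      exact h2
    obtain ⟨j, hj⟩ := X.odd
    rw [hd, hj, pow_succ, pow_mul, pow_two, h1, one_pow, one_mul] at hd'
    rw [hf]
    exact hd'
  have hI : ∀ θ, X.IsLin θ → θ ≠ oneL → ∃ I, ∀ χ, m θ χ = if χ = I then 1 else 0 := by
    intro θ hθ hne
    have h := hNlin θ θ hθ hθ
    rw [if_pos rfl, if_neg fun e => hne (hlinreal θ hθ e.symm), add_zero] at h
    obtain ⟨I, -, hI⟩ := exists_unit_vector _ _ h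
    exact ⟨I, fun χ => hI χ (Finset.mem_univ _)⟩
  have : Nonempty (IrrCharacter G) := ⟨oneG⟩
  choose! I hI using hI
  let L1 : Finset (IrrCharacter X.L) := Finset.univ.filter fun θ => X.IsLin θ ∧ θ ≠ oneL
  let K1 : Finset (IrrCharacter G) := L1.image I
  set k := K1.card with hk
  have hmemL1 : ∀ θ, θ ∈ L1 ↔ X.IsLin θ ∧ θ ≠ oneL := fun θ => by simp [L1]
  have hIeq : ∀ θ ∈ L1, ∀ η, X.IsLin η → ∑ χ, m θ χ * m η χ = m η (I θ) := by
    intro θ hθ η _
    obtain ⟨h1, h2⟩ := (hmemL1 θ).1 hθ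
    simp [hI θ h1 h2]
  have hdk : d = 2 * k + 1 := by
    have hfib : ∀ χ ∈ K1, (L1.filter fun θ => I θ = χ).card = 2 := by
      intro χ hχ
      obtain ⟨η, hη, rfl⟩ := Finset.mem_image.1 hχ
      obtain ⟨hη1, hη2⟩ := (hmemL1 η).1 hη
      have hcne : Char.conjIrr η ≠ η := fun e => hη2 (hlinreal η hη1 e)
      have : (L1.filter fun θ => I θ = I η) = {η, Char.conjIrr η} := by
        ext θ
        simp only [Finset.mem_filter, Finset.mem_insert, Finset.mem_singleton]
        constructor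
        · rintro ⟨hθ, he⟩
          obtain ⟨hθ1, hθ2⟩ := (hmemL1 θ).1 hθ
          have h := (hIeq θ hθ η hη1).symm.trans (hNlin θ η hθ1 hη1)
          rw [he, hI η hη1 hη2, if_pos rfl] at h
          by_contra hc
          rw [not_or] at hc
          rw [if_neg hc.1, if_neg hc.2] at h
          omega
        · rintro (rfl | rfl)
          · exact ⟨hη, rfl⟩
          have hc1 : X.IsLin (Char.conjIrr η) := fun k' hk' => by
            rw [Char.conjIrr_apply, Char.conjIrr_apply, hη1 k' hk']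
          have hc2 : Char.conjIrr η ≠ oneL := fun e => hη2 (by
            rw [← Char.conjIrr_conjIrr η, e, hconj1])
          have hcL : Char.conjIrr η ∈ L1 := (hmemL1 _).2 ⟨hc1, hc2⟩
          refine ⟨hcL, ?_⟩
          have h := (hIeq _ hcL η hη1).symm.trans (hNlin _ η hc1 hη1)
          rw [hI η hη1 hη2, if_neg hcne, if_pos rfl, zero_add] at h
          by_contra hc
          rw [if_neg hc] at h
          omega
      rw [this, Finset.card_pair (Ne.symm hcne)]
    have h1 : L1.card = k * 2 := by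
      rw [Finset.card_eq_sum_card_image I L1, Finset.sum_const_nat hfib]
    have h2 : (Finset.univ.filter fun θ => X.IsLin θ).card = L1.card + 1 := by
      rw [← Finset.card_erase_add_one (s := Finset.univ.filter fun θ => X.IsLin θ) (a := oneL)
        (by simpa using honeLin)]
      congr 2
      ext θ
      simp [L1, and_comm]
    have h3 : d = (Finset.univ.filter fun θ => X.IsLin θ).card := by
      rw [hd, ← X.card_lin, Nat.card_eq_fintype_card, Fintype.card_subtype]
    omega
  have hI1 : ∀ θ ∈ L1, I θ ≠ oneG ∧ I θ ≠ St := by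
    intro θ hθ
    obtain ⟨h1, h2⟩ := (hmemL1 θ).1 hθ
    have h := (hIeq θ hθ oneL honeLin).symm.trans (hNlin θ oneL h1 honeLin)
    rw [hconj1, if_neg h2, hSt] at h
    constructor <;> intro e <;> rw [e] at h <;> simp at h
  let known : Finset (IrrCharacter G) := insert oneG (insert St K1)
  let rest : Finset (IrrCharacter G) := Finset.univ.filter fun χ => χ ∉ known
  have hK1ne : oneG ∉ K1 ∧ St ∉ K1 := by
    constructor <;> intro h <;> obtain ⟨θ, hθ, e⟩ := Finset.mem_image.1 h
    · exact (hI1 θ hθ).1 e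
    · exact (hI1 θ hθ).2 e
  have hsum_known : ∀ {R : Type} [AddCommMonoid R] (f : IrrCharacter G → R), ∑ χ, f χ = f oneG + f St + ∑ χ ∈ K1, f χ + ∑ χ ∈ rest, f χ := by
    intro R _ f
    rw [← Finset.sum_filter_add_sum_filter_not Finset.univ (fun χ => χ ∈ known)]
    congr 1
    rw [show (Finset.univ.filter fun χ => χ ∈ known) = known by ext; simp, Finset.sum_insert,
      Finset.sum_insert hK1ne.2, add_assoc]
    simp only [Finset.mem_insert, not_or]
    exact ⟨Ne.symm hStne, hK1ne.1⟩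
  have hrest : ∀ χ ∈ rest, ∀ θ, X.IsLin θ → m θ χ = 0 := by
    intro χ hχ θ hθ
    have hχ' : χ ≠ oneG ∧ χ ≠ St ∧ χ ∉ K1 := by simpa [rest, known] using hχ
    by_cases he : θ = oneL
    · subst he
      rw [hSt, if_neg hχ'.1, if_neg hχ'.2.1]
    · rw [hI θ hθ he, if_neg]
      rintro rfl
      exact hχ'.2.2 (Finset.mem_image.2 ⟨θ, (hmemL1 θ).2 ⟨hθ, he⟩, rfl⟩)
  let NL : Finset (IrrCharacter X.L) := Finset.univ.filter fun θ => ¬X.IsLin θ
  have hNL : ∀ θ, θ ∈ NL ↔ ¬X.IsLin θ := fun θ => by simp [NL]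
  have hmI : ∀ η ∈ NL, ∀ χ ∈ K1, m η χ = a η := by
    intro η hη χ hχ
    obtain ⟨θ, hθ, rfl⟩ := Finset.mem_image.1 hχ
    obtain ⟨h1, h2⟩ := (hmemL1 θ).1 hθ
    have h := hNnon θ η ((hNL η).1 hη)
    rw [if_neg (fun (e : θ = η) => (hNL η).1 hη (e ▸ h1)), zero_add, hdLlin θ h1, one_mul] at h
    simpa [hI θ h1 h2] using h
  have hmSt : ∀ η ∈ NL, m η oneG = 0 ∧ m η St = a η := by
    intro η hη
    have h0 : m η oneG = 0 := by
      rw [hm1G, if_neg fun (e : η = oneL) => (hNL η).1 hη (e ▸ honeLin)]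
    refine ⟨h0, ?_⟩
    have h := hNnon oneL η ((hNL η).1 hη)
    rw [if_neg (fun (e : oneL = η) => (hNL η).1 hη (e ▸ honeLin)), zero_add, hdLlin _ honeLin,
      one_mul] at h
    simp only [hSt, add_mul, ite_mul, one_mul, zero_mul, Finset.sum_add_distrib, Finset.sum_ite_eq',
      Finset.mem_univ, if_true, h0, zero_add] at h
    exact h
  have hgram : ∀ θ ∈ NL, ∀ η ∈ NL,
      ∑ χ ∈ rest, m θ χ * m η χ = (if θ = η then 1 else 0) + k * (a θ * a η) := by
    intro θ hθ η hη
    have h := hsum_known (fun χ => m θ χ * m η χ)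
    rw [hNnon θ η ((hNL η).1 hη), hdLnon θ ((hNL θ).1 hθ), (hmSt θ hθ).1, (hmSt θ hθ).2,
      (hmSt η hη).2, Finset.sum_congr rfl (s₁ := K1) (g := fun _ => a θ * a η) fun χ hχ => by
        rw [hmI θ hθ χ hχ, hmI η hη χ hχ], Finset.sum_const, smul_eq_mul, ← hk, zero_mul, zero_add,
      show d * a θ * a η = a θ * a η + (k * (a θ * a η) + k * (a θ * a η)) by rw [hdk]; ring] at h
    omega
  have hdegSt : dG St = n := by
    have h := hdeg oneL
    simp only [hSt, add_mul, ite_mul, one_mul, zero_mul, Finset.sum_add_distrib, Finset.sum_ite_eq',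
      Finset.mem_univ, if_true, hdLlin _ honeLin, mul_one] at h
    have h1 : dG oneG = 1 := by
      have := hdG oneG
      simp only [oneG] at this
      exact_mod_cast this.symm
    omega
  have hdegK1 : ∀ χ ∈ K1, dG χ = n + 1 := by
    intro χ hχ
    obtain ⟨θ, hθ, rfl⟩ := Finset.mem_image.1 hχ
    obtain ⟨h1, h2⟩ := (hmemL1 θ).1 hθ
    have h := hdeg θ
    simp only [hdLlin θ h1, mul_one, hI θ h1 h2, ite_mul, one_mul, zero_mul, Finset.sum_ite_eq',
      Finset.mem_univ, if_true] at h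
    exact h.symm
  -- the nonlinear characters of the stabiliser
  have ht : (∑ θ ∈ NL, a θ * a θ) * d + 1 = n := by
    have h := Char.sum_sq_degree (G := X.L)
    simp only [hdL] at h
    have h' : ∑ θ, dL θ ^ 2 = n * d := by rw [← hL]; exact_mod_cast h
    rw [← Finset.sum_filter_add_sum_filter_not Finset.univ X.IsLin,
      Finset.sum_congr rfl (g := fun _ => 1) (fun θ hθ => by
        rw [hdLlin θ (Finset.mem_filter.1 hθ).2, one_pow]),
      Finset.sum_congr rfl (s₁ := Finset.univ.filter fun θ => ¬X.IsLin θ)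
        (g := fun θ => d ^ 2 * (a θ * a θ))
        (fun θ hθ => by rw [hdLnon θ (Finset.mem_filter.1 hθ).2]; ring),
      ← Finset.mul_sum, Finset.sum_const, smul_eq_mul, mul_one, ← Fintype.card_subtype,
      ← Nat.card_eq_fintype_card, X.card_lin, ← hd] at h'
    exact Nat.eq_of_mul_eq_mul_right (show 0 < d by omega)
      (by rw [← h', show NL = (Finset.univ.filter fun θ => ¬X.IsLin θ) from rfl]; ring)
  have ha0 : ∀ θ, 0 < a θ := fun θ => (cdeg_spec (φ θ)).1
  have hnodd : Odd n := hne ▸ (hp.odd_of_ne_two hp2).pow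
  have := Fintype.ofFinite Ω
  -- values at an involution
  obtain ⟨s, hsa, hsb, hs2, hs1⟩ := X.exists_swap
  choose b hb _ using fun χ : IrrCharacter G =>
    S0944.result χ s (orderOf_eq_prime (by rw [pow_two, hs2]) hs1)
  have hPs : ∀ θ, ∑ χ, (m θ χ : ℤ) * b χ = 0 := fun θ => by
    have h := congrFun (Char.classFun_expansion (hPcls θ)) s
    simp only [P, X.indFun_swap hnodd hs2 hs1, Finset.sum_apply, Pi.smul_apply, smul_eq_mul] at h
    simp only [P] at hm
    simp only [hm, hb] at h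
    exact_mod_cast h.symm
  have hbSt : b St = -1 := by
    have hb1 : b oneG = 1 := by
      have h := hb oneG
      simp only [oneG] at h
      exact_mod_cast h.symm
    have h := hPs oneL
    simp only [hSt, Nat.cast_add, Nat.cast_ite, Nat.cast_one, Nat.cast_zero, add_mul, ite_mul,
      one_mul, zero_mul, Finset.sum_add_distrib, Finset.sum_ite_eq', Finset.mem_univ, if_true,
      hb1] at h
    linarith
  have hbI : ∀ χ ∈ K1, b χ = 0 := by
    intro χ hχ
    obtain ⟨θ, hθ, rfl⟩ := Finset.mem_image.1 hχ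
    obtain ⟨h1, h2⟩ := (hmemL1 θ).1 hθ
    simpa [hI θ h1 h2] using hPs θ
  have hMb : ∀ η ∈ NL, ∑ χ ∈ rest, (m η χ : ℤ) * b χ = a η := by
    intro η hη
    have h := hsum_known (fun χ => (m η χ : ℤ) * b χ)
    rw [hPs η, (hmSt η hη).1, (hmSt η hη).2, hbSt,
      Finset.sum_eq_zero (s := K1) fun χ hχ => by rw [hbI χ hχ, mul_zero]] at h
    simp only [Nat.cast_zero, zero_mul, zero_add, add_zero, mul_neg, mul_one] at h
    linarith
  -- square roots
  have hν' : ∀ χ : IrrCharacter G, ∃ v : ℤ, Char.fsInd (χ : G → ℂ) = (v : ℂ) ∧ v ≤ 1 ∧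
      (Char.conjIrr χ ≠ χ → v = 0) := fun χ => by
    rcases Char.fsInd_irr χ with ⟨h, -⟩ | ⟨h | h, h'⟩
    · exact ⟨0, by simp [h], by omega, fun _ => rfl⟩
    · exact ⟨1, by simp [h], le_rfl, fun e => absurd h' e⟩
    · exact ⟨-1, by simp [h], by omega, fun e => absurd h' e⟩
  choose ν hν hν1 hν0 using hν'
  have hνsum : ∀ η ∈ NL, a η = 1 → ∑ χ, ν χ * (m η χ : ℤ) = d := by
    intro η hη ha1
    have hηL := (hNL η).1 hη
    let Fq : X.L → ℂ := fun l => (Nat.card {g : G // g * g = (l : G)} : ℂ)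
    have e1 : classInner Fq (η : X.L → ℂ) = ∑ χ, (ν χ : ℂ) * (m η χ : ℂ) := by
      have hexp : Fq = ∑ χ : IrrCharacter G, (ν χ : ℂ) • fun l : X.L => (χ : G → ℂ) l := by
        funext l
        simp only [Fq, Char.card_sqrt_eq_sum, hν, Finset.sum_apply, Pi.smul_apply, smul_eq_mul]
      rw [hexp, Char.classInner_sum_left]
      simp only [Char.classInner_smul_left, hm']
    have e2 : classInner Fq (η : X.L → ℂ) = (d : ℂ) := by
      have hη1 : (η : X.L → ℂ) 1 = (d : ℂ) := by rw [hdL, hdLnon η hηL, ha1, mul_one]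
      have h0 : ∑ l, conj ((η : X.L → ℂ) l) = 0 := by
        have h := Char.classInner_irr_ne oneL.2 η.2
          (fun e => hηL (Subtype.ext e ▸ honeLin : X.IsLin η))
        rw [classInner, mul_eq_zero, or_iff_right (inv_ne_zero Char.card_ne_zero)] at h
        simpa [oneL] using h
      have hterm : ∀ l : X.L, Fq l * conj ((η : X.L → ℂ) l) = conj ((η : X.L → ℂ) l) +
          if l = 1 then ((n * d * d : ℕ) : ℂ) else 0 := by
        intro l
        by_cases hl1 : l = 1
        · subst hl1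
          simp only [Fq, Subgroup.coe_one, X.card_sqrt_one hnodd, hη1, map_natCast, if_true,
            ← hn, ← hd]
          push_cast
          ring
        by_cases hlK : l ∈ X.K
        · simp only [Fq, X.card_sqrt_kernel hnodd hlK hl1, Nat.cast_one, one_mul, if_neg hl1,
            add_zero]
        · simp only [X.nonlin_off hηL hlK, map_zero, mul_zero, if_neg hl1, add_zero]
      rw [classInner, Finset.sum_congr rfl fun l _ => hterm l, Finset.sum_add_distrib, h0,
        zero_add, Finset.sum_ite_eq', if_pos (Finset.mem_univ _), hL]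
      have : ((n * d : ℕ) : ℂ) ≠ 0 :=
        Nat.cast_ne_zero.2 (Nat.mul_pos (show 0 < n by omega) (show 0 < d by omega)).ne'
      rw [inv_mul_eq_iff_eq_mul₀ this]
      push_cast
      ring
    exact_mod_cast e1.symm.trans e2
  -- real characters
  have hmconj : ∀ θ χ, m (Char.conjIrr θ) (Char.conjIrr χ) = m θ χ := fun θ χ => by
    have h := hm' (Char.conjIrr θ) (Char.conjIrr χ)
    simp only [Char.conjIrr_apply] at h
    rw [show ((Char.conjIrr θ : IrrCharacter X.L) : X.L → ℂ) = fun l => conj ((θ : X.L → ℂ) l)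
      from rfl, classInner_conj_conj (fun l : X.L => (χ : G → ℂ) l) (θ : X.L → ℂ), hm'] at h
    simp at h
    exact h.symm
  let RR := rest.filter fun χ => Char.conjIrr χ = χ
  let NR := rest.filter fun χ => ¬Char.conjIrr χ = χ
  have hsplit : ∀ {R : Type} [AddCommMonoid R] (f : IrrCharacter G → R),
      ∑ χ ∈ rest, f χ = ∑ χ ∈ RR, f χ + ∑ χ ∈ NR, f χ := fun f =>
    (Finset.sum_filter_add_sum_filter_not rest _ f).symm
  have hconjNL : ∀ η ∈ NL, Char.conjIrr η ∈ NL := fun η hη => (hNL _).2 fun h => (hNL η).1 hη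
    fun k' hk' => by
      have := congrArg conj (h k' hk')
      simpa using this
  have hnreal : ∀ η ∈ NL, Char.conjIrr η ≠ η := fun η hη e => (hNL η).1 hη fun k' _ => by
    have h := Char.real_irr_eq_one (X.odd_card_L hnodd) η.2
      (fun g => Complex.conj_eq_iff_im.1 (congrArg (fun ψ : IrrCharacter X.L => (ψ : X.L → ℂ) g) e))
    rw [h]
  have haconj : ∀ η ∈ NL, a (Char.conjIrr η) = a η := fun η hη => by
    have h := hdL (Char.conjIrr η)
    rw [Char.conjIrr_apply, hdL, map_natCast, Nat.cast_inj, hdLnon _ ((hNL _).1 (hconjNL η hη)),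
      hdLnon _ ((hNL η).1 hη)] at h
    exact (Nat.eq_of_mul_eq_mul_left (by omega) h).symm
  have hRRsym : ∀ η, ∀ χ ∈ RR, m (Char.conjIrr η) χ = m η χ := fun η χ hχ => by
    rw [← hmconj η χ, (Finset.mem_filter.1 hχ).2]
  have hcross : ∀ η ∈ NL, ∀ θ ∈ NL,
      ∑ χ ∈ RR, m η χ * m θ χ + ∑ χ ∈ NR, m η χ * m (Char.conjIrr θ) χ =
        (if η = Char.conjIrr θ then 1 else 0) + k * (a η * a θ) := fun η hη θ hθ => by
    rw [← haconj θ hθ, ← hgram η hη _ (hconjNL θ hθ), hsplit]
    congr 1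
    exact Finset.sum_congr rfl fun χ hχ => by rw [hRRsym θ χ hχ]
  have hseedRR : ∀ η ∈ NL, a η = 1 → ∑ χ ∈ RR, m η χ * m η χ = k ∧
      ∑ χ ∈ NR, m η χ * m η χ = 1 ∧ ∑ χ ∈ NR, m η χ * m (Char.conjIrr η) χ = 0 ∧
      ∀ χ ∈ RR, m η χ ≤ 1 := by
    intro η hη ha1
    have h1 := hcross η hη η hη
    rw [if_neg (Ne.symm (hnreal η hη)), ha1] at h1
    have h2 := hgram η hη η hη
    rw [if_pos rfl, ha1, hsplit] at h2
    have h3 := hsum_known (fun χ => ν χ * (m η χ : ℤ))
    rw [hνsum η hη ha1, hsplit, Finset.sum_eq_zero (s := NR) fun χ hχ => by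
      rw [hν0 χ (Finset.mem_filter.1 hχ).2, zero_mul], (hmSt η hη).1, (hmSt η hη).2, ha1] at h3
    have h4 : ∑ χ ∈ K1, ν χ * (m η χ : ℤ) ≤ k := by
      refine (Finset.sum_le_card_nsmul _ _ 1 fun χ hχ => ?_).trans (by simp [hk])
      rw [hmI η hη χ hχ, ha1, Nat.cast_one, mul_one]
      exact hν1 χ
    have h5 : ∑ χ ∈ RR, ν χ * (m η χ : ℤ) ≤ ((∑ χ ∈ RR, m η χ : ℕ) : ℤ) := by
      rw [Nat.cast_sum]
      exact Finset.sum_le_sum fun χ _ => mul_le_of_le_one_left (Int.natCast_nonneg _) (hν1 χ)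
    have h6 : ∑ χ ∈ RR, m η χ ≤ ∑ χ ∈ RR, m η χ * m η χ :=
      Finset.sum_le_sum fun χ _ => Nat.le_mul_self _
    have hkd : (d : ℤ) = 2 * (k : ℤ) + 1 := by exact_mod_cast hdk
    have := hν1 St
    simp only [Nat.cast_zero, Nat.cast_one, mul_zero, mul_one, zero_add, add_zero] at h3
    have h7 : k ≤ ∑ χ ∈ RR, m η χ := by
      have : (k : ℤ) ≤ ((∑ χ ∈ RR, m η χ : ℕ) : ℤ) := by linarith
      exact_mod_cast this
    rw [mul_one, mul_one] at h1 h2
    refine ⟨by omega, by omega, by omega, fun χ hχ => ?_⟩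
    have h8 := (Finset.sum_eq_sum_iff_of_le fun χ _ => Nat.le_mul_self (m η χ)).1
      (show ∑ χ ∈ RR, m η χ = ∑ χ ∈ RR, m η χ * m η χ by omega) χ hχ
    by_contra hc
    have : 2 * m η χ ≤ m η χ * m η χ := Nat.mul_le_mul_right _ (by omega)
    omega
  -- a seed
  have hLirr : ∃ ξ ∈ NL, a ξ = 1 := by
    have hnil := Coherence.FrobKernel.isNilpotent X.centralizer_le (X.K_ne_top hd1)
    obtain ⟨f, hf⟩ := Coherence.FrobKernel.exists_nontrivial_hom hnil (fun e' => by
      have h := X.card_K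
      rw [e', Subgroup.card_bot] at h
      omega)
    have hirr : IsIrrCharacter X.L (indFun X.K (Coherence.FrobKernel.linFun f)) :=
      X.ind_irr (φ := ⟨_, Char.isIrrCharacter_hom f⟩) (Coherence.FrobKernel.linFun_ne_one hf)
    have hnl : ¬X.IsLin ⟨_, hirr⟩ := X.ind_not_lin hd1 rfl
    refine ⟨⟨_, hirr⟩, (hNL _).2 hnl, Nat.eq_of_mul_eq_mul_left (show 0 < d by omega) ?_⟩
    have h := hdL ⟨_, hirr⟩
    rw [hdLnon _ hnl] at h
    simp only [Char.indFun_apply_one, X.index_K, Coherence.FrobKernel.linFun, map_one,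
      Units.val_one, ← hd] at h
    exact_mod_cast h.symm
  obtain ⟨ξ, hξ, haξ⟩ := hLirr
  obtain ⟨hξRR, hξNR, hξx, hξ01⟩ := hseedRR ξ hξ haξ
  obtain ⟨ρ, hρ, hρu⟩ := exists_unit_vector _ _ hξNR
  have hρ1 : m ξ ρ = 1 := by rw [hρu ρ hρ, if_pos rfl]
  have hρrest : ρ ∈ rest := (Finset.mem_filter.1 hρ).1
  obtain ⟨hξ'RR, hξ'NR, -, -⟩ := hseedRR _ (hconjNL ξ hξ) ((haconj ξ hξ).trans haξ)
  obtain ⟨ρ', hρ', hρ'u⟩ := exists_unit_vector _ _ hξ'NR
  have hconjρ : m (Char.conjIrr ξ) ρ = 0 := by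
    have := Finset.sum_eq_zero_iff.1 hξx ρ hρ
    rwa [hρ1, one_mul] at this
  have hρρ : ρ' ≠ ρ := fun e' => by
    rw [hρ'u ρ hρ, if_pos e'.symm] at hconjρ
    omega
  -- all seeds agree
  have hsame : ∀ η ∈ NL, a η = 1 → (∀ χ ∈ RR, m η χ = m ξ χ) ∧ (η ≠ ξ → m η ρ = 0) := by
    intro η hη ha1
    by_cases h1 : η = ξ
    · subst h1; exact ⟨fun _ _ => rfl, fun h => absurd rfl h⟩
    by_cases h2 : η = Char.conjIrr ξ
    · subst h2; exact ⟨hRRsym ξ, fun _ => hconjρ⟩
    obtain ⟨hRR, hNR, -, h01⟩ := hseedRR η hη ha1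
    have g1 := hgram η hη ξ hξ
    rw [if_neg h1, ha1, haξ, hsplit, Finset.sum_congr rfl (s₁ := NR)
      (g := fun χ => if χ = ρ then m η χ else 0) (fun χ hχ => by
        rw [hρu χ hχ]; split_ifs <;> simp),
      Finset.sum_ite_eq', if_pos hρ, mul_one, mul_one, zero_add] at g1
    have g2 := hcross η hη ξ hξ
    rw [if_neg h2, ha1, haξ, Finset.sum_congr rfl (s₁ := NR)
      (g := fun χ => if χ = ρ' then m η χ else 0) (fun χ hχ => by
        rw [hρ'u χ hχ]; split_ifs <;> simp),
      Finset.sum_ite_eq', if_pos hρ', mul_one, mul_one, zero_add] at g2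
    have g3 : m η ρ * m η ρ + m η ρ' * m η ρ' ≤ 1 := by
      rw [← hNR, ← Finset.sum_pair (f := fun χ => m η χ * m η χ) (Ne.symm hρρ)]
      exact Finset.sum_le_sum_of_subset (Finset.insert_subset_iff.2
        ⟨hρ, Finset.singleton_subset_iff.2 hρ'⟩)
    have g4 : m η ρ = 0 := by
      have e1 : m η ρ ≤ m η ρ * m η ρ := Nat.le_mul_self _
      have e2 : m η ρ' ≤ m η ρ' * m η ρ' := Nat.le_mul_self _
      omega
    refine ⟨fun χ hχ => ?_, fun _ => g4⟩
    have k1 : ∀ χ ∈ RR, m η χ * m ξ χ ≤ m η χ * m η χ := fun χ hχ => by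
      have := h01 χ hχ
      have := hξ01 χ hχ
      rcases Nat.le_one_iff_eq_zero_or_eq_one.1 (h01 χ hχ) with e' | e' <;> simp [e'] <;> omega
    have k2 : ∀ χ ∈ RR, m η χ * m ξ χ ≤ m ξ χ * m ξ χ := fun χ hχ => by
      rcases Nat.le_one_iff_eq_zero_or_eq_one.1 (hξ01 χ hχ) with e' | e' <;> simp [e']
      exact h01 χ hχ
    have e1 := (Finset.sum_eq_sum_iff_of_le k1).1 (by omega) χ hχ
    have e2 := (Finset.sum_eq_sum_iff_of_le k2).1 (by omega) χ hχ
    rcases Nat.le_one_iff_eq_zero_or_eq_one.1 (h01 χ hχ) with e3 | e3 <;>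
      rcases Nat.le_one_iff_eq_zero_or_eq_one.1 (hξ01 χ hχ) with e4 | e4 <;>
      simp [e3, e4] at e1 e2 ⊢
  -- degrees modulo the prime
  let S1 := NL.filter fun η => a η = 1
  let S2 := NL.filter fun η => ¬a η = 1
  have hpa : ∀ η ∈ S2, p ∣ a η := by
    intro η hη
    have h1 : a η ∣ p ^ e := by rw [← hne, hn, ← X.card_K]; exact cdeg_dvd (φ η)
    obtain ⟨i, -, hi⟩ := (Nat.dvd_prime_pow hp).1 h1
    rcases Nat.eq_zero_or_pos i with h0 | h0
    · exact absurd (by rw [hi, h0, pow_zero]) (Finset.mem_filter.1 hη).2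
    · rw [hi]; exact dvd_pow_self p h0.ne'
  have hpn : p ∣ n := by
    rcases Nat.eq_zero_or_pos e with h0 | h0
    · rw [h0, pow_zero] at hne; omega
    · rw [hne]; exact dvd_pow_self p h0.ne'
  have hA12 : ∀ f : IrrCharacter X.L → ℕ, ∑ η ∈ NL, f η = ∑ η ∈ S1, f η + ∑ η ∈ S2, f η := fun f =>
    (Finset.sum_filter_add_sum_filter_not NL _ f).symm
  have hA1 : ∑ η ∈ S1, a η * a η = S1.card := by
    rw [Finset.card_eq_sum_ones]
    exact Finset.sum_congr rfl fun η hη => by rw [(Finset.mem_filter.1 hη).2, one_mul]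
  have hps : ¬p ∣ S1.card := fun h => by
    have h1 : p ∣ (∑ θ ∈ NL, a θ * a θ) := by
      rw [hA12, hA1]
      exact dvd_add h (Finset.dvd_sum fun η hη => (hpa η hη).mul_right _)
    have h2 : p ∣ (∑ θ ∈ NL, a θ * a θ) * d + 1 := ht.symm ▸ hpn
    exact hp.not_dvd_one ((Nat.dvd_add_right (h1.mul_right d)).1 h2)
  have hS1two : 2 ≤ S1.card := by
    refine Nat.le_trans (le_of_eq (Finset.card_pair (Ne.symm (hnreal ξ hξ))).symm)
      (Finset.card_le_card ?_)
    exact Finset.insert_subset_iff.2 ⟨Finset.mem_filter.2 ⟨hξ, haξ⟩,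
      Finset.singleton_subset_iff.2 (Finset.mem_filter.2
        ⟨hconjNL ξ hξ, (haconj ξ hξ).trans haξ⟩)⟩
  set u : IrrCharacter G → ℕ := fun χ => ∑ η ∈ NL, a η * m η χ with hu
  have hdu : ∀ χ ∈ rest, dG χ = d * u χ := by
    intro χ hχ
    rw [hdegres, ← Finset.sum_filter_add_sum_filter_not Finset.univ X.IsLin,
      Finset.sum_eq_zero fun θ hθ => by rw [hrest χ hχ θ (Finset.mem_filter.1 hθ).2, zero_mul],
      zero_add, hu, Finset.mul_sum]
    exact Finset.sum_congr rfl fun η hη => by rw [hdLnon η (Finset.mem_filter.1 hη).2]; ring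
  have hidx : (Subgroup.centralizer ({s} : Set G)).index = n * d := by
    obtain ⟨h1, h2⟩ := X.involution_class hnodd hsa hsb
    rw [← Char.card_isConj_eq_index, Nat.card_congr (Equiv.subtypeEquivRight h2), h1]
  have hdvd : ∀ χ ∈ rest, ¬p ∣ u χ → (u χ : ℤ) ∣ b χ := by
    intro χ hχ hpu
    have h := Char.centralCharacter_isIntegral χ.2 s
    rw [hidx, hb, hdG, hdu χ hχ] at h
    have hu0 : u χ ≠ 0 := fun h0 => hpu (h0 ▸ dvd_zero p)
    have hd0 : (d : ℂ) ≠ 0 := Nat.cast_ne_zero.2 (by omega)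
    have h' : IsIntegral ℤ ((((n : ℤ) * b χ : ℤ) : ℚ) / (u χ : ℚ) : ℂ) := by
      convert h using 1
      push_cast
      field_simp
    obtain ⟨z, hz⟩ := Char.exists_int_of_isIntegral_rat
      (q := (((n : ℤ) * b χ : ℤ) : ℚ) / (u χ : ℚ)) (by push_cast at h' ⊢; exact h')
    rw [eq_div_iff (Nat.cast_ne_zero.2 hu0)] at hz
    have h2 : z * (u χ : ℤ) = (n : ℤ) * b χ := by exact_mod_cast hz
    have hcop : IsCoprime (u χ : ℤ) (n : ℤ) := by
      rw [Int.isCoprime_iff_nat_coprime, Int.natAbs_natCast, Int.natAbs_natCast, hne]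
      exact ((hp.coprime_iff_not_dvd.2 hpu).symm).pow_right e
    exact hcop.dvd_of_dvd_mul_left ⟨z, by rw [← h2, mul_comm]⟩
  have hnorm : ∀ χ ∈ rest, b χ * b χ + ((n : ℤ) + 1) * ((∑ η ∈ NL, m η χ * m η χ : ℕ) : ℤ) ≤
      (n : ℤ) + 1 + d * ((u χ : ℤ) * u χ) := by
    intro χ hχ
    have hexp := Char.classFun_expansion (G := X.L)
      (f := fun l : X.L => (χ : G → ℂ) l) fun x y => by
        simpa using Char.isClassFunction_of_isIrr χ.2 (x : G) (y : G)
    simp only [hm'] at hexp
    have hoff : ∀ l : X.L, l ∉ X.K → (χ : G → ℂ) l = 0 := by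
      intro l hl
      have h := congrFun hexp l
      simp only [Finset.sum_apply, Pi.smul_apply, smul_eq_mul] at h
      rw [h]
      refine Finset.sum_eq_zero fun θ _ => ?_
      by_cases hθ : X.IsLin θ
      · rw [hrest χ hχ θ hθ, Nat.cast_zero, zero_mul]
      · rw [X.nonlin_off hθ hl, mul_zero]
    have hLsum : ∑ l : X.L, Complex.normSq ((χ : G → ℂ) l) =
        ((n * d * ∑ η ∈ NL, m η χ * m η χ : ℕ) : ℝ) := by
      have h := Char.classInner_eq_sum (G := X.L) (f := fun l : X.L => (χ : G → ℂ) l)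
        (f' := fun l : X.L => (χ : G → ℂ) l) fun x y => by
          simpa using Char.isClassFunction_of_isIrr χ.2 (x : G) (y : G)
      simp only [hm'] at h
      rw [Finset.sum_congr rfl (g := fun θ => ((m θ χ * m θ χ : ℕ) : ℂ)) fun θ _ => by
        rw [← Char.classInner_conj_symm, hm', map_natCast, Nat.cast_mul], classInner,
        inv_mul_eq_iff_eq_mul₀ Char.card_ne_zero, hL, ← Nat.cast_sum, ← Nat.cast_mul,
        ← Finset.sum_filter_add_sum_filter_not (s := (Finset.univ : Finset (IrrCharacter X.L)))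
          (p := X.IsLin), Finset.sum_eq_zero (s := Finset.univ.filter X.IsLin) fun θ hθ => by
            rw [hrest χ hχ θ (Finset.mem_filter.1 hθ).2, zero_mul], zero_add] at h
      have h2 := congrArg Complex.re h
      rw [Complex.re_sum, Complex.natCast_re] at h2
      rw [← h2]
      exact Finset.sum_congr rfl fun l _ => by rw [Complex.mul_conj, Complex.ofReal_re]
    have h := X.norm_ineq hnodd hsa hsb χ hoff
    rw [hLsum, hb, hdG, hdu χ hχ, X.card_G, X.card_L, ← hN, ← hn, ← hd,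
      ← Complex.ofReal_intCast, ← Complex.ofReal_natCast, Complex.normSq_ofReal,
      Complex.normSq_ofReal] at h
    have h' : ((n : ℤ) * d) * (b χ * b χ) +
        ((n : ℤ) + 1) * ((n : ℤ) * d * ((∑ η ∈ NL, m η χ * m η χ : ℕ) : ℤ)) ≤
        ((n : ℤ) + 1) * ((n : ℤ) * d) + n * ((d * u χ : ℤ) * (d * u χ)) := by
      push_cast at h ⊢
      exact_mod_cast h
    refine le_of_mul_le_mul_left ?_ (show (0 : ℤ) < (n : ℤ) * d by
      exact_mod_cast Nat.mul_pos (show 0 < n by omega) (show 0 < d by omega))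
    linarith
  -- no involution value on the real constituents
  have hbC : ∀ χ ∈ RR, m ξ χ = 1 → b χ = 0 := by
    intro χ hχ hmξ
    by_contra hb0
    have hχr := (Finset.mem_filter.1 hχ).1
    have hm1 : ∀ η ∈ S1, m η χ = 1 := fun η hη => by
      obtain ⟨h1, h2⟩ := Finset.mem_filter.1 hη
      rw [(hsame η h1 h2).1 χ hχ, hmξ]
    have hu12 : u χ = S1.card + ∑ η ∈ S2, a η * m η χ := by
      rw [hu]
      simp only
      rw [hA12, Finset.card_eq_sum_ones]
      congr 1
      exact Finset.sum_congr rfl fun η hη => by rw [hm1 η hη, (Finset.mem_filter.1 hη).2]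
    have hpu : ¬p ∣ u χ := fun h => hps <| by
      rw [hu12] at h
      exact (Nat.dvd_add_left (Finset.dvd_sum fun η hη => (hpa η hη).mul_right _)).1 h
    have h1 := Int.le_of_dvd (abs_pos.2 hb0) ((dvd_abs _ _).2 (hdvd χ hχr hpu))
    have h2 : (u χ : ℤ) * u χ ≤ b χ * b χ :=
      (mul_self_le_mul_self (Int.natCast_nonneg _) h1).trans (le_of_eq (abs_mul_abs_self _))
    have h3 := hnorm χ hχr
    rw [hA12, Finset.sum_congr rfl (s₁ := S1) (g := fun _ => 1) fun η hη => by
      rw [hm1 η hη, one_mul], Finset.sum_const, smul_eq_mul, mul_one] at h3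
    push_cast at h3
    have hcs := Finset.sum_mul_sq_le_sq_mul_sq S2 (fun η => (a η : ℤ)) (fun η => (m η χ : ℤ))
    have hA : ((n : ℤ) + 1) =
        d * ((S1.card : ℤ) + ∑ η ∈ S2, (a η : ℤ) * a η) + 2 := by
      have h4 := ht
      rw [hA12, hA1] at h4
      rw [← h4]
      push_cast
      ring
    have huZ : (u χ : ℤ) - S1.card = ∑ η ∈ S2, (a η : ℤ) * m η χ := by
      rw [hu12]; push_cast; ring
    have hd3 : 3 ≤ d := by omega
    refine seed_ineq (d := (d : ℤ)) (s := (S1.card : ℤ)) (u := (u χ : ℤ))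
      (A' := ∑ η ∈ S2, (a η : ℤ) * a η) (T := ∑ η ∈ S2, (m η χ : ℤ) * m η χ)
      (by exact_mod_cast hd3) (by exact_mod_cast hS1two)
      (Finset.sum_nonneg fun _ _ => by positivity) ?_
      (Finset.sum_nonneg fun _ _ => by positivity) ?_ ?_
    · have h5 : 2 * ((d : ℤ) * d) + 1 ≤ n := by exact_mod_cast hn2
      refine le_of_mul_le_mul_left ?_ (show (0 : ℤ) < d by exact_mod_cast (show 0 < d by omega))
      linarith
    · rw [huZ]
      simpa [pow_two] using hcs
    · rw [← hA]
      linarith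
  have hbρ : b ρ = 1 := by
    have h := hMb ξ hξ
    rw [hsplit, haξ, Finset.sum_eq_zero (s := RR) (fun χ hχ => by
      rcases Nat.le_one_iff_eq_zero_or_eq_one.1 (hξ01 χ hχ) with e' | e'
      · rw [e', Nat.cast_zero, zero_mul]
      · rw [hbC χ hχ e', mul_zero]), zero_add,
      Finset.sum_congr rfl (s₁ := NR) (g := fun χ => if χ = ρ then b χ else 0) (fun χ hχ => by
        rw [hρu χ hχ]; split_ifs <;> simp), Finset.sum_ite_eq', if_pos hρ, Nat.cast_one] at h
    exact h
  have huρ : u ρ = 1 := by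
    have h1 : u ρ = 1 + ∑ η ∈ S2, a η * m η ρ := by
      rw [hu]
      simp only
      rw [hA12, Finset.sum_eq_single ξ]
      · rw [haξ, hρ1]
      · intro η hη hne'
        obtain ⟨h2, h3⟩ := Finset.mem_filter.1 hη
        rw [(hsame η h2 h3).2 hne', mul_zero]
      · exact fun h => absurd (Finset.mem_filter.2 ⟨hξ, haξ⟩) h
    have hpu : ¬p ∣ u ρ := fun h => by
      rw [h1] at h
      exact hp.not_dvd_one
        ((Nat.dvd_add_left (Finset.dvd_sum fun η hη => (hpa η hη).mul_right _)).1 h)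
    have h2 := hdvd ρ hρrest hpu
    rw [hbρ] at h2
    exact Nat.dvd_one.1 (by exact_mod_cast h2)
  have hQ : ∀ η ∈ NL, η ≠ ξ → m η ρ = 0 := by
    intro η hη hne'
    by_contra h0
    have h1 : a ξ * m ξ ρ + a η * m η ρ ≤ u ρ := by
      rw [hu, ← Finset.sum_pair (f := fun η => a η * m η ρ) (Ne.symm hne')]
      exact Finset.sum_le_sum_of_subset (Finset.insert_subset_iff.2
        ⟨hξ, Finset.singleton_subset_iff.2 hη⟩)
    rw [huρ, haξ, hρ1] at h1
    have := Nat.mul_pos (ha0 η) (Nat.pos_of_ne_zero h0)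
    omega
  -- the square of the small character
  have hres : (fun l : X.L => (ρ : G → ℂ) l) = (ξ : X.L → ℂ) := by
    refine (Char.classFun_expansion (G := X.L) (f := fun l : X.L => (ρ : G → ℂ) l) fun x y => by
      simpa using Char.isClassFunction_of_isIrr ρ.2 (x : G) (y : G)).trans ?_
    simp only [hm']
    rw [Finset.sum_eq_single ξ ?_ (by simp), hρ1, Nat.cast_one, one_smul]
    intro θ _ hθ
    by_cases hlin : X.IsLin θ
    · rw [hrest ρ hρrest θ hlin, Nat.cast_zero, zero_smul]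
    · rw [hQ θ ((hNL θ).2 hlin) hθ, Nat.cast_zero, zero_smul]
  have hρd : dG ρ = d := by
    have h := congrFun hres 1
    simp only [Subgroup.coe_one, hdG, hdL, hdLnon ξ ((hNL ξ).1 hξ), haξ, mul_one] at h
    exact_mod_cast h
  let W : G → ℂ := (ρ : G → ℂ) * fun g => conj ((ρ : G → ℂ) g)
  have hW : IsCharacter G W := Char.isCharacter_mul (Char.IsIrr.isCharacter ρ.2)
    (Char.isCharacter_conj (Char.IsIrr.isCharacter ρ.2))
  choose w hw using fun χ : IrrCharacter G =>
    Char.classInner_isCharacter_eq_natCast hW (Char.IsIrr.isCharacter χ.2)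
  have hWcl : IsClassFunction G W := Char.isClassFunction_of_isCharacter hW
  have hw1 : w oneG = 1 := by
    have h := hw oneG
    have h2 : classInner W (oneG : G → ℂ) = classInner (ρ : G → ℂ) (ρ : G → ℂ) := by
      simp [classInner, W, oneG]
    rw [h2, Char.classInner_irr_self ρ.2] at h
    exact_mod_cast h.symm
  have hwI : ∀ χ ∈ K1, w χ = 1 := by
    intro χ hχ
    obtain ⟨θ, hθ, rfl⟩ := Finset.mem_image.1 hχ
    obtain ⟨h1, h2⟩ := (hmemL1 θ).1 hθ
    have h3 : classInner W (P θ) = (w (I θ) : ℂ) := by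
      rw [Char.classInner_eq_sum hWcl, Finset.sum_eq_single (I θ) (fun χ _ hχ => by
        rw [← Char.classInner_conj_symm (φ := P θ), hm, hI θ h1 h2, if_neg hχ]; simp) (by simp),
        ← Char.classInner_conj_symm (φ := P θ), hm, hI θ h1 h2, if_pos rfl, hw]
      simp
    rw [Char.classInner_indFun_right X.L _ hWcl] at h3
    have h4 : classInner (fun l : X.L => W l) (θ : X.L → ℂ) =
        classInner (ξ : X.L → ℂ) (ξ : X.L → ℂ) := by
      simp only [classInner]
      congr 1
      refine Finset.sum_congr rfl fun l _ => ?_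
      have hl := congrFun hres l
      simp only [W, Pi.mul_apply]
      rw [hl]
      by_cases hlK : l ∈ X.K
      · rw [h1 l hlK, X.lin_one h1, map_one, mul_one]
      · rw [X.nonlin_off ((hNL ξ).1 hξ) hlK, zero_mul, zero_mul]
    rw [h4, Char.classInner_irr_self ξ.2] at h3
    exact_mod_cast h3.symm
  have hdW : d * d = ∑ χ, w χ * dG χ := by
    have h := congrFun (Char.classFun_expansion hWcl) 1
    simp only [Finset.sum_apply, Pi.smul_apply, smul_eq_mul, hw, hdG, W, Pi.mul_apply, map_natCast,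
      hρd] at h
    exact_mod_cast h
  have hfinal : 1 + k * (n + 1) ≤ d * d := by
    rw [hdW]
    refine le_trans (le_of_eq ?_) (Finset.sum_le_sum_of_subset (Finset.subset_univ (insert oneG K1)))
    have h1 : dG oneG = 1 := by
      have := hdG oneG
      simp only [oneG] at this
      exact_mod_cast this.symm
    rw [Finset.sum_insert hK1ne.1, hw1, h1, Finset.sum_congr rfl (g := fun _ => n + 1)
      (fun χ hχ => by rw [hwI χ hχ, hdegK1 χ hχ, one_mul]), Finset.sum_const, smul_eq_mul]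
  -- arithmetic
  have hbig : 2 * (2 * k + 1) + 2 ≤ n := by rw [← hdk]; omega
  have : k * (2 * (2 * k + 1) + 2 + 1) ≤ k * (n + 1) := Nat.mul_le_mul_left _ (by omega)
  rw [hdk] at hfinal
  nlinarith

end NCtx

end Cfsg.Agent.Zassenhaus
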