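import Cfsg.Agent.Zassenhaus.NilGrow
import Cfsg.Agent.Zassenhaus.NilOddBound

/-!
Large kernels of prime power order in Zassenhaus groups with inverting swappers.
-/

set_option autoImplicit false
set_option linter.unusedSectionVars false
set_option linter.style.haveILetI false

namespace Cfsg.Agent.Zassenhaus

open Subgroup MulAction

universe u v

theorem index_commutator_congr {A B : Type*} [Group A] [Group B] (e : A ≃* B) :
    (_root_.commutator A).index = (_root_.commutator B).index := by
  rw [Subgroup.index_eq_card, Subgroup.index_eq_card]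
  exact Nat.card_congr e.abelianizationCongr.toEquiv

theorem map_mem_commutator {A : Type*} [Group A] (f : A →* A) {u : A}
    (hu : u ∈ _root_.commutator A) : f u ∈ _root_.commutator A := by
  have h : (Abelianization.of.comp f) u = 1 :=
    Abelianization.commutator_subset_ker (Abelianization.of.comp f) hu
  exact (QuotientGroup.eq_one_iff _).1 h

namespace NCtx

variable {G : Type u} {Ω : Type v} [Group G] [MulAction G Ω] [Fintype G] [Finite Ω]
  (X : NCtx G Ω)

/-- A two-group kernel whose commutator quotient is large is itself small. -/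
theorem two_mul_bound_two_group (hd1 : 1 < Nat.card (twoPt G X.a X.b)) {e : ℕ}
    (hn : Nat.card X.F = 2 ^ e)
    (hr : 4 * (Nat.card (twoPt G X.a X.b) * Nat.card (twoPt G X.a X.b)) + 1 <
      (_root_.commutator X.K).index) :
    Nat.card X.F ≤ 2 * Nat.card (twoPt G X.a X.b) + 1 := by
  classical
  set d := Nat.card (twoPt G X.a X.b) with hd
  obtain ⟨j, hj⟩ := X.odd
  rw [← hd] at hj
  have hle : (_root_.commutator X.K).index ≤ Nat.card X.F := by
    rw [← X.card_K]
    exact Nat.le_of_dvd Nat.card_pos (Subgroup.index_dvd_card _)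
  have hdd : d * 3 ≤ d * d := Nat.mul_le_mul_left d (by omega)
  refine X.two_mul_bound_of_grow hd1 (by rw [← hd]; omega) ?_ fun ψ hψ => ?_
  · rw [← hd, mul_add]
    omega
  rw [← hd]
  show _ ≤ dsum X.K (cdeg ψ)
  set c := cdeg ψ with hc
  have hlin : (_root_.commutator X.K).index ≤ dsum X.K c := by
    rw [← dsum_two]; exact dsum_mono hψ
  by_cases hsmall : c + 1 ≤ 2 * d
  · have : (2 * c + 2) * d ≤ 4 * d * d := Nat.mul_le_mul_right d (by omega)
    rw [mul_assoc] at this
    omega
  have hsq := sq_le_dsum (H := X.K) Nat.prime_two (X.card_K.trans hn) hψ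
  rw [← hc] at hsq
  obtain ⟨i, -, hi⟩ := (Nat.dvd_prime_pow Nat.prime_two).1 ((X.card_K.trans hn) ▸ cdeg_dvd ψ)
  rw [← hc] at hi
  have hne : c ≠ 2 * d := fun e' => by
    rcases i with _ | _ | i
    · rw [pow_zero] at hi; omega
    · rw [pow_one] at hi; omega
    · rw [pow_succ, pow_succ] at hi
      omega
  have heven : Even c := by
    rcases i with _ | i
    · rw [pow_zero] at hi; omega
    · exact ⟨2 ^ i, by rw [hi, pow_succ]; ring⟩
  obtain ⟨c', hc'⟩ := heven
  have h1 : (2 * d + 2) * c ≤ c * c := Nat.mul_le_mul_right c (by omega)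
  have e1 : (2 * c + 2) * d = 2 * (d * c) + 2 * d := by ring
  have e2 : (2 * d + 2) * c = 2 * (d * c) + 2 * c := by ring
  omega

/-- A nonabelian kernel of odd order is at least of order `(2 d + 1)²`. -/
theorem sq_le_of_nonabelian (hd1 : 1 < Nat.card (twoPt G X.a X.b)) (hodd : Odd (Nat.card X.F))
    (hne : ∃ u v : X.F, u * v ≠ v * u) :
    (2 * Nat.card (twoPt G X.a X.b) + 1) * (2 * Nat.card (twoPt G X.a X.b) + 1) ≤
      Nat.card X.F := by
  classical
  set d := Nat.card (twoPt G X.a X.b) with hd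
  have := Fintype.ofFinite X.F
  set D := _root_.commutator X.F with hD
  obtain ⟨u, v, huv⟩ := hne
  have hDne : D ≠ ⊥ := fun h => huv (commutatorElement_eq_one_iff_mul_comm.1 (mem_bot.1 (h ▸
    Subgroup.commutator_mem_commutator (mem_top u) (mem_top v))))
  have hdvd : d ∣ Nat.card {w : X.F // w ∈ D ∧ w ≠ 1} :=
    X.ker.dvd_card_of_invariant X.C X.hab (fun w => w ∈ D ∧ w ≠ 1) (fun h => h.2 rfl)
      fun h w hw => ⟨map_mem_commutator (X.ker.act h).toMonoidHom hw.1,
        fun e => hw.2 ((X.ker.act h).injective (e.trans (map_one _).symm))⟩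
  have hDcard : Nat.card {w : X.F // w ∈ D ∧ w ≠ 1} + 1 = Nat.card D := by
    rw [Nat.card_eq_fintype_card, Fintype.card_subtype, Nat.card_eq_fintype_card,
      Fintype.card_subtype, ← Finset.card_erase_add_one (s := Finset.univ.filter fun w => w ∈ D)
        (a := (1 : X.F)) (by simp [D.one_mem])]
    congr 2
    ext w
    simp [and_comm]
  have hmul := D.card_mul_index
  have hn1 := X.ker.card_two_dvd X.C X.hab
  rw [← hd] at hn1
  have hD1 : 1 < Nat.card D := (one_lt_card_iff_ne_bot _).2 hDne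
  have hI1 : 1 < D.index := by
    haveI : Nontrivial X.F := ⟨⟨u, v, fun e => huv (e ▸ rfl)⟩⟩
    haveI : Group.IsNilpotent X.K :=
      Coherence.FrobKernel.isNilpotent X.centralizer_le (X.K_ne_top hd1)
    haveI : Group.IsNilpotent X.F := Group.nilpotent_of_mulEquiv
      (Subgroup.subgroupOfEquivOfLe (H := X.F) (K := X.L) fun w hw => X.ker.fix w hw)
    exact one_lt_index_commutator
  have hmod : d ∣ D.index - 1 := by
    obtain ⟨i, hi⟩ := hdvd
    obtain ⟨j, hj⟩ := hn1
    have hDd : Nat.card D = d * i + 1 := by omega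
    rw [hDd] at hmul
    have h3 : ((D.index - 1 : ℕ) : ℤ) = d * ((j : ℤ) - i * D.index) := by
      have h4 : ((d : ℤ) * i + 1) * D.index = Nat.card X.F := by exact_mod_cast hmul
      have h5 : ((Nat.card X.F - 1 : ℕ) : ℤ) = d * j := by exact_mod_cast hj
      rw [Nat.cast_sub Nat.card_pos, Nat.cast_one] at h5
      rw [Nat.cast_sub hI1.le, Nat.cast_one]
      linear_combination h4 + h5
    exact Int.natCast_dvd_natCast.1 ⟨_, h3⟩
  have key : ∀ m : ℕ, 1 < m → Odd m → d ∣ m - 1 → 2 * d + 1 ≤ m := by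
    intro m hm1 hm2 hm3
    obtain ⟨i, hi⟩ := hm3
    obtain ⟨j, hj⟩ := X.odd
    obtain ⟨l, hl⟩ := hm2
    rw [← hd] at hj
    rcases i with _ | _ | i
    · rw [mul_zero] at hi; omega
    · rw [zero_add, mul_one] at hi; omega
    · rw [mul_add, mul_add, mul_one] at hi; omega
  rw [← hmul]
  exact Nat.mul_le_mul
    (key _ hD1 (hodd.of_dvd_nat ⟨_, hmul.symm⟩) (by rw [← hDcard, Nat.add_sub_cancel]; exact hdvd))
    (key _ hI1 (hodd.of_dvd_nat ⟨_, hmul.symm.trans (mul_comm _ _)⟩) hmod)

end NCtx

end Cfsg.Agent.Zassenhaus
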