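import Cfsg.Agent.Core.FrobeniusGroup
import Cfsg.Agent.FrobeniusCount

/-! Doubly transitive groups in which only the identity fixes three points: the kernel of a point
stabiliser and the two-point stabiliser acting on it. -/

set_option autoImplicit false

namespace Cfsg.Agent.Zassenhaus

open Subgroup MulAction

variable {G Ω : Type*} [Group G] [MulAction G Ω]

variable (G Ω) in
/-- Doubly transitive, and only the identity fixes three points. -/
structure ZCtx : Prop where
  two : ∀ {x y u v : Ω}, x ≠ y → u ≠ v → ∃ g : G, g • x = u ∧ g • y = v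
  three : ∀ (g : G) (x y z : Ω), x ≠ y → y ≠ z → x ≠ z → g • x = x → g • y = y → g • z = z → g = 1

/-- `F` lies in the stabiliser of `a`, is normalised by it and is regular on the other points. -/
structure IsKernel (F : Subgroup G) (a : Ω) : Prop where
  fix : ∀ u ∈ F, u • a = a
  norm : ∀ g : G, g • a = a → ∀ u ∈ F, g * u * g⁻¹ ∈ F
  reg : ∀ y z : Ω, y ≠ a → z ≠ a → ∃! u : F, (u : G) • y = z

variable (G) in
/-- The stabiliser of two points. -/
abbrev twoPt (a b : Ω) : Subgroup G := stabilizer G a ⊓ stabilizer G b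

theorem ZCtx.faithful (C : ZCtx G Ω) [Finite Ω] (h3 : 3 ≤ Nat.card Ω) {g : G}
    (hg : ∀ x : Ω, g • x = x) : g = 1 := by
  classical
  haveI := Fintype.ofFinite Ω
  rw [Nat.card_eq_fintype_card, ← Finset.card_univ] at h3
  obtain ⟨x, y, z, -, -, -, hxy, hxz, hyz⟩ := Finset.two_lt_card_iff.1 h3
  exact C.three g x y z hxy hyz hxz (hg x) (hg y) (hg z)

/-- An element fixing a moved-pair stabiliser's points and a third one is trivial. -/
theorem ZCtx.eq_one (C : ZCtx G Ω) {a b x : Ω} (hab : a ≠ b) {h : G} (hh : h ∈ twoPt G a b)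
    (hxa : x ≠ a) (hxb : x ≠ b) (hx : h • x = x) : h = 1 :=
  C.three h a b x hab (Ne.symm hxb) (Ne.symm hxa) hh.1 hh.2 hx

theorem exists_third [Finite Ω] (h3 : 3 ≤ Nat.card Ω) (a b : Ω) : ∃ x : Ω, x ≠ a ∧ x ≠ b := by
  classical
  haveI := Fintype.ofFinite Ω
  rw [Nat.card_eq_fintype_card, ← Finset.card_univ] at h3
  obtain ⟨x, -, hx⟩ := Finset.exists_mem_notMem_of_card_lt_card (s := ({a, b} : Finset Ω))
    (t := Finset.univ) (lt_of_le_of_lt Finset.card_le_two (by omega))
  simp only [Finset.mem_insert, Finset.mem_singleton, not_or] at hx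
  exact ⟨x, hx.1, hx.2⟩

/-- Frobenius' theorem provides the kernel. -/
theorem ZCtx.exists_kernel [Finite G] [Finite Ω] (C : ZCtx G Ω) (h3 : 3 ≤ Nat.card Ω) {a b : Ω}
    (hab : a ≠ b) (hne : twoPt G a b ≠ ⊥) : ∃ F : Subgroup G, IsKernel F a := by
  classical
  haveI := Fintype.ofFinite Ω
  set L := stabilizer G a with hL
  set H : Subgroup L := (twoPt G a b).subgroupOf L with hH
  have htr : ∀ x y : Ω, x ≠ a → y ≠ a → ∃ g : L, (g : G) • x = y := fun x y hx hy => by
    obtain ⟨g, hga, hg⟩ := C.two (Ne.symm hx) (Ne.symm hy)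
    exact ⟨⟨g, hga⟩, hg⟩
  have hmem : ∀ g : L, g ∈ H ↔ (g : G) • b = b := fun g =>
    ⟨fun h => h.2, fun h => ⟨g.2, h⟩⟩
  have hF : Cfsg.IsFrobeniusComplement H := by
    refine Core.isFrobeniusComplement_of_malnormal ?_ ?_ ?_
    · intro e
      apply hne
      rw [eq_bot_iff]
      intro x hx
      have : (⟨x, hx.1⟩ : L) ∈ H := hx
      rw [e, mem_bot] at this
      rw [mem_bot]
      exact congrArg Subtype.val this
    · intro e
      obtain ⟨x, hxa, hxb⟩ := exists_third h3 a b
      obtain ⟨g, hg⟩ := htr b x (Ne.symm hab) hxa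
      exact hxb (by rw [← hg]; exact (hmem g).1 (e.ge (Subgroup.mem_top g)))
    · intro g hg h hh hc
      have hga : (g : G) • a = a := g.2
      have hgb : (g : G) • b ≠ b := fun e => hg ((hmem g).2 e)
      have h1 : ((g * h * g⁻¹ : L) : G) • ((g : G) • b) = (g : G) • b := by
        push_cast
        rw [mul_smul, mul_smul, inv_smul_smul, (hmem h).1 hh]
      have h2 : ((g * h * g⁻¹ : L) : G) = 1 := C.eq_one hab
        ⟨(g * h * g⁻¹).2, (hmem _).1 hc⟩
        (fun e => hab (MulAction.injective (g : G) (hga.trans e.symm))) hgb h1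
      exact conj_eq_one_iff.1 (Subtype.ext h2 : g * h * g⁻¹ = 1)
  obtain ⟨N, hNk, hNn, hNc⟩ := Core.exists_frobeniusKernel hF
  have hfree : ∀ (u : L) (x : Ω), u ∈ N → x ≠ a → (u : G) • x = x → u = 1 := by
    intro u x hu hx hfix
    obtain ⟨g, hg⟩ := htr b x (Ne.symm hab) hx
    have : g⁻¹ * u * g ∈ H := (hmem _).2 (by
      push_cast
      rw [mul_smul, mul_smul, hg, hfix, inv_smul_eq_iff, hg])
    have h1 : g⁻¹ * u * g ∈ N := by
      have := hNn.conj_mem u hu g⁻¹
      rwa [inv_inv] at this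
    have h2 : g⁻¹ * u * g ∈ N ⊓ H := ⟨h1, this⟩
    rw [hNc.disjoint.eq_bot, mem_bot] at h2
    calc u = g * (g⁻¹ * u * g) * g⁻¹ := by group
      _ = 1 := by rw [h2]; group
  have hinj : ∀ y : Ω, y ≠ a → ∀ u v : N, ((u : L) : G) • y = ((v : L) : G) • y → u = v := by
    intro y hy u v e
    have := hfree ((v⁻¹ * u : N) : L) y (v⁻¹ * u).2 hy (by
      push_cast; rw [mul_smul, e, inv_smul_smul])
    exact (eq_of_inv_mul_eq_one (Subtype.ext this : v⁻¹ * u = 1)).symm
  have hcard : Nat.card N = Nat.card {x : Ω // x ≠ a} := by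
    rw [← hNc.index_eq_card]
    refine Nat.card_congr (Equiv.ofBijective
      (Quotient.lift (fun g : L => (⟨(g : G) • b, fun e =>
        hab (MulAction.injective (g : G) (g.2.trans e.symm))⟩ : {x : Ω // x ≠ a}))
        fun g g' e => Subtype.ext ?_) ⟨?_, ?_⟩)
    · have := (hmem _).1 (QuotientGroup.leftRel_apply.1 e)
      push_cast at this
      rw [mul_smul, inv_smul_eq_iff] at this
      exact this.symm
    · intro x y
      induction x using Quotient.inductionOn with | h g => ?_
      induction y using Quotient.inductionOn with | h g' => ?_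
      intro e
      refine Quotient.sound (QuotientGroup.leftRel_apply.2 ((hmem _).2 ?_))
      push_cast
      rw [mul_smul, inv_smul_eq_iff]
      exact (congrArg Subtype.val e).symm
    · rintro ⟨x, hx⟩
      obtain ⟨g, hg⟩ := htr b x (Ne.symm hab) hx
      exact ⟨Quotient.mk'' g, Subtype.ext hg⟩
  refine ⟨N.map L.subtype, ⟨?_, ?_, ?_⟩⟩
  · rintro _ ⟨u, -, rfl⟩; exact u.2
  · rintro g hg _ ⟨u, hu, rfl⟩
    exact ⟨⟨g, hg⟩ * u * ⟨g, hg⟩⁻¹, hNn.conj_mem u hu _, by simp⟩
  · intro y z hy hz
    let φ : N → {x : Ω // x ≠ a} := fun u => ⟨((u : L) : G) • y, fun e =>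
      hy (MulAction.injective ((u : L) : G) (e.trans (u : L).2.symm))⟩
    have hb : Function.Bijective φ := by
      haveI := Fintype.ofFinite N
      rw [Fintype.bijective_iff_injective_and_card]
      refine ⟨fun u v e => hinj y hy u v (congrArg Subtype.val e), ?_⟩
      rw [← Nat.card_eq_fintype_card, ← Nat.card_eq_fintype_card, hcard]
    obtain ⟨u, hu⟩ := hb.2 ⟨z, hz⟩
    refine ⟨⟨((u : L) : G), mem_map_of_mem _ u.2⟩, congrArg Subtype.val hu, ?_⟩
    rintro ⟨_, w, hw, rfl⟩ hwz
    have : (⟨w, hw⟩ : N) = u :=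
      hinj y hy _ _ ((show (w : G) • y = z from hwz).trans (congrArg Subtype.val hu).symm)
    exact Subtype.ext (congrArg (fun v : N => ((v : L) : G)) this)

namespace IsKernel

variable {F : Subgroup G} {a b : Ω}

theorem smul_ne (hF : IsKernel F a) {u : G} (hu : u ∈ F) {x : Ω} (hx : x ≠ a) : u • x ≠ a :=
  fun e => hx (MulAction.injective u (e.trans (hF.fix u hu).symm))

theorem eq_one_of_fix (hF : IsKernel F a) {u : G} (hu : u ∈ F) {x : Ω} (hx : x ≠ a)
    (h : u • x = x) : u = 1 :=
  congrArg Subtype.val ((hF.reg x x hx hx).unique (y₁ := ⟨u, hu⟩) (y₂ := 1) h (one_smul G x))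

theorem eq_of_smul (hF : IsKernel F a) {u v : G} (hu : u ∈ F) (hv : v ∈ F) {x : Ω} (hx : x ≠ a)
    (h : u • x = v • x) : u = v :=
  congrArg Subtype.val ((hF.reg x (v • x) hx (hF.smul_ne hv hx)).unique
    (y₁ := ⟨u, hu⟩) (y₂ := ⟨v, hv⟩) h rfl)

/-- The points other than `a` as the orbit of `b`. -/
noncomputable def equivPoints (hF : IsKernel F a) (hab : a ≠ b) : F ≃ {x : Ω // x ≠ a} :=
  Equiv.ofBijective (fun u => ⟨(u : G) • b, hF.smul_ne u.2 (Ne.symm hab)⟩)
    ⟨fun u v e => Subtype.ext (hF.eq_of_smul u.2 v.2 (Ne.symm hab) (congrArg Subtype.val e)),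
      fun x => by
        obtain ⟨u, hu, -⟩ := hF.reg b x (Ne.symm hab) x.2
        exact ⟨u, Subtype.ext hu⟩⟩

theorem card_eq [Finite Ω] (hF : IsKernel F a) (hab : a ≠ b) : Nat.card F + 1 = Nat.card Ω := by
  classical
  haveI := Fintype.ofFinite Ω
  rw [Nat.card_congr (hF.equivPoints hab), Nat.card_eq_fintype_card, Nat.card_eq_fintype_card,
    Fintype.card_subtype_compl, Fintype.card_subtype_eq]
  have := Fintype.card_pos_iff.2 ⟨a⟩
  omega

theorem le_normalizer (hF : IsKernel F a) (h : twoPt G a b) :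
    (h : G) ∈ normalizer (F : Set G) := by
  rw [mem_normalizer_iff]
  intro u
  refine ⟨fun hu => hF.norm _ h.2.1 u hu, fun hu => ?_⟩
  have := hF.norm (h : G)⁻¹ ((inv_smul_eq_iff).2 h.2.1.symm) _ hu
  simpa [mul_assoc] using this

/-- Conjugation of the two-point stabiliser on the kernel. -/
noncomputable def act (hF : IsKernel F a) : twoPt G a b →* MulAut F :=
  F.normalizerMonoidHom.comp (Subgroup.inclusion (fun h hh => hF.le_normalizer ⟨h, hh⟩))

theorem act_coe (hF : IsKernel F a) (h : twoPt G a b) (u : F) :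
    ((hF.act h u : F) : G) = (h : G) * u * (h : G)⁻¹ := rfl

theorem act_smul (hF : IsKernel F a) (h : twoPt G a b) (u : F) :
    ((hF.act h u : F) : G) • b = (h : G) • ((u : G) • b) := by
  rw [hF.act_coe, mul_smul, mul_smul,
    show (h : G)⁻¹ • b = b from inv_smul_eq_iff.2 h.2.2.symm]

theorem act_fpf (hF : IsKernel F a) (C : ZCtx G Ω) (hab : a ≠ b) :
    ∀ h : twoPt G a b, h ≠ 1 → ∀ u : F, hF.act h u = u → u = 1 := by
  intro h hh u hu
  by_contra hu1
  apply hh
  refine Subtype.ext (C.eq_one hab h.2 (hF.smul_ne u.2 (Ne.symm hab)) ?_ ?_)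
  · exact fun e => hu1 (Subtype.ext (hF.eq_one_of_fix u.2 (Ne.symm hab) e))
  · rw [← hF.act_smul, hu]

/-- A set of nontrivial kernel elements stable under the two-point stabiliser has size divisible
by its order. -/
theorem dvd_card_of_invariant [Finite G] (hF : IsKernel F a) (C : ZCtx G Ω) (hab : a ≠ b)
    (P : F → Prop) (hP1 : ¬ P 1) (hPi : ∀ (h : twoPt G a b) (u : F), P u → P (hF.act h u)) :
    Nat.card (twoPt G a b) ∣ Nat.card {u : F // P u} := by
  letI : MulAction (twoPt G a b) {u : F // P u} :=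
    { smul := fun h u => ⟨hF.act h u.1, hPi h _ u.2⟩
      one_smul := fun u => Subtype.ext (by show hF.act 1 u.1 = u.1; rw [map_one]; rfl)
      mul_smul := fun h k u => Subtype.ext (by
        show hF.act (h * k) u.1 = hF.act h (hF.act k u.1); rw [map_mul]; rfl) }
  refine Core.card_dvd_of_free fun u => ?_
  rw [eq_bot_iff]
  intro h hh
  rw [MulAction.mem_stabilizer_iff] at hh
  rw [mem_bot]
  by_contra hne
  have := hF.act_fpf C hab h hne u.1 (congrArg Subtype.val hh)
  exact hP1 (this ▸ u.2)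

theorem card_two_dvd [Finite G] (hF : IsKernel F a) (C : ZCtx G Ω) (hab : a ≠ b) :
    Nat.card (twoPt G a b) ∣ Nat.card F - 1 := by
  classical
  haveI := Fintype.ofFinite F
  have := hF.dvd_card_of_invariant C hab (fun u => u ≠ 1) (fun h => h rfl)
    (fun h u hu e => hu ((hF.act h).injective (e.trans (map_one _).symm)))
  have e : Nat.card {u : F // u ≠ 1} = Nat.card F - 1 := by
    rw [Nat.card_eq_fintype_card (α := {u : F // u ≠ 1}), Fintype.card_subtype_compl,
      Fintype.card_subtype_eq, ← Nat.card_eq_fintype_card]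
  rwa [e] at this

/-- A large two-point stabiliser makes the kernel elementary abelian. -/
theorem elementary [Finite G] [Finite Ω] (hF : IsKernel F a) (C : ZCtx G Ω) (hab : a ≠ b)
    (h3 : 3 ≤ Nat.card Ω) (hd : Nat.card Ω - 2 ≤ 2 * Nat.card (twoPt G a b)) :
    IsMulCommutative F ∧ ∃ p : ℕ, p.Prime ∧ IsPGroup p F ∧ ∀ u ∈ F, u ^ p = 1 := by
  classical
  haveI := Fintype.ofFinite F
  have hn := hF.card_eq hab
  set d := Nat.card (twoPt G a b) with hdd
  set n := Nat.card F with hnn
  have hdpos : 0 < d := Nat.card_pos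
  obtain ⟨m, hm⟩ := hF.card_two_dvd C hab
  rw [← hdd, ← hnn] at hm
  have hm2 : n - 1 = d ∨ n - 1 = 2 * d := by
    have hle : m ≤ 2 := by
      by_contra hlt
      have : d * 3 ≤ d * m := Nat.mul_le_mul_left d (by omega)
      omega
    interval_cases m <;> omega
  -- invariant subsets of the nontrivial elements have one or two orbits
  have key : ∀ (P : F → Prop), P 1 → (∀ (h : twoPt G a b) (u : F), P u → P (hF.act h u)) →
      (∃ u, P u ∧ u ≠ 1) → ∀ m, m ∣ n → 1 < m → m ∣ Nat.card {u : F // P u} → ∀ u, P u := by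
    intro P hP1 hPi ⟨u₀, hu₀, hu₀1⟩ m hmn hm1 hmP
    obtain ⟨j, hj⟩ := hF.dvd_card_of_invariant C hab (fun u => P u ∧ u ≠ 1) (fun h => h.2 rfl)
      (fun h u hu => ⟨hPi h u hu.1, fun e => hu.2 ((hF.act h).injective (e.trans (map_one _).symm))⟩)
    rw [← hdd] at hj
    have hsplit : Nat.card {u : F // P u} = d * j + 1 := by
      rw [← hj, Nat.card_eq_fintype_card, Nat.card_eq_fintype_card, Fintype.card_subtype,
        Fintype.card_subtype, ← Finset.card_erase_add_one (s := Finset.univ.filter P) (a := 1)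
          (by simp [hP1])]
      congr 1
      congr 1
      ext u; simp [and_comm]
    have hle : Nat.card {u : F // P u} ≤ n := by
      rw [hnn, Nat.card_eq_fintype_card, Nat.card_eq_fintype_card]
      exact Fintype.card_subtype_le P
    have hj1 : 1 ≤ j := by
      rcases Nat.eq_zero_or_pos j with rfl | hj0
      · rw [Nat.mul_zero, Nat.card_eq_zero] at hj
        rcases hj with he | he
        · exact (he.false ⟨u₀, hu₀, hu₀1⟩).elim
        · exact absurd he (not_infinite_iff_finite.2 inferInstance)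
      · exact hj0
    have hfull : Nat.card {u : F // P u} = n → ∀ u, P u := by
      intro e u
      by_contra hu
      have := Fintype.card_subtype_lt hu
      rw [hnn, Nat.card_eq_fintype_card, Nat.card_eq_fintype_card] at e
      omega
    apply hfull
    rcases hm2 with h2 | h2
    · have : d * 1 ≤ d * j := Nat.mul_le_mul_left d hj1
      omega
    · have hj2 : j ≤ 2 := by
        by_contra hlt
        have : d * 3 ≤ d * j := Nat.mul_le_mul_left d (by omega)
        omega
      interval_cases j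
      · exfalso
        have hd1 : m ∣ d := by
          have := Nat.dvd_sub hmn hmP
          rwa [hsplit, show n - (d * 1 + 1) = d by omega] at this
        rw [hsplit] at hmP
        have := (Nat.dvd_add_right (hd1.mul_right 1)).1 hmP
        have := Nat.le_of_dvd one_pos this
        omega
      · omega
  have hn1 : 1 < n := by omega
  obtain ⟨p, hp, hpn⟩ := Nat.exists_prime_and_dvd hn1.ne'
  haveI := Fact.mk hp
  obtain ⟨x, hx⟩ := exists_prime_orderOf_dvd_card' (G := F) p hpn
  have hall : ∀ u : F, u ^ p = 1 := by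
    refine key (fun u => u ^ p = 1) (one_pow p)
      (fun h u hu => by rw [← map_pow, hu, map_one])
      ⟨x, by rw [← hx, pow_orderOf_eq_one], fun e => hp.ne_one (by rw [← hx, e, orderOf_one])⟩
      p hpn hp.one_lt (FrobeniusCount.dvd_card_pow_eq_one hpn)
  have hpg : IsPGroup p F := fun u => ⟨1, by rw [pow_one]; exact hall u⟩
  haveI : Nontrivial F := Finite.one_lt_card_iff_nontrivial.1 hn1
  have hZne : center F ≠ ⊥ := (Subgroup.nontrivial_iff_ne_bot _).1 hpg.center_nontrivial
  refine ⟨⟨⟨fun u v => ?_⟩⟩, p, hp, hpg, fun u hu => congrArg Subtype.val (hall ⟨u, hu⟩)⟩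
  have hcen : ∀ u : F, u ∈ center F := by
    obtain ⟨z, hz, hz1⟩ := (center F).bot_or_exists_ne_one.resolve_left hZne
    obtain ⟨k, hk⟩ := IsPGroup.iff_card.1 (hpg.to_subgroup (center F))
    have hk1 : 1 < Nat.card (center F) := (one_lt_card_iff_ne_bot _).2 hZne
    refine key (fun u => u ∈ center F) (one_mem _) (fun h u hu => ?_) ⟨z, hz, hz1⟩
      (Nat.card (center F)) (card_subgroup_dvd_card _) hk1 dvd_rfl
    have hc := Subgroup.Characteristic.fixed (H := center F) inferInstance (hF.act h)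
    rw [← hc] at hu
    exact hu
  exact (mem_center_iff.1 (hcen v) u)

end IsKernel

end Cfsg.Agent.Zassenhaus
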