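import Mathlib
import Cfsg.Agent.Zassenhaus.Basic
import Cfsg.Agent.S0878
import Cfsg.Agent.S0879
import Cfsg.Agent.S0740
import Cfsg.Agent.FPF25.Basics
import Cfsg.Agent.Fusion.Transfer
import Cfsg.Agent.Core.MinimalNonNilpotent
import Cfsg.Agent.Core.Solvable
import Cfsg.Agent.Coherence.ThompsonFPF

/-!
# Zassenhaus groups with two-point stabilisers of odd order

Kernel, involutions, strongly real elements and a lower bound for the number of classes avoiding
the kernel.
-/

set_option autoImplicit false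

namespace Cfsg.Agent.Zassenhaus

open Subgroup MulAction
open scoped commutatorElement

variable {G Ω : Type*} [Group G] [Finite G] [MulAction G Ω] [Fintype Ω]

variable (G) in
/-- A Zassenhaus group with two chosen points whose joint stabiliser has odd order. -/
structure OddCtx (a b : Ω) : Prop where
  zas : Cfsg.IsZassenhausGroup G Ω
  ne : a ≠ b
  odd : Odd (Nat.card (twoPt G a b))

variable (G) in
/-- Some element swapping `a` and `b` inverts their stabiliser. -/
def Inverted (a b : Ω) : Prop :=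
  ∀ s : G, s • a = b → s • b = a → ∀ d ∈ twoPt G a b, s * d * s⁻¹ = d⁻¹

theorem inv_conj_of_sq {x : G} (hx : x * x = 1) : x⁻¹ = x := inv_eq_of_mul_eq_one_right hx

omit [Finite G] in
theorem sq_of_orderOf_two {x : G} (hx : orderOf x = 2) : x * x = 1 := by
  rw [← pow_two, ← hx, pow_orderOf_eq_one]

omit [Finite G] in
theorem orderOf_conj_eq (g x : G) : orderOf (g * x * g⁻¹) = orderOf x :=
  MulEquiv.orderOf_eq (MulAut.conj g) x

theorem card_isConj (z : G) :
    Nat.card {x : G // IsConj z x} = (centralizer ({z} : Set G)).index := by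
  symm
  refine Nat.card_congr (Equiv.ofBijective (Quotient.lift
    (fun k : G => (⟨k * z * k⁻¹, isConj_iff.2 ⟨k, rfl⟩⟩ : {x : G // IsConj z x}))
    (fun k k' e => Subtype.ext ?_)) ⟨?_, ?_⟩)
  · have h1 := mem_centralizer_singleton_iff.1 (QuotientGroup.leftRel_apply.1 e)
    calc k * z * k⁻¹ = k * (z * (k⁻¹ * k')) * k'⁻¹ := by group
      _ = k * ((k⁻¹ * k') * z) * k'⁻¹ := by rw [h1]
      _ = k' * z * k'⁻¹ := by group
  · intro x y
    induction x using Quotient.inductionOn with | h k => ?_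
    induction y using Quotient.inductionOn with | h k' => ?_
    intro e
    refine Quotient.sound (QuotientGroup.leftRel_apply.2 (mem_centralizer_singleton_iff.2 ?_))
    have e' : k * z * k⁻¹ = k' * z * k'⁻¹ := congrArg Subtype.val e
    calc k⁻¹ * k' * z = k⁻¹ * (k' * z * k'⁻¹) * k' := by group
      _ = k⁻¹ * (k * z * k⁻¹) * k' := by rw [e']
      _ = z * (k⁻¹ * k') := by group
  · rintro ⟨x, hx⟩
    obtain ⟨k, hk⟩ := isConj_iff.1 hx
    exact ⟨Quotient.mk'' k, Subtype.ext hk⟩

namespace OddCtx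

variable {a b : Ω}

theorem zctx (C : OddCtx G a b) : ZCtx G Ω :=
  ⟨fun h1 h2 => MulAction.is_two_pretransitive_iff.1 C.zas.2.1 h1 h2, C.zas.2.2.1⟩

theorem exists_ne_one (C : OddCtx G a b) : ∃ d ∈ twoPt G a b, d ≠ 1 := by
  obtain ⟨g, hg, x, y, hxy, hx, hy⟩ := C.zas.2.2.2.1
  obtain ⟨t, h1, h2⟩ := C.zctx.two hxy C.ne
  refine ⟨t * g * t⁻¹, ⟨?_, ?_⟩, fun e => hg (conj_eq_one_iff.1 e)⟩
  · show (t * g * t⁻¹) • a = a
    rw [← h1, mul_smul, mul_smul, inv_smul_smul, hx]
  · show (t * g * t⁻¹) • b = b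
    rw [← h2, mul_smul, mul_smul, inv_smul_smul, hy]

theorem three_le (C : OddCtx G a b) : 3 ≤ Nat.card Ω := by
  obtain ⟨d, hd, hd1⟩ := C.exists_ne_one
  haveI := C.zas.1
  obtain ⟨c, hc⟩ : ∃ c : Ω, d • c ≠ c := by
    by_contra h
    push Not at h
    exact hd1 (FaithfulSMul.eq_of_smul_eq_smul (α := Ω) fun c => by rw [h c, one_smul])
  rw [Nat.card_eq_fintype_card]
  exact Fintype.two_lt_card_iff.2 ⟨a, b, c, C.ne, fun e => hc (e ▸ hd.1), fun e => hc (e ▸ hd.2)⟩

theorem twoPt_ne_bot (C : OddCtx G a b) : twoPt G a b ≠ ⊥ := fun e => by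
  obtain ⟨d, hd, hd1⟩ := C.exists_ne_one
  rw [e, mem_bot] at hd
  exact hd1 hd

theorem three_le_card (C : OddCtx G a b) : 3 ≤ Nat.card (twoPt G a b) := by
  have h1 := (one_lt_card_iff_ne_bot _).2 C.twoPt_ne_bot
  obtain ⟨k, hk⟩ := C.odd
  omega

theorem isKernel (C : OddCtx G a b) (H : Subgroup G) (hHa : H ≤ stabilizer G a)
    (hHcard : Nat.card H + 1 = Fintype.card Ω)
    (hHfix : ∀ u ∈ H, u ≠ 1 → ∀ c : Ω, u • c = c → c = a) : IsKernel H a := by
  classical
  refine ⟨fun u hu => hHa hu, fun g hg u hu => ?_, fun y z hy hz => ?_⟩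
  · have hn := (S0878.result C.zas a H hHa hHcard hHfix).2
    have : g ∈ Subgroup.normalizer (H : Set G) := hn.symm ▸ hg
    exact (Subgroup.mem_normalizer_iff.1 this u).1 hu
  · haveI := Fintype.ofFinite H
    have hne : ∀ u : H, (u : G) • y ≠ a := fun u e =>
      hy (MulAction.injective (u : G) (e.trans (hHa u.2).symm))
    have hinj : Function.Injective fun u : H => (⟨(u : G) • y, hne u⟩ : {x : Ω // x ≠ a}) := by
      intro u v e
      have e' : (u : G) • y = (v : G) • y := congrArg Subtype.val e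
      by_contra huv
      refine hy (hHfix _ (v⁻¹ * u : H).2 (fun h1 => huv ?_) y ?_)
      · exact (inv_mul_eq_one.1 (Subtype.ext h1 : v⁻¹ * u = 1)).symm
      · push_cast
        rw [mul_smul, e', inv_smul_smul]
    have hbij := (Fintype.bijective_iff_injective_and_card _).2 ⟨hinj, by
      rw [← Nat.card_eq_fintype_card, Fintype.card_subtype_compl, Fintype.card_subtype_eq]
      omega⟩
    obtain ⟨u, hu⟩ := hbij.2 ⟨z, hz⟩
    exact ⟨u, congrArg Subtype.val hu,
      fun v hv => hinj (Subtype.ext (hv.trans (congrArg Subtype.val hu).symm))⟩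

theorem exists_kernel (C : OddCtx G a b) : ∃ H : Subgroup G, IsKernel H a :=
  C.zctx.exists_kernel C.three_le C.ne C.twoPt_ne_bot

variable {H : Subgroup G}

theorem decomp (C : OddCtx G a b) (hH : IsKernel H a) {g : G} (hg : g • a = a) :
    ∃ u ∈ H, ∃ d ∈ twoPt G a b, g = u * d := by
  obtain ⟨u, hu, -⟩ := hH.reg b (g • b) C.ne.symm
    (fun e => C.ne.symm (MulAction.injective g (e.trans hg.symm)))
  refine ⟨u, u.2, (u : G)⁻¹ * g, ⟨?_, ?_⟩, (mul_inv_cancel_left _ _).symm⟩
  · show ((u : G)⁻¹ * g) • a = a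
    rw [mul_smul, hg, inv_smul_eq_iff, hH.fix u u.2]
  · show ((u : G)⁻¹ * g) • b = b
    rw [mul_smul, inv_smul_eq_iff]
    exact hu.symm

theorem inf_eq_bot (C : OddCtx G a b) (hH : IsKernel H a) {g : G} (h1 : g ∈ H)
    (h2 : g ∈ twoPt G a b) : g = 1 :=
  hH.eq_one_of_fix h1 C.ne.symm h2.2

/-- The stabiliser of `a` as a product. -/
noncomputable def prodEquiv (C : OddCtx G a b) (hH : IsKernel H a) :
    H × twoPt G a b ≃ stabilizer G a :=
  Equiv.ofBijective (fun x => ⟨(x.1 : G) * x.2, mul_mem (show (x.1 : G) ∈ stabilizer G a from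
      hH.fix _ x.1.2) x.2.2.1⟩)
    ⟨fun x y e => by
      have e' : (x.1 : G) * x.2 = (y.1 : G) * y.2 := congrArg Subtype.val e
      have h1 : (y.1 : G)⁻¹ * x.1 = (y.2 : G) * (x.2 : G)⁻¹ := by
        rw [eq_mul_inv_iff_mul_eq, mul_assoc, e', inv_mul_cancel_left]
      have h2 := C.inf_eq_bot hH (mul_mem (inv_mem y.1.2) x.1.2)
        (h1 ▸ mul_mem y.2.2 (inv_mem x.2.2))
      have h3 : x.1 = y.1 := (Subtype.ext (inv_mul_eq_one.1 h2)).symm
      exact Prod.ext h3 (Subtype.ext (mul_left_cancel (h3 ▸ e'))),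
    fun g => by
      obtain ⟨u, hu, d, hd, e⟩ := C.decomp hH g.2
      exact ⟨(⟨u, hu⟩, ⟨d, hd⟩), Subtype.ext e.symm⟩⟩

theorem card_stab (C : OddCtx G a b) (hH : IsKernel H a) :
    Nat.card (stabilizer G a) = Nat.card H * Nat.card (twoPt G a b) := by
  rw [← Nat.card_prod]
  exact (Nat.card_congr (C.prodEquiv hH)).symm

theorem card_group (C : OddCtx G a b) (hH : IsKernel H a) :
    Nat.card G = (Nat.card H + 1) * (Nat.card H * Nat.card (twoPt G a b)) := by
  haveI : IsPretransitive G Ω := ⟨fun x y => by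
    by_cases hxy : x = y
    · exact ⟨1, by rw [hxy, one_smul]⟩
    · obtain ⟨g, hg, -⟩ := C.zctx.two hxy (Ne.symm hxy)
      exact ⟨g, hg⟩⟩
  rw [← C.card_stab hH, hH.card_eq C.ne, ← (stabilizer G a).card_mul_index,
    index_stabilizer_of_transitive, mul_comm]

theorem exists_mul_eq (C : OddCtx G a b) (hH : IsKernel H a) :
    ∃ m, 1 ≤ m ∧ Nat.card H = Nat.card (twoPt G a b) * m + 1 := by
  have hc := hH.card_eq C.ne
  have h3 := C.three_le
  obtain ⟨m, hm⟩ := hH.card_two_dvd C.zctx C.ne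
  refine ⟨m, ?_, by omega⟩
  by_contra hm0
  rw [show m = 0 by omega, mul_zero] at hm
  omega

theorem card_lt (C : OddCtx G a b) (hH : IsKernel H a) :
    Nat.card (twoPt G a b) < Nat.card H := by
  obtain ⟨m, hm1, hm⟩ := C.exists_mul_eq hH
  have := Nat.mul_le_mul_left (Nat.card (twoPt G a b)) hm1
  omega

theorem coprime (C : OddCtx G a b) (hH : IsKernel H a) :
    (Nat.card (twoPt G a b)).Coprime ((Nat.card H + 1) * Nat.card H) := by
  obtain ⟨m, -, hm⟩ := C.exists_mul_eq hH
  refine Nat.Coprime.mul_right ?_ ?_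
  · rw [hm, show Nat.card (twoPt G a b) * m + 1 + 1 = 2 + Nat.card (twoPt G a b) * m by ring,
      Nat.coprime_add_mul_left_right]
    exact Nat.coprime_two_right.2 C.odd
  · rw [hm, add_comm, Nat.coprime_add_mul_left_right]
    exact Nat.coprime_one_right _

theorem move (C : OddCtx G a b) {g x : G} (hx : x ∈ twoPt G a b) (hx1 : x ≠ 1)
    (hgx : g * x * g⁻¹ ∈ twoPt G a b) :
    (g • a = a ∧ g • b = b) ∨ (g • a = b ∧ g • b = a) := by
  have hne : g * x * g⁻¹ ≠ 1 := fun e => hx1 (conj_eq_one_iff.1 e)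
  have key : ∀ c, x • c = c → g • c = a ∨ g • c = b := fun c hc => by
    by_contra h
    push Not at h
    refine hne (C.zctx.eq_one C.ne hgx h.1 h.2 ?_)
    rw [mul_smul, mul_smul, inv_smul_smul, hc]
  have hd : g • a ≠ g • b := fun e => C.ne (MulAction.injective g e)
  rcases key a hx.1 with ha | ha <;> rcases key b hx.2 with hb | hb <;> first
    | exact absurd (ha.trans hb.symm) hd
    | exact Or.inl ⟨ha, hb⟩
    | exact Or.inr ⟨ha, hb⟩

omit [Finite G] [Fintype Ω] in
theorem swap_conj {s : G} (hsa : s • a = b) (hsb : s • b = a) {d : G} (hd : d ∈ twoPt G a b) :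
    s * d * s⁻¹ ∈ twoPt G a b := by
  have h1 : s⁻¹ • a = b := inv_smul_eq_iff.2 hsb.symm
  have h2 : s⁻¹ • b = a := inv_smul_eq_iff.2 hsa.symm
  constructor
  · show (s * d * s⁻¹) • a = a
    rw [mul_smul, mul_smul, h1, show d • b = b from hd.2, hsb]
  · show (s * d * s⁻¹) • b = b
    rw [mul_smul, mul_smul, h2, show d • a = a from hd.1, hsa]

theorem exists_swap (C : OddCtx G a b) :
    ∃ s : G, orderOf s = 2 ∧ s • a = b ∧ s • b = a :=
  (S0740.result C.zas C.ne).1

/-! ### the inverting hypothesis from the absence of normal complements -/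

theorem inverted_of_no_complement (C : OddCtx G a b)
    (hnil : ∀ q : ℕ, q.Prime → q ∣ Nat.card (twoPt G a b) →
      ¬ ∃ N : Subgroup G, N.Normal ∧ N.index = q ^ (Nat.card G).factorization q) :
    IsCyclic (twoPt G a b) ∧ Inverted G a b := by
  classical
  obtain ⟨H, hH⟩ := C.exists_kernel
  haveI : Nontrivial H := Finite.one_lt_card_iff_nontrivial.1
    (lt_of_le_of_lt (Nat.one_le_iff_ne_zero.2 Nat.card_pos.ne') (C.card_lt hH))
  have hfpf : FPF25.HasFPF (twoPt G a b) :=
    FPF25.hasFPF_of_fpf hH.act fun d hd k hk => hH.act_fpf C.zctx C.ne d hd k hk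
  haveI hZG : IsZGroup (twoPt G a b) := hfpf.isZGroup_of_odd fun h =>
    Nat.not_even_iff_odd.2 C.odd (even_iff_two_dvd.2 h)
  set E := twoPt G a b with hEdef
  -- each Sylow subgroup has an element swapping the points and inverting it
  have key : ∀ q : ℕ, q.Prime → ∀ Q : Sylow q E, q ∣ Nat.card E →
      (∀ n : E, (∀ x ∈ (Q : Subgroup E), n * x * n⁻¹ ∈ (Q : Subgroup E)) →
        ∀ x ∈ (Q : Subgroup E), n * x * n⁻¹ = x) →
      ∃ g : G, g • a = b ∧ g • b = a ∧ ∀ x ∈ (Q : Subgroup E), g * (x : G) * g⁻¹ = (x : G)⁻¹ := by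
    intro q hq Q hqE hcentral
    haveI := Fact.mk hq
    set Q' := (Q : Subgroup E).map E.subtype with hQ'
    have hQp : IsPGroup q Q' := Q.2.map _
    have hcard : Nat.card Q' = q ^ (Nat.card G).factorization q := by
      rw [hQ', card_map_of_injective E.subtype_injective, Q.card_eq_multiplicity]
      congr 1
      have hc := C.coprime hH
      rw [C.card_group hH, ← mul_assoc, mul_comm _ (Nat.card E),
        Nat.factorization_mul_apply_of_coprime hc]
      have h0 : ((Nat.card H + 1) * Nat.card H).factorization q = 0 :=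
        Nat.factorization_eq_zero_of_not_dvd fun h =>
          hq.ne_one (Nat.dvd_one.1 (hc ▸ Nat.dvd_gcd hqE h))
      rw [h0, add_zero]
    obtain ⟨P, hP⟩ : ∃ P : Sylow q G, (P : Subgroup G) = Q' :=
      ⟨Sylow.ofCard Q' hcard, rfl⟩
    obtain ⟨g, hgN, hgC⟩ : ∃ g ∈ normalizer (Q' : Set G), g ∉ centralizer (Q' : Set G) := by
      by_contra hcon
      push Not at hcon
      obtain ⟨P', N, hN, hc⟩ := Fusion.hasNormalPComplement_of_normalizer_le_centralizer (P := P)
        (by rw [show ((P : Sylow q G) : Set G) = (Q' : Set G) from congrArg SetLike.coe hP]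
            exact hcon)
      exact hnil q hq hqE ⟨N, hN, by rw [hc.symm.index_eq_card, P'.card_eq_multiplicity]⟩
    obtain ⟨x0, hx0, hx01⟩ := (Subgroup.bot_or_exists_ne_one (Q : Subgroup E)).resolve_left
      (Q.ne_bot_of_dvd_card hqE)
    have hconjQ : ∀ x ∈ (Q : Subgroup E), ∃ y ∈ (Q : Subgroup E), g * (x : G) * g⁻¹ = (y : G) := by
      intro x hx
      obtain ⟨y, hy, e⟩ := (mem_normalizer_iff.1 hgN _).1 (mem_map_of_mem E.subtype hx)
      exact ⟨y, hy, e.symm⟩
    obtain ⟨y0, -, hy0⟩ := hconjQ x0 hx0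
    have hcase := C.move (g := g) x0.2 (fun e => hx01 (Subtype.ext e)) (hy0 ▸ y0.2)
    rcases hcase with ⟨hga, hgb⟩ | ⟨hga, hgb⟩
    · refine absurd ?_ hgC
      rw [mem_centralizer_iff]
      rintro _ ⟨x, hx, rfl⟩
      have := congrArg Subtype.val (hcentral ⟨g, hga, hgb⟩ (fun z hz => by
        obtain ⟨y, hy, e⟩ := hconjQ z hz
        have : (⟨g, hga, hgb⟩ : E) * z * ⟨g, hga, hgb⟩⁻¹ = y := Subtype.ext e
        exact this ▸ hy) x hx)
      exact (mul_inv_eq_iff_eq_mul.1 this).symm
    · refine ⟨g, hga, hgb, ?_⟩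
      haveI : IsCyclic (Q : Subgroup E) := inferInstance
      obtain ⟨x1, hx1⟩ := (Subgroup.isCyclic_iff_exists_zpowers_eq_top (Q : Subgroup E)).1 inferInstance
      have hx1Q : x1 ∈ (Q : Subgroup E) := hx1 ▸ mem_zpowers x1
      obtain ⟨y, hy, hgy⟩ := hconjQ x1 hx1Q
      obtain ⟨k, hk⟩ : ∃ k : ℤ, x1 ^ k = y := mem_zpowers_iff.1 (hx1.symm ▸ hy)
      have hgk : ∀ j : ℤ, g * ((x1 ^ j : E) : G) * g⁻¹ = ((x1 ^ (k * j) : E) : G) := fun j => by
        rw [SubgroupClass.coe_zpow, SubgroupClass.coe_zpow, ← conj_zpow, hgy, ← hk,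
          SubgroupClass.coe_zpow, ← zpow_mul]
      have hgg : g * g ∈ E := ⟨by show (g * g) • a = a; rw [mul_smul, hga, hgb],
        by show (g * g) • b = b; rw [mul_smul, hgb, hga]⟩
      have hsq : x1 ^ (k * k) = x1 := by
        have h1 : (⟨g * g, hgg⟩ : E) * x1 * ⟨g * g, hgg⟩⁻¹ = x1 := by
          refine hcentral ⟨g * g, hgg⟩ (fun z hz => ?_) x1 hx1Q
          obtain ⟨y1, hy1, e1⟩ := hconjQ z hz
          obtain ⟨y2, hy2, e2⟩ := hconjQ y1 hy1
          have : (⟨g * g, hgg⟩ : E) * z * ⟨g * g, hgg⟩⁻¹ = y2 := Subtype.ext (by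
            show g * g * (z : G) * (g * g)⁻¹ = y2
            rw [← e2, ← e1]; group)
          exact this ▸ hy2
        apply Subtype.ext
        rw [← hgk k]
        have h2 := hgk 1
        rw [zpow_one, mul_one] at h2
        rw [← h2]
        have h3 : g * g * (x1 : G) * (g * g)⁻¹ = x1 := congrArg Subtype.val h1
        conv_rhs => rw [← h3]
        group
      obtain ⟨i, hi⟩ := IsPGroup.iff_orderOf.1 Q.2 ⟨x1, hx1Q⟩
      rw [orderOf_mk] at hi
      have hd : (orderOf x1 : ℤ) ∣ (k - 1) * (k + 1) := by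
        rw [orderOf_dvd_iff_zpow_eq_one, show (k - 1) * (k + 1) = k * k - 1 by ring, zpow_sub,
          hsq, zpow_one, mul_inv_cancel]
      have hqodd : q ≠ 2 := fun e => Nat.not_even_iff_odd.2 C.odd (even_iff_two_dvd.2 (e ▸ hqE))
      have hdk : (orderOf x1 : ℤ) ∣ k - 1 ∨ (orderOf x1 : ℤ) ∣ k + 1 := by
        have hpr : Prime (q : ℤ) := Nat.prime_iff_prime_int.1 hq
        rw [hi, Nat.cast_pow] at hd ⊢
        by_cases h1 : (q : ℤ) ∣ k - 1
        · refine Or.inl (hpr.pow_dvd_of_dvd_mul_right i (fun h2 => ?_) hd)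
          have h3 : (q : ℤ) ∣ 2 := by
            have := dvd_sub h2 h1
            rwa [show k + 1 - (k - 1) = 2 by ring] at this
          exact hqodd ((Nat.prime_dvd_prime_iff_eq hq Nat.prime_two).1 (by exact_mod_cast h3))
        · exact Or.inr (hpr.pow_dvd_of_dvd_mul_left i h1 hd)
      have hk1 : x1 ^ k ≠ x1 := fun e => hgC <| by
        rw [mem_centralizer_iff]
        rintro _ ⟨x, hx, rfl⟩
        obtain ⟨j, hj⟩ : ∃ j : ℤ, x1 ^ j = x := mem_zpowers_iff.1 (hx1.symm ▸ hx)
        refine (mul_inv_eq_iff_eq_mul.1 ?_).symm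
        show g * (x : G) * g⁻¹ = (x : G)
        rw [← hj, hgk, zpow_mul, e]
      have hkneg : x1 ^ k = x1⁻¹ := by
        rcases hdk with h | h
        · refine absurd ?_ hk1
          rw [orderOf_dvd_iff_zpow_eq_one, zpow_sub, zpow_one, mul_inv_eq_one] at h
          exact h
        · rw [orderOf_dvd_iff_zpow_eq_one, zpow_add, zpow_one] at h
          exact eq_inv_of_mul_eq_one_left h
      intro x hx
      obtain ⟨j, hj⟩ : ∃ j : ℤ, x1 ^ j = x := mem_zpowers_iff.1 (hx1.symm ▸ hx)
      rw [← hj, hgk, zpow_mul, hkneg, inv_zpow, Subgroup.coe_inv]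
  -- Sylow subgroups for primes not dividing the derived group centralise it
  have hcp : (Nat.card (commutator E)).Coprime (commutator E).index :=
    IsZGroup.coprime_commutator_index E
  haveI : IsCyclic (commutator E) := IsZGroup.isCyclic_commutator E
  have hfree : ∀ q : ℕ, q.Prime → ∀ Q : Sylow q E, ¬ q ∣ Nat.card (commutator E) →
      ∀ n : E, (∀ x ∈ (Q : Subgroup E), n * x * n⁻¹ ∈ (Q : Subgroup E)) →
        ∀ x ∈ (Q : Subgroup E), n * x * n⁻¹ = x := by
    intro q hq Q hnd n hn x hx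
    haveI := Fact.mk hq
    have h1 : ⁅n, x⁆ ∈ commutator E := commutator_mem_commutator (mem_top n) (mem_top x)
    have h2 : ⁅n, x⁆ ∈ (Q : Subgroup E) := by
      rw [commutatorElement_def]; exact mul_mem (hn x hx) (inv_mem hx)
    have h3 : (commutator E) ⊓ (Q : Subgroup E) = ⊥ := by
      obtain ⟨i, hi⟩ := IsPGroup.iff_card.1 Q.2
      refine inf_eq_bot_of_coprime ?_
      rw [hi]
      exact ((hq.coprime_iff_not_dvd).2 hnd).symm.pow_right i
    have h4 : ⁅n, x⁆ ∈ (commutator E) ⊓ (Q : Subgroup E) := ⟨h1, h2⟩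
    rw [h3, mem_bot, commutatorElement_def] at h4
    exact mul_inv_eq_one.1 h4
  have hA : (commutator E) ≤ center E := by
    have hCtop : centralizer ((commutator E : Subgroup E) : Set E) = ⊤ := by
      refine Core.eq_top_of_forall_sylow fun q hq hqE => ?_
      haveI := Fact.mk hq
      obtain ⟨Q⟩ := (inferInstance : Nonempty (Sylow q E))
      refine ⟨Q, ?_⟩
      by_cases hnd : q ∣ Nat.card (commutator E)
      · refine le_trans ?_ (le_centralizer (commutator E))
        have hni : ¬ q ∣ (commutator E).index := fun h =>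
          hq.ne_one (Nat.dvd_one.1 (hcp ▸ Nat.dvd_gcd hnd h))
        intro x hx
        rw [← QuotientGroup.eq_one_iff, ← orderOf_eq_one_iff]
        obtain ⟨i, hi⟩ := IsPGroup.iff_orderOf.1 Q.2 ⟨x, hx⟩
        rw [orderOf_mk] at hi
        obtain ⟨j, -, hj⟩ := (Nat.dvd_prime_pow hq).1 (hi ▸
          orderOf_map_dvd (QuotientGroup.mk' (commutator E)) x)
        rcases Nat.eq_zero_or_pos j with rfl | hj0
        · simpa using hj
        · refine absurd ((dvd_pow_self q hj0.ne').trans ?_) hni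
          rw [← hj, Subgroup.index_eq_card]
          exact orderOf_dvd_natCard _
      · obtain ⟨g, hga, hgb, hg⟩ := key q hq Q hqE (hfree q hq Q hnd)
        intro x hx
        obtain ⟨z, hz⟩ := (Subgroup.isCyclic_iff_exists_zpowers_eq_top (commutator E)).1 inferInstance
        rw [mem_centralizer_iff]
        intro w hw
        have hzA : z ∈ commutator E := hz ▸ mem_zpowers z
        -- the automorphism induced by `g`
        let φ : MulAut E :=
          { toFun := fun d => ⟨g * d * g⁻¹, swap_conj hga hgb d.2⟩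
            invFun := fun d => ⟨g⁻¹ * d * g⁻¹⁻¹, swap_conj (inv_smul_eq_iff.2 hgb.symm)
              (inv_smul_eq_iff.2 hga.symm) d.2⟩
            left_inv := fun d => Subtype.ext (by simp [mul_assoc])
            right_inv := fun d => Subtype.ext (by simp [mul_assoc])
            map_mul' := fun d d' => Subtype.ext (by simp [mul_assoc]) }
        have hφx : φ x = x⁻¹ := Subtype.ext (hg x hx)
        have hφA : ∀ u ∈ commutator E, φ u ∈ commutator E := fun u hu => by
          have hc : (commutator E).map φ.toMonoidHom = commutator E := by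
            rw [commutator_def, map_commutator, Subgroup.map_top_of_surjective _ φ.surjective]
          exact hc.le (mem_map_of_mem φ.toMonoidHom hu)
        obtain ⟨k, hk⟩ : ∃ k : ℤ, z ^ k = x * z * x⁻¹ :=
          mem_zpowers_iff.1 (hz.symm ▸ (inferInstance : (commutator E).Normal).conj_mem z hzA x)
        have hxu : ∀ u ∈ commutator E, x * u * x⁻¹ = u ^ k := fun u hu => by
          obtain ⟨j, rfl⟩ := mem_zpowers_iff.1 (hz.symm ▸ hu)
          rw [← conj_zpow, ← hk, ← zpow_mul, ← zpow_mul, mul_comm]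
        -- `x * x` centralises the derived group
        have h2 : ∀ u ∈ commutator E, x * x * u * (x * x)⁻¹ = u := by
          intro u hu
          obtain ⟨v, hv, rfl⟩ : ∃ v ∈ commutator E, φ v = u := by
            refine ⟨φ⁻¹ u, ?_, φ.apply_symm_apply u⟩
            have hc : (commutator E).map (φ⁻¹ : MulAut E).toMonoidHom = commutator E := by
              rw [commutator_def, map_commutator,
                Subgroup.map_top_of_surjective _ (φ⁻¹ : MulAut E).surjective]
            exact hc.le (mem_map_of_mem _ hu)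
          have e1 : x⁻¹ * φ v * x = φ v ^ k := by
            rw [← map_zpow, ← hxu v hv, map_mul, map_mul, map_inv, hφx, inv_inv]
          have e2 := hxu _ (hφA v hv)
          calc x * x * φ v * (x * x)⁻¹ = x * (x * φ v * x⁻¹) * x⁻¹ := by group
            _ = x * (x⁻¹ * φ v * x) * x⁻¹ := by rw [e2, e1]
            _ = φ v := by group
        have hxx : Commute (x * x) w := mul_inv_eq_iff_eq_mul.1 (h2 w hw)
        obtain ⟨i, hi⟩ : Odd (orderOf x) := Odd.of_dvd_nat C.odd (orderOf_dvd_natCard x)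
        have h5 : x = (x * x) ^ (i + 1) := by
          rw [← pow_two, ← pow_mul, show 2 * (i + 1) = orderOf x + 1 by omega, pow_succ,
            pow_orderOf_eq_one, one_mul]
        rw [h5]
        exact ((hxx.pow_left _).eq).symm
    intro u hu
    rw [mem_center_iff]
    intro v
    exact (mem_centralizer_iff.1 (hCtop ▸ mem_top v : v ∈ centralizer _) u hu).symm
  haveI : Group.IsNilpotent E := Subgroup.isNilpotent_of_ker_le_center (Abelianization.of (G := E))
    (by rw [Abelianization.ker_of]; exact hA)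
  have hcyc : IsCyclic E := inferInstance
  refine ⟨hcyc, fun s hsa hsb => ?_⟩
  have hcomm : ∀ u v : E, u * v = v * u := fun u v => haveI := (IsCyclic.isMulCommutative : IsMulCommutative E); mul_comm' u v
  have hS : ∀ q : ℕ, q.Prime → q ∣ Nat.card E → ∀ Q : Sylow q E, ∀ x ∈ (Q : Subgroup E),
      s * (x : G) * s⁻¹ = (x : G)⁻¹ := by
    intro q hq hqE Q x hx
    obtain ⟨g, hga, hgb, hg⟩ := key q hq Q hqE fun n _ y _ => by
      rw [hcomm n y, mul_inv_cancel_right]
    have hd : g⁻¹ * s ∈ E := ⟨by show (g⁻¹ * s) • a = a; rw [mul_smul, hsa, inv_smul_eq_iff, hga],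
      by show (g⁻¹ * s) • b = b; rw [mul_smul, hsb, inv_smul_eq_iff, hgb]⟩
    have h1 : (g⁻¹ * s) * (x : G) * (g⁻¹ * s)⁻¹ = x := by
      have := congrArg Subtype.val (hcomm ⟨_, hd⟩ x)
      simp only [Subgroup.coe_mul] at this
      rw [this, mul_inv_cancel_right]
    calc s * (x : G) * s⁻¹ = g * ((g⁻¹ * s) * (x : G) * (g⁻¹ * s)⁻¹) * g⁻¹ := by group
      _ = _ := by rw [h1, hg x hx]
  let K : Subgroup E :=
    { carrier := {x | s * (x : G) * s⁻¹ = (x : G)⁻¹}
      one_mem' := by simp
      mul_mem' := fun {x y} hx hy => by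
        simp only [Set.mem_ofPred_eq, Subgroup.coe_mul] at *
        rw [show (x : G) * y = y * x from congrArg Subtype.val (hcomm x y)]
        rw [show s * ((y : G) * x) * s⁻¹ = (s * y * s⁻¹) * (s * x * s⁻¹) by group, hx, hy]
        rw [← mul_inv_rev]
        exact congrArg (·⁻¹) (congrArg Subtype.val (hcomm x y))
      inv_mem' := fun {x} hx => by
        simp only [Set.mem_ofPred_eq, Subgroup.coe_inv] at *
        rw [show s * (x : G)⁻¹ * s⁻¹ = (s * (x : G) * s⁻¹)⁻¹ by group, hx] }
  have hK : K = ⊤ := Core.eq_top_of_forall_sylow fun q hq hqE => by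
    haveI := Fact.mk hq
    obtain ⟨Q⟩ := (inferInstance : Nonempty (Sylow q E))
    exact ⟨Q, fun x hx => hS q hq hqE Q x hx⟩
  exact fun d hd => (hK ▸ mem_top (⟨d, hd⟩ : E) : (⟨d, hd⟩ : E) ∈ K)

theorem no_complement_of_simple (C : OddCtx G a b) [IsSimpleGroup G] :
    ∀ q : ℕ, q.Prime → q ∣ Nat.card (twoPt G a b) →
      ¬ ∃ N : Subgroup G, N.Normal ∧ N.index = q ^ (Nat.card G).factorization q := by
  rintro q hq hqE ⟨N, hN, hi⟩
  obtain ⟨H, hH⟩ := C.exists_kernel
  have hqG : q ∣ Nat.card G := hqE.trans (card_subgroup_dvd_card _)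
  have hf : 0 < (Nat.card G).factorization q := hq.factorization_pos_of_dvd Nat.card_pos.ne' hqG
  rcases hN.eq_bot_or_eq_top with rfl | rfl
  · rw [index_bot] at hi
    have h2 : 2 ∣ Nat.card G := by
      rw [C.card_group hH, ← mul_assoc]
      refine Dvd.dvd.mul_right ?_ _
      rw [mul_comm]
      exact even_iff_two_dvd.1 (Nat.even_mul_succ_self _)
    have h3 := Nat.prime_two.dvd_of_dvd_pow (hi ▸ h2)
    have h4 := (Nat.prime_dvd_prime_iff_eq Nat.prime_two hq).1 h3
    exact Nat.not_even_iff_odd.2 C.odd (even_iff_two_dvd.2 (h4 ▸ hqE))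
  · rw [index_top] at hi
    have := Nat.one_lt_pow hf.ne' hq.one_lt
    omega

/-! ### involutions -/

theorem eq_one_of_eq_inv (C : OddCtx G a b) {d : G} (hd : d ∈ twoPt G a b) (h : d = d⁻¹) :
    d = 1 := by
  have h2 : d ^ 2 = 1 := by rw [pow_two]; exact mul_eq_one_iff_eq_inv.2 h
  have h3 : d ^ Nat.card (twoPt G a b) = 1 := by
    simpa using congrArg Subtype.val (pow_card_eq_one' (x := (⟨d, hd⟩ : twoPt G a b)))
  have := pow_gcd_eq_one.2 ⟨h2, h3⟩
  rwa [(Nat.coprime_two_left.2 C.odd).gcd_eq_one, pow_one] at this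

omit [Finite G] in
theorem orderOf_swap {x : G} (hne : a ≠ b) (hxa : x • a = b) (hx : x * x = 1) :
    orderOf x = 2 := by
  refine orderOf_eq_prime (by rw [pow_two]; exact hx) fun e => hne ?_
  rw [← hxa, e, one_smul]

theorem swap_invol (C : OddCtx G a b) (hI : Inverted G a b) {x : G} (hxa : x • a = b)
    (hxb : x • b = a) : orderOf x = 2 := by
  refine orderOf_swap C.ne hxa ?_
  have hd : x * x ∈ twoPt G a b := ⟨by show (x * x) • a = a; rw [mul_smul, hxa, hxb],
    by show (x * x) • b = b; rw [mul_smul, hxb, hxa]⟩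
  exact C.eq_one_of_eq_inv hd (by rw [← hI x hxa hxb _ hd]; group)

theorem swap_conjugate (C : OddCtx G a b) (hI : Inverted G a b) {s x : G} (hsa : s • a = b)
    (hsb : s • b = a) (hxa : x • a = b) (hxb : x • b = a) : IsConj s x := by
  set d := s⁻¹ * x with hd
  have hdE : d ∈ twoPt G a b := ⟨by show d • a = a; rw [hd, mul_smul, hxa, inv_smul_eq_iff, hsa],
    by show d • b = b; rw [hd, mul_smul, hxb, inv_smul_eq_iff, hsb]⟩
  obtain ⟨i, hi⟩ : Odd (orderOf d) := by
    refine Odd.of_dvd_nat C.odd ?_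
    exact orderOf_dvd_natCard _ hdE
  set c := d ^ (i + 1) with hc
  have hcd : c * c = d := by
    rw [hc, ← pow_add, show i + 1 + (i + 1) = orderOf d + 1 by omega, pow_succ, pow_orderOf_eq_one,
      one_mul]
  refine isConj_iff.2 ⟨c⁻¹, ?_⟩
  have h1 := hI s hsa hsb c (pow_mem hdE _)
  calc c⁻¹ * s * c⁻¹⁻¹ = c⁻¹ * (s * c * s⁻¹) * s := by group
    _ = c⁻¹ * c⁻¹ * s := by rw [h1]
    _ = d⁻¹ * s := by rw [← hcd]; group
    _ = x⁻¹ * s * s := by rw [hd]; group
    _ = x := by
      rw [mul_assoc, sq_of_orderOf_two (C.swap_invol hI hsa hsb), mul_one,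
        inv_eq_of_mul_eq_one_right (sq_of_orderOf_two (C.swap_invol hI hxa hxb))]

theorem exists_conj_swap (C : OddCtx G a b) {x : G} (hx : orderOf x = 2) :
    ∃ g : G, (g * x * g⁻¹) • a = b ∧ (g * x * g⁻¹) • b = a := by
  haveI := C.zas.1
  obtain ⟨c, hc⟩ : ∃ c : Ω, x • c ≠ c := by
    by_contra h
    push Not at h
    have : x = 1 := FaithfulSMul.eq_of_smul_eq_smul (α := Ω) fun c => by rw [h c, one_smul]
    rw [this, orderOf_one] at hx
    omega
  obtain ⟨g, hg1, hg2⟩ := C.zctx.two (Ne.symm hc) C.ne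
  refine ⟨g, ?_, ?_⟩
  · rw [← hg1, mul_smul, inv_smul_smul, mul_smul, hg2]
  · rw [← hg2, mul_smul, inv_smul_smul, mul_smul, ← mul_smul x x c, sq_of_orderOf_two hx, one_smul,
      hg1]

theorem invol_conj (C : OddCtx G a b) (hI : Inverted G a b) {x y : G} (hx : orderOf x = 2)
    (hy : orderOf y = 2) : IsConj x y := by
  obtain ⟨g, h1, h2⟩ := C.exists_conj_swap hx
  obtain ⟨k, h3, h4⟩ := C.exists_conj_swap hy
  exact (isConj_iff.2 ⟨g, rfl⟩).trans ((C.swap_conjugate hI h1 h2 h3 h4).trans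
    (isConj_iff.2 ⟨k, rfl⟩).symm)

omit [Finite G] [Fintype Ω] in
theorem card_conj_set (P : G → Prop) (g : G) :
    Nat.card {x : G // P (g * x * g⁻¹)} = Nat.card {x : G // P x} :=
  Nat.card_congr (Equiv.subtypeEquiv (MulAut.conj g).toEquiv fun x => Iff.rfl)

theorem card_swappers (C : OddCtx G a b) (hI : Inverted G a b) {c d : Ω} (hcd : c ≠ d) :
    Nat.card {x : G // orderOf x = 2 ∧ x • c = d} = Nat.card (twoPt G a b) := by
  obtain ⟨g, hg1, hg2⟩ := C.zctx.two hcd C.ne
  obtain ⟨s, hs, hsa, hsb⟩ := C.exists_swap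
  rw [← card_conj_set (fun x => orderOf x = 2 ∧ x • c = d) g⁻¹]
  refine Nat.card_congr (Equiv.symm (Equiv.ofBijective (fun h => ⟨s * (h : G), ?_⟩) ⟨?_, ?_⟩))
  · have ha : (s * (h : G)) • a = b := by rw [mul_smul, show (h : G) • a = a from h.2.1, hsa]
    have hb : (s * (h : G)) • b = a := by rw [mul_smul, show (h : G) • b = b from h.2.2, hsb]
    refine ⟨?_, ?_⟩
    · rw [orderOf_conj_eq]; exact C.swap_invol hI ha hb
    · rw [inv_inv, mul_smul, mul_smul, hg1, ha, inv_smul_eq_iff, hg2]
  · exact fun h h' e => Subtype.ext (mul_left_cancel (congrArg Subtype.val e))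
  · rintro ⟨x, hx, hxc⟩
    rw [orderOf_conj_eq] at hx
    have ha : x • a = b := by
      rw [inv_inv, mul_smul, mul_smul, hg1, inv_smul_eq_iff, hg2] at hxc
      exact hxc
    have hb : x • b = a := by
      rw [← ha, ← mul_smul, sq_of_orderOf_two hx, one_smul]
    refine ⟨⟨s⁻¹ * x, ?_, ?_⟩, Subtype.ext (mul_inv_cancel_left _ _)⟩
    · show (s⁻¹ * x) • a = a
      rw [mul_smul, ha, inv_smul_eq_iff, hsa]
    · show (s⁻¹ * x) • b = b
      rw [mul_smul, hb, inv_smul_eq_iff, hsb]

theorem card_fixed (C : OddCtx G a b) (hH : IsKernel H a) {x : G} (hx : orderOf x = 2) :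
    Nat.card (fixedBy Ω x) = if Even (Nat.card H) then 1 else 0 := by
  obtain ⟨g, h1, h2⟩ := C.exists_conj_swap hx
  have hg : orderOf (g * x * g⁻¹) = 2 := by rw [orderOf_conj_eq, hx]
  have hc : Nat.card (fixedBy Ω x) = Nat.card (fixedBy Ω (g * x * g⁻¹)) := by
    refine Nat.card_congr (Equiv.subtypeEquiv (MulAction.toPerm g) fun c => ?_)
    show x • c = c ↔ (g * x * g⁻¹) • g • c = g • c
    rw [mul_smul, mul_smul, inv_smul_smul, smul_left_cancel_iff]
  have hcard := hH.card_eq C.ne
  rw [Nat.card_eq_fintype_card (α := Ω)] at hcard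
  obtain ⟨h3, h4⟩ := (S0740.result C.zas C.ne).2.1 _ hg h1 h2
  rw [hc]
  split_ifs with hev
  · exact h3 (by rw [← hcard]; exact hev.add_one)
  · rcases h4 (by rw [← hcard]; exact (Nat.not_even_iff_odd.1 hev).add_one) with h | h
    · exact h
    · exfalso
      haveI : Nonempty (fixedBy Ω (g * x * g⁻¹)) := (Nat.card_pos_iff.1 (by omega)).1
      obtain ⟨c, hc'⟩ := (inferInstance : Nonempty (fixedBy Ω (g * x * g⁻¹)))
      obtain ⟨k, hk⟩ : ∃ k : G, k • c = a := by
        by_cases hca : c = a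
        · exact ⟨1, by rw [hca, one_smul]⟩
        · obtain ⟨k, hk, -⟩ := C.zctx.two hca (Ne.symm hca)
          exact ⟨k, hk⟩
      have hmem : k * (g * x * g⁻¹) * k⁻¹ ∈ stabilizer G a := by
        show (k * (g * x * g⁻¹) * k⁻¹) • a = a
        rw [← hk, mul_smul, mul_smul, inv_smul_smul, show (g * x * g⁻¹) • c = c from hc']
      have h5 := orderOf_dvd_natCard (stabilizer G a) hmem
      rw [orderOf_conj_eq, hg, C.card_stab hH] at h5
      exact Nat.not_even_iff_odd.2 ((Nat.not_even_iff_odd.1 hev).mul C.odd) (even_iff_two_dvd.2 h5)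

theorem card_invol (C : OddCtx G a b) (hI : Inverted G a b) (hH : IsKernel H a) :
    Nat.card {x : G // orderOf x = 2} = if Even (Nat.card H)
      then Nat.card (twoPt G a b) * (Nat.card H + 1) else Nat.card (twoPt G a b) * Nat.card H := by
  classical
  haveI := Fintype.ofFinite G
  set h := Nat.card H with hh
  set e := Nat.card (twoPt G a b) with he
  have hn : Fintype.card Ω = h + 1 := by rw [← Nat.card_eq_fintype_card, hh, hH.card_eq C.ne]
  set f := if Even h then 1 else 0 with hf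
  set I := (Finset.univ : Finset G).filter fun x => orderOf x = 2
  have h1 : ∀ x ∈ I, ((Finset.univ : Finset Ω).filter fun c => x • c ≠ c).card = h + 1 - f := by
    intro x hx
    have hcf : ((Finset.univ : Finset Ω).filter fun c => x • c = c).card = f := by
      rw [← Fintype.card_subtype, ← Nat.card_eq_fintype_card]
      exact C.card_fixed hH (Finset.mem_filter.1 hx).2
    have := Finset.card_filter_add_card_filter_not (s := (Finset.univ : Finset Ω))
      (fun c => x • c = c)
    rw [Finset.card_univ, hn, hcf] at this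
    show ((Finset.univ : Finset Ω).filter fun c => ¬ x • c = c).card = _
    omega
  have h2 : ∀ c : Ω, (I.filter fun x => x • c ≠ c).card = h * e := by
    intro c
    rw [Finset.card_eq_sum_card_fiberwise (f := fun x => x • c) (t := Finset.univ.erase c)
      (fun x hx => Finset.mem_erase.2 ⟨(Finset.mem_filter.1 hx).2, Finset.mem_univ _⟩)]
    have : ∀ d ∈ Finset.univ.erase c,
        ((I.filter fun x => x • c ≠ c).filter fun x => x • c = d).card = e := by
      intro d hd
      rw [he, ← C.card_swappers hI (Finset.mem_erase.1 hd).1.symm, Nat.card_eq_fintype_card,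
        Fintype.card_subtype]
      congr 1
      ext x
      simp only [I, Finset.mem_filter, Finset.mem_univ, true_and]
      exact ⟨fun hx => ⟨hx.1.1, hx.2⟩, fun hx => ⟨⟨hx.1, hx.2 ▸ (Finset.mem_erase.1 hd).1⟩, hx.2⟩⟩
    rw [Finset.sum_congr rfl this, Finset.sum_const, Finset.card_erase_of_mem (Finset.mem_univ _),
      Finset.card_univ, hn, smul_eq_mul, Nat.add_sub_cancel]
  have h3 : I.card * (h + 1 - f) = (h + 1) * (h * e) := by
    have := Finset.sum_card_bipartiteAbove_eq_sum_card_bipartiteBelow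
      (s := I) (t := (Finset.univ : Finset Ω)) (r := fun x c => x • c ≠ c)
    simp only [Finset.bipartiteAbove, Finset.bipartiteBelow] at this
    rw [Finset.sum_congr rfl h1, Finset.sum_congr rfl (fun c _ => h2 c), Finset.sum_const,
      Finset.sum_const, Finset.card_univ, hn, smul_eq_mul, smul_eq_mul] at this
    exact this
  have hpos : 0 < h := Nat.card_pos
  rw [Nat.card_eq_fintype_card, Fintype.card_subtype]
  show I.card = _
  rw [hf] at h3
  split_ifs with hev
  · rw [if_pos hev, Nat.add_sub_cancel] at h3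
    refine Nat.eq_of_mul_eq_mul_right hpos ?_
    rw [h3]; ring
  · rw [if_neg hev, Nat.sub_zero] at h3
    refine Nat.eq_of_mul_eq_mul_right (Nat.succ_pos h) ?_
    rw [Nat.succ_eq_add_one, h3]; ring

/-! ### the kernel -/

theorem conj_kernel_fix (hH : IsKernel H a) {g u : G} (hu : u ∈ H) (hu1 : u ≠ 1)
    (h : g * u * g⁻¹ ∈ stabilizer G a) : g • a = a := by
  by_contra hga
  have h1 : g⁻¹ • a ≠ a := fun e => hga (inv_smul_eq_iff.1 e).symm
  refine hu1 (hH.eq_one_of_fix hu h1 ?_)
  have : (g * u * g⁻¹) • a = a := h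
  rw [mul_smul, mul_smul, smul_eq_iff_eq_inv_smul] at this
  exact this

theorem conj_twoPt_of_not_mem (C : OddCtx G a b) (hH : IsKernel H a) {g : G} (hg : g • a = a)
    (hgH : g ∉ H) : ∃ v ∈ H, ∃ d ∈ twoPt G a b, d ≠ 1 ∧ g = v * d * v⁻¹ := by
  classical
  haveI := Fintype.ofFinite H
  obtain ⟨u, hu, d, hd, rfl⟩ := C.decomp hH hg
  have hd1 : d ≠ 1 := fun e => hgH (by rw [e, mul_one]; exact hu)
  let F : H → H := fun v => ⟨(v : G) * (d * (v : G)⁻¹ * d⁻¹),
    mul_mem v.2 (hH.norm d hd.1 _ (inv_mem v.2))⟩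
  have hinj : Function.Injective F := by
    intro v w e
    have e' : (v : G) * (d * (v : G)⁻¹ * d⁻¹) = (w : G) * (d * (w : G)⁻¹ * d⁻¹) :=
      congrArg Subtype.val e
    have h3 : (v : G) * d * (v : G)⁻¹ = (w : G) * d * (w : G)⁻¹ := by
      have := congrArg (· * d) e'
      simpa [mul_assoc] using this
    have h2 : hH.act ⟨d, hd⟩ (w⁻¹ * v) = w⁻¹ * v := by
      apply Subtype.ext
      rw [hH.act_coe, Subgroup.coe_mul, Subgroup.coe_inv]
      calc d * ((w : G)⁻¹ * (v : G)) * d⁻¹
          = (w : G)⁻¹ * ((w : G) * d * (w : G)⁻¹) * (v : G) * d⁻¹ := by group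
        _ = (w : G)⁻¹ * ((v : G) * d * (v : G)⁻¹) * (v : G) * d⁻¹ := by rw [h3]
        _ = (w : G)⁻¹ * (v : G) := by group
    have := hH.act_fpf C.zctx C.ne ⟨d, hd⟩ (fun e0 => hd1 (congrArg Subtype.val e0)) _ h2
    exact (inv_mul_eq_one.1 this).symm
  obtain ⟨v, hv⟩ := Finite.surjective_of_injective hinj ⟨u, hu⟩
  refine ⟨v, v.2, d, hd, hd1, ?_⟩
  have hv' : (v : G) * (d * (v : G)⁻¹ * d⁻¹) = u := congrArg Subtype.val hv
  rw [← hv']
  group

theorem invol_stab_mem (C : OddCtx G a b) (hH : IsKernel H a) {x : G} (hx : orderOf x = 2)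
    (hxa : x • a = a) : x ∈ H := by
  by_contra hxH
  obtain ⟨v, -, d, hd, hd1, e⟩ := C.conj_twoPt_of_not_mem hH hxa hxH
  refine hd1 (C.eq_one_of_eq_inv hd ?_)
  have h2 : orderOf d = 2 := by rw [← hx, e, orderOf_conj_eq]
  exact (inv_eq_of_mul_eq_one_right (sq_of_orderOf_two h2)).symm

theorem kernel_isNilpotent (C : OddCtx G a b) (hH : IsKernel H a) : Group.IsNilpotent H := by
  obtain ⟨q, hq, hqd⟩ := Nat.exists_prime_and_dvd
    (show Nat.card (twoPt G a b) ≠ 1 by have := C.three_le_card; omega)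
  haveI := Fact.mk hq
  obtain ⟨c, hc⟩ := exists_prime_orderOf_dvd_card' (G := twoPt G a b) q hqd
  refine Coherence.isNilpotent_of_fpf_prime hq (c := (c : G)) ?_ (hH.le_normalizer c) ?_
  · rw [← SubgroupClass.coe_pow, ← hc, pow_orderOf_eq_one]; rfl
  · rw [eq_bot_iff]
    intro u hu
    have hc1 : c ≠ 1 := fun e => hq.ne_one (by rw [← hc, e, orderOf_one])
    have := hH.act_fpf C.zctx C.ne c hc1 ⟨u, hu.1⟩ (Subtype.ext (by
      rw [hH.act_coe]
      exact mul_inv_eq_iff_eq_mul.2 (mem_centralizer_singleton_iff.1 hu.2).symm))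
    exact mem_bot.2 (congrArg Subtype.val this)

/-- Involutions of the kernel are central in it. -/
theorem invol_central (C : OddCtx G a b) (hI : Inverted G a b) (hH : IsKernel H a) {x : G}
    (hx : orderOf x = 2) (hxH : x ∈ H) : ∀ u ∈ H, x * u = u * x := by
  classical
  haveI := C.kernel_isNilpotent hH
  haveI : Fact (Nat.Prime 2) := ⟨Nat.prime_two⟩
  obtain ⟨P⟩ := (inferInstance : Nonempty (Sylow 2 H))
  have h2 : 2 ∣ Nat.card H := hx ▸ orderOf_dvd_natCard H hxH
  have hPn : (P : Subgroup H).Normal := inferInstance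
  obtain ⟨w, hw, hw1⟩ := (Subgroup.bot_or_exists_ne_one ((P : Subgroup H) ⊓ center H)).resolve_left
    (Core.inf_center_ne_bot (P.ne_bot_of_dvd_card h2))
  obtain ⟨i, hi⟩ := IsPGroup.iff_orderOf.1 P.2 ⟨w, hw.1⟩
  rw [orderOf_mk] at hi
  obtain ⟨j, rfl⟩ : ∃ j, i = j + 1 := Nat.exists_eq_add_one_of_ne_zero fun e => hw1 (by
    rwa [e, pow_zero, orderOf_eq_one_iff] at hi)
  set z := w ^ 2 ^ j with hz
  have hzord : orderOf z = 2 := by
    rw [hz, orderOf_pow_of_dvd (by positivity) (hi ▸ pow_dvd_pow 2 (Nat.le_succ j)), hi, pow_succ,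
      Nat.mul_div_cancel_left _ (by positivity)]
  have hzc : z ∈ center H := pow_mem hw.2 _
  obtain ⟨g, hg⟩ := isConj_iff.1 (C.invol_conj hI
    ((Subgroup.orderOf_coe z).trans hzord) hx)
  have hz1 : (z : G) ≠ 1 := fun e => by
    have := (Subgroup.orderOf_coe z).trans hzord
    rw [e, orderOf_one] at this
    omega
  have hga := conj_kernel_fix hH (g := g) z.2 hz1 (by rw [hg]; exact hH.fix x hxH)
  intro u hu
  have hu' : g⁻¹ * u * g ∈ H := by
    have := hH.norm g⁻¹ (inv_smul_eq_iff.2 hga.symm) u hu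
    rwa [inv_inv] at this
  have h3 : (g⁻¹ * u * g) * (z : G) = (z : G) * (g⁻¹ * u * g) :=
    congrArg Subtype.val (mem_center_iff.1 hzc ⟨_, hu'⟩)
  rw [← hg]
  calc g * (z : G) * g⁻¹ * u = g * ((z : G) * (g⁻¹ * u * g)) * g⁻¹ := by group
    _ = g * ((g⁻¹ * u * g) * (z : G)) * g⁻¹ := by rw [h3]
    _ = u * (g * (z : G) * g⁻¹) := by group

theorem strongly_real_kernel (C : OddCtx G a b) (hI : Inverted G a b) (hH : IsKernel H a) {u x y : G}
    (hu : u ∈ H) (hu1 : u ≠ 1) (hx : orderOf x = 2) (hy : orderOf y = 2) (hxy : x * y = u) :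
    orderOf u = 2 := by
  have hx2 := sq_of_orderOf_two hx
  have hy2 := sq_of_orderOf_two hy
  have hxinv : x * u * x⁻¹ = u⁻¹ := by
    rw [← hxy, mul_inv_rev, inv_eq_of_mul_eq_one_right hx2, inv_eq_of_mul_eq_one_right hy2,
      ← mul_assoc, hx2, one_mul]
  have hxa := conj_kernel_fix hH (g := x) hu hu1 (by rw [hxinv]; exact inv_mem (hH.fix u hu))
  have hxH := C.invol_stab_mem hH hx hxa
  have hyH : y ∈ H := by
    have : y = x⁻¹ * u := by rw [← hxy, inv_mul_cancel_left]
    rw [this]; exact mul_mem (inv_mem hxH) hu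
  refine orderOf_eq_prime ?_ hu1
  have hc : x * y = y * x := C.invol_central hI hH hx hxH y hyH
  rw [pow_two, ← hxy]
  nth_rewrite 2 [hc]
  rw [mul_assoc, ← mul_assoc y y x, hy2, one_mul, hx2]

/-- Enough classes avoid the kernel. -/
theorem classes_avoiding (C : OddCtx G a b) (hI : Inverted G a b) (hH : IsKernel H a) :
    Nat.card (twoPt G a b) ≤
      Nat.card {K : ConjClasses G // ∀ g : G, ConjClasses.mk g = K → g ∉ H} := by
  classical
  haveI := Fintype.ofFinite G
  haveI : Nonempty Ω := ⟨a⟩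
  set h := Nat.card H with hh
  set e := Nat.card (twoPt G a b) with he
  set I := (Finset.univ : Finset G).filter fun x => orderOf x = 2 with hIdef
  have hIcard : I.card = if Even h then e * (h + 1) else e * h := by
    rw [← C.card_invol hI hH, Nat.card_eq_fintype_card, Fintype.card_subtype]
  set S := (Finset.univ : Finset (ConjClasses G)).filter
    fun K => ∀ g : G, ConjClasses.mk g = K → g ∉ H with hS
  have hScard : Nat.card {K : ConjClasses G // ∀ g : G, ConjClasses.mk g = K → g ∉ H} = S.card := by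
    rw [Nat.card_eq_fintype_card, Fintype.card_subtype]
  rw [hScard]
  set P := (I ×ˢ I).filter fun t => ∀ g : G, IsConj (t.1 * t.2) g → g ∉ H with hPdef
  -- at most `|G|` pairs for each class
  have hfib : ∀ K ∈ S, (P.filter fun t => ConjClasses.mk (t.1 * t.2) = K).card ≤ Nat.card G := by
    intro K hK
    obtain ⟨z0, rfl⟩ := ConjClasses.mk_surjective K
    rw [Finset.card_eq_sum_card_fiberwise (f := fun t => t.1 * t.2)
      (t := (Finset.univ : Finset G).filter fun z => IsConj z0 z) (fun t ht => by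
        simp only [Finset.coe_filter, Finset.mem_univ, true_and, Set.mem_setOf_eq] at ht ⊢
        exact (ConjClasses.mk_eq_mk_iff_isConj.1 ht.2).symm)]
    refine (Finset.sum_le_card_nsmul _ _ (Nat.card (centralizer ({z0} : Set G))) ?_).trans ?_
    · intro z hz
      obtain ⟨k, hk⟩ := isConj_iff.1 (Finset.mem_filter.1 hz).2
      rw [Nat.card_eq_fintype_card, Fintype.card_subtype]
      rcases ((P.filter fun t => ConjClasses.mk (t.1 * t.2) = ConjClasses.mk z0).filter
        fun t => t.1 * t.2 = z).eq_empty_or_nonempty with hem | ⟨t0, ht0⟩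
      · rw [hem]; exact Nat.zero_le _
      have hinv : ∀ t ∈ ((P.filter fun t => ConjClasses.mk (t.1 * t.2) = ConjClasses.mk z0).filter
          fun t => t.1 * t.2 = z), t.1 * z * t.1⁻¹ = z⁻¹ := by
        intro t ht
        simp only [hPdef, hIdef, Finset.mem_filter, Finset.mem_product, Finset.mem_univ, true_and] at ht
        rw [← ht.2, mul_inv_rev, inv_eq_of_mul_eq_one_right (sq_of_orderOf_two ht.1.1.1.1),
          inv_eq_of_mul_eq_one_right (sq_of_orderOf_two ht.1.1.1.2), ← mul_assoc,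
          sq_of_orderOf_two ht.1.1.1.1, one_mul]
      refine Finset.card_le_card_of_injOn (fun t => k⁻¹ * (t0.1⁻¹ * t.1) * k) ?_ ?_
      · intro t ht
        simp only [Finset.coe_filter, Finset.mem_univ, true_and, Set.mem_setOf_eq]
        rw [mem_centralizer_singleton_iff]
        have e1 := hinv t (Finset.mem_coe.1 ht)
        have e2 := hinv t0 ht0
        have e3 : t0.1⁻¹ * t.1 * z = z * (t0.1⁻¹ * t.1) := by
          calc t0.1⁻¹ * t.1 * z = t0.1⁻¹ * (t.1 * z * t.1⁻¹) * t.1 := by group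
            _ = t0.1⁻¹ * (t0.1 * z * t0.1⁻¹) * t.1 := by rw [e1, e2]
            _ = z * (t0.1⁻¹ * t.1) := by group
        rw [← hk] at e3
        calc k⁻¹ * (t0.1⁻¹ * t.1) * k * z0
            = k⁻¹ * (t0.1⁻¹ * t.1 * (k * z0 * k⁻¹)) * k := by group
          _ = k⁻¹ * (k * z0 * k⁻¹ * (t0.1⁻¹ * t.1)) * k := by rw [e3]
          _ = z0 * (k⁻¹ * (t0.1⁻¹ * t.1) * k) := by group
      · intro t ht t' ht' he'
        have h1 : t.1 = t'.1 := mul_left_cancel (mul_left_cancel (mul_right_cancel he'))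
        have h2 := (Finset.mem_filter.1 (Finset.mem_coe.1 ht)).2
        have h3 := (Finset.mem_filter.1 (Finset.mem_coe.1 ht')).2
        refine Prod.ext h1 ?_
        have := h2.trans h3.symm
        rw [h1] at this
        exact mul_left_cancel this
    · rw [smul_eq_mul, ← (centralizer ({z0} : Set G)).card_mul_index, mul_comm]
      refine Nat.mul_le_mul_left _ (le_of_eq ?_)
      rw [← Fintype.card_subtype, ← Nat.card_eq_fintype_card, card_isConj]
  have hPle : P.card ≤ S.card * Nat.card G := by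
    rw [Finset.card_eq_sum_card_fiberwise (f := fun t => ConjClasses.mk (t.1 * t.2)) (t := S)
      (fun t ht => by
        simp only [hPdef, hS, Finset.coe_filter, Finset.mem_univ, true_and, Set.mem_setOf_eq] at ht ⊢
        exact fun g hg => ht.2 g (ConjClasses.mk_eq_mk_iff_isConj.1 hg.symm))]
    exact (Finset.sum_le_card_nsmul _ _ _ hfib).trans_eq (smul_eq_mul _ _)
  -- the pairs left out
  set Bad := (I ×ˢ I).filter fun t => ¬ ∀ g : G, IsConj (t.1 * t.2) g → g ∉ H with hBad
  have hbad : ∀ t ∈ Bad, t.1 = t.2 ∨ (orderOf (t.1 * t.2) = 2 ∧ Even h) := by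
    intro t ht
    simp only [hBad, hIdef, Finset.mem_filter, Finset.mem_product, Finset.mem_univ, true_and] at ht
    obtain ⟨⟨hx, hy⟩, hg⟩ := ht
    push Not at hg
    obtain ⟨g, hg, hgH⟩ := hg
    obtain ⟨k, hk⟩ := isConj_iff.1 hg
    by_cases h1 : g = 1
    · left
      rw [h1] at hk
      exact (mul_eq_one_iff_eq_inv.1 (conj_eq_one_iff.1 hk)).trans
        (inv_eq_of_mul_eq_one_right (sq_of_orderOf_two hy))
    · right
      have h2 := C.strongly_real_kernel hI hH (u := g) (x := k * t.1 * k⁻¹) (y := k * t.2 * k⁻¹)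
        hgH h1 (by rw [orderOf_conj_eq, hx]) (by rw [orderOf_conj_eq, hy]) (by rw [← hk]; group)
      refine ⟨?_, even_iff_two_dvd.2 (h2 ▸ orderOf_dvd_natCard H hgH)⟩
      rw [← hk, orderOf_conj_eq] at h2
      exact h2
  have hsplit : P.card + Bad.card = I.card * I.card := by
    rw [hPdef, hBad, Finset.card_filter_add_card_filter_not, Finset.card_product]
  have hG := C.card_group hH
  rw [← hh, ← he] at hG
  have hh0 : 0 < h := Nat.card_pos
  have he0 : 0 < e := Nat.card_pos
  by_cases hev : Even h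
  · -- commuting involutions fix the same point
    rw [if_pos hev] at hIcard
    have hfix1 : ∀ x ∈ I, ∃ c : Ω, x • c = c ∧ ∀ c', x • c' = c' → c' = c := by
      intro x hx
      have h1 := C.card_fixed hH (Finset.mem_filter.1 hx).2
      rw [if_pos hev, Nat.card_eq_one_iff_exists] at h1
      obtain ⟨⟨c, hc⟩, hu⟩ := h1
      exact ⟨c, hc, fun c' hc' => congrArg Subtype.val (hu ⟨c', hc'⟩)⟩
    choose! pt hpt hptu using hfix1
    have hfib2 : ∀ c : Ω, (I.filter fun x => pt x = c).card = e := by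
      have hone : ∀ c d : Ω, (I.filter fun x => pt x = c).card ≤ (I.filter fun x => pt x = d).card := by
        intro c d
        obtain ⟨k, hk⟩ : ∃ k : G, k • c = d := by
          by_cases hcd : c = d
          · exact ⟨1, by rw [hcd, one_smul]⟩
          · obtain ⟨k, hk, -⟩ := C.zctx.two hcd (Ne.symm hcd)
            exact ⟨k, hk⟩
        refine Finset.card_le_card_of_injOn (fun x => k * x * k⁻¹) (fun x hx => ?_)
          (fun x _ y _ e => mul_left_cancel (mul_right_cancel e))
        simp only [Finset.coe_filter, Set.mem_setOf_eq] at hx ⊢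
        have hx2 : k * x * k⁻¹ ∈ I := by
          simp only [hIdef, Finset.mem_filter, Finset.mem_univ, true_and] at hx ⊢
          rw [orderOf_conj_eq, hx.1]
        refine ⟨hx2, (hptu _ hx2 d ?_).symm⟩
        rw [← hk, mul_smul, mul_smul, inv_smul_smul, ← hx.2, hpt x hx.1]
      intro c
      have hs := Finset.card_eq_sum_card_fiberwise (s := I) (f := pt)
        (t := (Finset.univ : Finset Ω)) (fun x _ => Finset.mem_univ _)
      rw [Finset.sum_congr rfl (fun d _ => le_antisymm (hone d c) (hone c d)), Finset.sum_const,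
        Finset.card_univ, smul_eq_mul, hIcard, ← Nat.card_eq_fintype_card, ← hH.card_eq C.ne,
        ← hh, mul_comm e] at hs
      exact (Nat.eq_of_mul_eq_mul_left (Nat.succ_pos h) hs).symm
    have hBadle : Bad.card ≤ I.card * e := by
      refine le_trans (Finset.card_le_card (t := (I ×ˢ I).filter fun t => pt t.2 = pt t.1) ?_) ?_
      · intro t ht
        refine Finset.mem_filter.2 ⟨(Finset.mem_filter.1 ht).1, ?_⟩
        obtain ⟨hx, hy⟩ := Finset.mem_product.1 (Finset.mem_filter.1 ht).1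
        rcases hbad t ht with heq | ⟨h2, -⟩
        · rw [heq]
        · have hc : t.1 * t.2 = t.2 * t.1 := by
            have h3 := sq_of_orderOf_two h2
            have h4 := inv_eq_of_mul_eq_one_right h3
            rw [mul_inv_rev, inv_eq_of_mul_eq_one_right (sq_of_orderOf_two (Finset.mem_filter.1 hx).2),
              inv_eq_of_mul_eq_one_right (sq_of_orderOf_two (Finset.mem_filter.1 hy).2)] at h4
            exact h4.symm
          refine hptu _ hx _ ?_
          refine hptu _ hy _ ?_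
          rw [← mul_smul, ← hc, mul_smul, hpt _ hy]
      · rw [Finset.card_eq_sum_card_fiberwise (f := Prod.fst) (t := I) (fun t ht =>
          (Finset.mem_product.1 (Finset.mem_filter.1 (Finset.mem_coe.1 ht)).1).1)]
        refine (Finset.sum_le_card_nsmul _ _ e fun x hx => ?_).trans_eq (smul_eq_mul _ _)
        rw [← hfib2 (pt x)]
        refine Finset.card_le_card_of_injOn Prod.snd (fun t ht => ?_) (fun t ht t' ht' e' => ?_)
        · simp only [Finset.coe_filter, Finset.mem_filter, Finset.mem_product, Set.mem_setOf_eq] at ht ⊢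
          exact ⟨ht.1.1.2, by rw [ht.1.2, ht.2]⟩
        · simp only [Finset.coe_filter, Set.mem_setOf_eq] at ht ht'
          exact Prod.ext (ht.2.trans ht'.2.symm) e'
    rw [hG] at hPle
    by_contra hlt
    rw [not_le] at hlt
    rw [hIcard] at hsplit hBadle
    have hk : (S.card + 1) * ((h + 1) * (h * e)) ≤ e * ((h + 1) * (h * e)) :=
      Nat.mul_le_mul_right _ hlt
    have : 0 < (h + 1) * (h * e) := by positivity
    nlinarith
  · rw [if_neg hev] at hIcard
    have hBadle : Bad.card ≤ I.card := by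
      refine Finset.card_le_card_of_injOn Prod.fst (fun t ht =>
        (Finset.mem_product.1 (Finset.mem_filter.1 (Finset.mem_coe.1 ht)).1).1) (fun t ht t' ht' e' => ?_)
      rcases hbad t (Finset.mem_coe.1 ht) with h1 | ⟨-, h1⟩
      · rcases hbad t' (Finset.mem_coe.1 ht') with h2 | ⟨-, h2⟩
        · exact Prod.ext e' (h1.symm.trans (e'.trans h2))
        · exact absurd h2 hev
      · exact absurd h1 hev
    rw [hG] at hPle
    by_contra hlt
    rw [not_le] at hlt
    rw [hIcard] at hsplit hBadle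
    have hk : (S.card + 1) * ((h + 1) * (h * e)) ≤ e * ((h + 1) * (h * e)) :=
      Nat.mul_le_mul_right _ hlt
    have h4 : e < h := C.card_lt hH
    have : 0 < h * e := by positivity
    nlinarith

end OddCtx

end Cfsg.Agent.Zassenhaus
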