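import Cfsg.Agent.Zassenhaus.Basic
import Mathlib.LinearAlgebra.Matrix.GeneralLinearGroup.Projective

/-!
A sharply triply transitive group of prime degree plus one is `PGL(2, p)`.
-/

set_option autoImplicit false
set_option linter.style.haveILetI false

namespace Cfsg.Agent.Zassenhaus

open Subgroup MulAction
open scoped OnePoint

section Inversion

variable {K : Type*} [Field K]

/-- A multiplicative involution of the units with at most two fixed points `1`, `-1` and the
relation of order three is inversion. -/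
theorem eq_inv_of_rel (ν : K → K)
    (hne : ∀ x, x ≠ 0 → ν x ≠ 0)
    (hmul : ∀ x y, x ≠ 0 → y ≠ 0 → ν (x * y) = ν x * ν y)
    (hνν : ∀ x, x ≠ 0 → ν (ν x) = x)
    (hfix : ∀ x, x ≠ 0 → ν x = x → x = 1 ∨ x = -1)
    (hrel : ∀ x, x ≠ 0 → 1 - ν x ≠ 0 → 1 - ν (1 - ν x) ≠ 0 ∧ 1 - ν (1 - ν (1 - ν x)) = x) :
    ∀ x, x ≠ 0 → ν x = x⁻¹ := by
  have hpm : ∀ x, x ≠ 0 → ν x * x = 1 ∨ ν x * x = -1 := fun x hx =>
    hfix _ (mul_ne_zero (hne x hx) hx) (by rw [hmul _ _ (hne x hx) hx, hνν x hx, mul_comm])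
  have hν1 : ν 1 = 1 := by
    have h := hmul 1 1 one_ne_zero one_ne_zero
    rw [mul_one] at h
    exact (mul_eq_right₀ (hne 1 one_ne_zero)).1 h.symm
  intro x hx
  by_contra hcon
  have hbad : ν x * x = -1 :=
    (hpm x hx).resolve_left fun h => hcon (eq_inv_of_mul_eq_one_left h)
  have hm1 : (-1 : K) ≠ 1 := fun h => hcon (eq_inv_of_mul_eq_one_left (hbad.trans h))
  have hn1 : (-1 : K) ≠ 0 := neg_ne_zero.2 one_ne_zero
  have hνm : ν (-1) = -1 := by
    have h : ν (-1) * ν (-1) = 1 := by rw [← hmul _ _ hn1 hn1, neg_one_mul, neg_neg, hν1]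
    rcases mul_self_eq_one_iff.1 h with h1 | h1
    · have h2 := hνν (-1) hn1
      rw [h1, hν1] at h2
      exact absurd h2.symm hm1
    · exact h1
  have h2ne : (2 : K) ≠ 0 := fun h => hm1 (by linear_combination -h)
  have key : ∀ x : K, x ≠ 0 → ν x * x = -1 → x * x - x - 1 = 0 := by
    intro x hx hb
    have hx1 : x + 1 ≠ 0 := fun e => by
      rw [eq_neg_of_add_eq_zero_left e, hνm] at hb
      exact hm1 (by linear_combination -hb)
    have hy : (1 - ν x) * x = x + 1 := by linear_combination -hb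
    have hy0 : 1 - ν x ≠ 0 := fun e => hx1 (by rw [← hy, e, zero_mul])
    obtain ⟨hz0, hrt⟩ := hrel x hx hy0
    set z := 1 - ν (1 - ν x) with hz
    rcases hpm _ hy0 with hc | hc
    · have h1 : z * (x + 1) = 1 := by
        rw [hz]; linear_combination (-x) * hc + (ν (1 - ν x)) * hy
      rcases hpm z hz0 with he | he
      · exfalso
        have h2 : (1 - ν z) * z = x * z := by rw [hrt]
        apply hx
        have h3 : z - 1 = x * z := by linear_combination h2 + he
        have h4 : x * 2 = 0 := by linear_combination (-(x + 1)) * h3 + (1 - x) * h1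
        exact (mul_eq_zero.1 h4).resolve_right h2ne
      · exfalso
        have h2 : (1 - ν z) * z = x * z := by rw [hrt]
        have h3 : z + 1 = x * z := by linear_combination h2 + he
        exact h2ne (by linear_combination (x + 1) * h3 + (x - 1) * h1)
    · have h1 : z * (x + 1) = 2 * x + 1 := by
        rw [hz]; linear_combination (-x) * hc + (ν (1 - ν x)) * hy
      rcases hpm z hz0 with he | he
      · exfalso
        have h2 : (1 - ν z) * z = x * z := by rw [hrt]
        have h3 : z - 1 = x * z := by linear_combination h2 + he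
        have h4 : x * x * 2 = 0 := by linear_combination (-(x + 1)) * h3 + (1 - x) * h1
        exact hx (mul_self_eq_zero.1 ((mul_eq_zero.1 h4).resolve_right h2ne))
      · have h2 : (1 - ν z) * z = x * z := by rw [hrt]
        have h3 : z + 1 = x * z := by linear_combination h2 + he
        have h4 : (x * x - x - 1) * 2 = 0 := by linear_combination (-(x + 1)) * h3 + (1 - x) * h1
        exact (mul_eq_zero.1 h4).resolve_right h2ne
  have hnx : ν (-x) * (-x) = -1 := by
    rw [← neg_one_mul x, hmul _ _ hn1 hx, hνm]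
    linear_combination hbad
  have h := key (-x) (neg_ne_zero.2 hx) hnx
  have h' := key x hx hbad
  exact hx ((mul_eq_zero.1 (show x * 2 = 0 by linear_combination h - h')).resolve_right h2ne)

end Inversion

theorem zmod_two_eq_one : ∀ y : ZMod 2, y ≠ 0 → y = 1 := by decide

section GLRep

variable (K : Type*) [Field K] [DecidableEq K]

/-- The projective line representation of `GL(2, K)`. -/
noncomputable def glRep : GL (Fin 2) K →* Equiv.Perm (OnePoint K) :=
  MulAction.toPermHom (GL (Fin 2) K) (OnePoint K)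

variable {K}

theorem glRep_apply (M : GL (Fin 2) K) (z : OnePoint K) : glRep K M z = M • z := rfl

theorem glRep_ker : (glRep K).ker = Subgroup.center (GL (Fin 2) K) := by
  ext M
  rw [MonoidHom.mem_ker, Matrix.GeneralLinearGroup.center_eq_range_scalar]
  constructor
  · intro h
    have happ : ∀ z : OnePoint K, M • z = z := fun z => DFunLike.congr_fun h z
    have h10 : M 1 0 = 0 := OnePoint.smul_infty_eq_self_iff.1 (happ ∞)
    have h11 : M 1 1 ≠ 0 := fun e => M.det_ne_zero (by rw [Matrix.det_fin_two, h10, e]; ring)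
    have hz : ∀ z : K, (M 0 0 * z + M 0 1) / M 1 1 = z := fun z => by
      have := happ (z : OnePoint K)
      rw [OnePoint.smul_some_eq_ite, h10, zero_mul, zero_add, if_neg h11, OnePoint.coe_eq_coe] at this
      exact this
    have h01 : M 0 1 = 0 := by
      have := hz 0
      rw [mul_zero, zero_add, div_eq_zero_iff] at this
      exact this.resolve_right h11
    have h00 : M 0 0 = M 1 1 := by
      have := hz 1
      rwa [mul_one, h01, add_zero, div_eq_one_iff_eq h11] at this
    refine ⟨Units.mk0 _ h11, ?_⟩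
    ext i j
    fin_cases i <;> fin_cases j <;> simp [h10, h01, h00]
  · rintro ⟨u, rfl⟩
    refine Equiv.ext fun z => ?_
    rw [glRep_apply, Equiv.Perm.one_apply]
    induction z using OnePoint.rec with
    | infty => rw [OnePoint.smul_infty_eq_self_iff]; simp
    | coe z => rw [OnePoint.smul_some_eq_ite]; simp [u.ne_zero]

end GLRep

variable {G Ω : Type*} [Group G] [MulAction G Ω]

/-- The identification. -/
theorem ZCtx.identify_pgl_prime [Finite G] [Finite Ω] (C : ZCtx G Ω) (h3 : 3 ≤ Nat.card Ω) {a b : Ω}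
    (hab : a ≠ b) {P : Subgroup G} (hF : IsKernel P a) {p : ℕ} [hp : Fact p.Prime]
    (hPc : Nat.card P = p) (hd : Nat.card (twoPt G a b) = p - 1) :
    Nonempty (G ≃* Matrix.ProjGenLinGroup (Fin 2) (ZMod p)) := by
  classical
  let e : Multiplicative (ZMod p) ≃* P :=
    mulEquivOfPrimeCardEq (p := p) (by rw [Nat.card_congr Multiplicative.toAdd, Nat.card_zmod]) hPc
  let Tr : ZMod p → G := fun c => (e (Multiplicative.ofAdd c) : P)
  let pt : ZMod p → Ω := fun x => Tr x • b
  have hTrF : ∀ c, Tr c ∈ P := fun c => (e (Multiplicative.ofAdd c)).2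
  have hTr_add : ∀ c d, Tr (c + d) = Tr c * Tr d := fun c d => by
    simp only [Tr, ofAdd_add, map_mul, Subgroup.coe_mul]
  have hTr0 : Tr 0 = 1 := by simp only [Tr, ofAdd_zero, map_one, OneMemClass.coe_one]
  have hTra : ∀ c, Tr c • a = a := fun c => hF.fix _ (hTrF c)
  have hTrpt : ∀ c x, Tr c • pt x = pt (x + c) := fun c x => by
    show Tr c • Tr x • b = Tr (x + c) • b
    rw [← mul_smul, ← hTr_add, add_comm]
  have hpt0 : pt 0 = b := by show Tr 0 • b = b; rw [hTr0, one_smul]
  have hTrb : ∀ c, Tr c • b = pt c := fun _ => rfl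
  have hptne : ∀ x, pt x ≠ a := fun x => hF.smul_ne (hTrF x) (Ne.symm hab)
  have hptinj : Function.Injective pt := fun x y h =>
    Multiplicative.ofAdd.injective (e.injective (Subtype.ext
      (hF.eq_of_smul (hTrF x) (hTrF y) (Ne.symm hab) h)))
  have hptsurj : ∀ z : Ω, z ≠ a → ∃ x, pt x = z := fun z hz => by
    obtain ⟨u, hu, -⟩ := hF.reg b z (Ne.symm hab) hz
    refine ⟨(e.symm u).toAdd, ?_⟩
    show ((e (Multiplicative.ofAdd (e.symm u).toAdd) : P) : G) • b = z
    rw [ofAdd_toAdd, MulEquiv.apply_symm_apply]; exact hu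
  have hpt1b : pt 1 ≠ b := fun h => one_ne_zero (hptinj (h.trans hpt0.symm))
  -- the two-point stabiliser as scalars
  have hμex : ∀ h : twoPt G a b, ∃ m : ZMod p, ∀ x, (h : G) • pt x = pt (m * x) := fun h => by
    let f : ZMod p →+ ZMod p :=
      { toFun := fun c => (e.symm (hF.act h (e (Multiplicative.ofAdd c)))).toAdd
        map_zero' := by simp
        map_add' := fun c d => by simp [ofAdd_add] }
    refine ⟨f 1, fun x => ?_⟩
    have hlin : f x = f 1 * x := by
      obtain ⟨i, rfl⟩ := ZMod.intCast_surjective x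
      rw [← zsmul_one, map_zsmul, zsmul_eq_mul, zsmul_one, mul_comm]
    rw [← hlin]
    show (h : G) • Tr x • b = _
    rw [← hF.act_smul]
    show ((hF.act h (e (Multiplicative.ofAdd x)) : P) : G) • b =
      ((e (Multiplicative.ofAdd (e.symm (hF.act h (e (Multiplicative.ofAdd x)))).toAdd) : P) : G) • b
    rw [ofAdd_toAdd, MulEquiv.apply_symm_apply]
  choose μ hμ using hμex
  have hμ1 : ∀ h : twoPt G a b, (h : G) • pt 1 = pt (μ h) := fun h => by rw [hμ, mul_one]
  have hμmul : ∀ h k, μ (h * k) = μ h * μ k := fun h k => hptinj (by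
    rw [← hμ1, Subgroup.coe_mul, mul_smul, hμ1, hμ])
  have hμinj : Function.Injective μ := fun h k hk => by
    refine Subtype.ext (inv_mul_eq_one.1 (C.eq_one hab (h⁻¹ * k : twoPt G a b).2 (hptne 1) hpt1b ?_))
    show ((h : G)⁻¹ * k) • pt 1 = pt 1
    rw [mul_smul, inv_smul_eq_iff, hμ1, hμ1, hk]
  have hμne : ∀ h, μ h ≠ 0 := fun h e0 => hab (by
    have h1 := hμ1 h
    rw [e0, hpt0] at h1
    exact absurd (MulAction.injective (h : G) (h1.trans h.2.2.symm)) hpt1b)
  have hμsurj : ∀ x : ZMod p, x ≠ 0 → ∃ h, μ h = x := fun x hx => by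
    have hinj' : Function.Injective (fun h : twoPt G a b => Units.mk0 (μ h) (hμne h)) :=
      fun h k e' => hμinj (congrArg Units.val e')
    obtain ⟨h, hh⟩ := (hinj'.bijective_of_nat_card_le (by
      rw [Nat.card_eq_fintype_card, ZMod.card_units p, hd])).2 (Units.mk0 x hx)
    exact ⟨h, congrArg Units.val hh⟩
  -- a normalised swapper
  obtain ⟨s, hsa, hsb, hs1⟩ : ∃ s : G, s • a = b ∧ s • b = a ∧ s • pt 1 = pt 1 := by
    obtain ⟨s₀, hs₀a, hs₀b⟩ := C.two hab (Ne.symm hab)
    obtain ⟨k, hk⟩ : ∃ k, pt k = s₀ • pt 1 := hptsurj _ fun h =>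
      hpt1b (MulAction.injective s₀ (h.trans hs₀b.symm))
    have hk0 : k ≠ 0 := fun h => by
      rw [h, hpt0] at hk
      exact hptne 1 (MulAction.injective s₀ (hk.symm.trans hs₀a.symm))
    obtain ⟨h, hh⟩ := hμsurj k⁻¹ (inv_ne_zero hk0)
    exact ⟨(h : G) * s₀, by rw [mul_smul, hs₀a]; exact h.2.2, by rw [mul_smul, hs₀b]; exact h.2.1,
      by rw [mul_smul, ← hk, hμ, hh, inv_mul_cancel₀ hk0]⟩
  have hss : s * s = 1 := C.three _ a b (pt 1) hab (Ne.symm hpt1b) (Ne.symm (hptne 1))
    (by rw [mul_smul, hsa, hsb]) (by rw [mul_smul, hsb, hsa]) (by rw [mul_smul, hs1, hs1])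
  have hs2 : ∀ z : Ω, s • s • z = z := fun z => by rw [← mul_smul, hss, one_smul]
  have hνex : ∀ x : ZMod p, ∃ y : ZMod p, x ≠ 0 → pt y = s • pt x := fun x => by
    by_cases hx : x = 0
    · exact ⟨0, fun h => absurd hx h⟩
    · obtain ⟨y, hy⟩ := hptsurj (s • pt x) fun h => hx (hptinj
        ((MulAction.injective s (h.trans hsb.symm)).trans hpt0.symm))
      exact ⟨y, fun _ => hy⟩
  choose ν hν using hνex
  have hνne : ∀ x, x ≠ 0 → ν x ≠ 0 := fun x hx h => by
    have := hν x hx
    rw [h, hpt0, ← hsa] at this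
    exact hptne x (MulAction.injective s this).symm
  have hνν : ∀ x, x ≠ 0 → ν (ν x) = x := fun x hx => hptinj (by
    rw [hν _ (hνne x hx), hν x hx, hs2])
  have hν1 : ν 1 = 1 := hptinj (by rw [hν 1 one_ne_zero, hs1])
  have hνmul : ∀ x y, x ≠ 0 → y ≠ 0 → ν (x * y) = ν x * ν y := fun x y hx hy => by
    obtain ⟨h, rfl⟩ := hμsurj x hx
    have hmem : s * (h : G) * s⁻¹ ∈ twoPt G a b := by
      have e1 : s⁻¹ = s := inv_eq_of_mul_eq_one_right hss
      rw [e1]
      exact ⟨by show (s * (h : G) * s) • a = a; rw [mul_smul, mul_smul, hsa, h.2.2, hsb],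
        by show (s * (h : G) * s) • b = b; rw [mul_smul, mul_smul, hsb, h.2.1, hsa]⟩
    have key : ∀ z : ZMod p, z ≠ 0 → ν (μ h * z) = μ ⟨_, hmem⟩ * ν z := fun z hz => hptinj (by
      rw [hν _ (mul_ne_zero (hμne h) hz), ← hμ, ← hμ, hν z hz]
      show s • (h : G) • pt z = (s * (h : G) * s⁻¹) • s • pt z
      rw [mul_smul, mul_smul, inv_smul_smul])
    have h1 := key 1 one_ne_zero
    rw [mul_one, hν1, mul_one] at h1
    rw [key y hy, h1]
  have hfix : ∀ x, x ≠ 0 → ν x = x → x = 1 ∨ x = -1 := by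
    intro x hx hfx
    by_contra hcon
    rw [not_or] at hcon
    have hn1 : (-1 : ZMod p) ≠ 0 := neg_ne_zero.2 one_ne_zero
    by_cases hm : (-1 : ZMod p) = 1
    · -- characteristic two
      have h2 : p = 2 := by
        have h : ((2 : ℕ) : ZMod p) = 0 := by push_cast; linear_combination -hm
        rw [ZMod.natCast_eq_zero_iff] at h
        exact (Nat.prime_dvd_prime_iff_eq hp.out Nat.prime_two).1 h
      subst h2
      exact hcon.1 (zmod_two_eq_one x hx)
    have hνm : ν (-1) = -1 := by
      have h : ν (-1) * ν (-1) = 1 := by rw [← hνmul _ _ hn1 hn1, neg_one_mul, neg_neg, hν1]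
      rcases mul_self_eq_one_iff.1 h with h1 | h1
      · have h2 := hνν (-1) hn1
        rw [h1, hν1] at h2
        exact absurd h2.symm hm
      · exact h1
    have hs : s = 1 := C.three s (pt 1) (pt (-1)) (pt x) (fun e' => hm (hptinj e').symm)
      (fun e' => hcon.2 (hptinj e').symm) (fun e' => hcon.1 (hptinj e').symm) hs1
      (by rw [← hν _ hn1, hνm]) (by rw [← hν x hx, hfx])
    rw [hs, one_smul] at hsa
    exact hab hsa
  obtain ⟨hm, hhm⟩ := hμsurj (-1) (neg_ne_zero.2 one_ne_zero)
  obtain ⟨r, hr⟩ : ∃ r, r = Tr 1 * ((hm : G) * s) := ⟨_, rfl⟩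
  have hra : r • a = pt 1 := by rw [hr, mul_smul, mul_smul, hsa, show (hm : G) • b = b from hm.2.2, hTrb]
  have hrb : r • b = a := by rw [hr, mul_smul, mul_smul, hsb, show (hm : G) • a = a from hm.2.1, hTra]
  have hrx : ∀ x, x ≠ 0 → r • pt x = pt (1 - ν x) := fun x hx => by
    rw [hr, mul_smul, mul_smul, ← hν x hx, hμ, hhm, hTrpt]
    ring_nf
  have hr1 : r • pt 1 = b := by rw [hrx 1 one_ne_zero, hν1, sub_self, hpt0]
  have hr3 : ∀ z : Ω, r • r • r • z = z := by
    have h : r * (r * r) = 1 := C.three _ a b (pt 1) hab (Ne.symm hpt1b) (Ne.symm (hptne 1))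
      (by rw [mul_smul, mul_smul, hra, hr1, hrb]) (by rw [mul_smul, mul_smul, hrb, hra, hr1])
      (by rw [mul_smul, mul_smul, hr1, hrb, hra])
    intro z
    rw [← mul_smul r r z, ← mul_smul, h, one_smul]
  have hinv : ∀ x, x ≠ 0 → ν x = x⁻¹ := eq_inv_of_rel ν hνne hνmul hνν hfix fun x hx hy => by
    have hz : 1 - ν (1 - ν x) ≠ 0 := fun h => by
      have h2 := hr3 (pt x)
      rw [hrx x hx, hrx _ hy, h, hpt0, hrb] at h2
      exact hptne x h2.symm
    refine ⟨hz, hptinj ?_⟩
    rw [← hrx _ hz, ← hrx _ hy, ← hrx x hx, hr3]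
  have hs_formula : ∀ z : ZMod p, z ≠ 0 → s • pt z = pt z⁻¹ := fun z hz => by
    rw [← hν z hz, hinv z hz]
  -- the representation on the projective line
  let E : OnePoint (ZMod p) ≃ Ω := Equiv.ofBijective (fun o => OnePoint.elim o a pt)
    ⟨by
      intro x y h
      induction x using OnePoint.rec <;> induction y using OnePoint.rec
      · rfl
      · exact absurd h.symm (hptne _)
      · exact absurd h (hptne _)
      · exact congrArg _ (hptinj h),
    fun z => by
      by_cases hz : z = a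
      · exact ⟨OnePoint.infty, hz.symm⟩
      · obtain ⟨x, hx⟩ := hptsurj z hz
        exact ⟨(x : OnePoint (ZMod p)), hx⟩⟩
  let ρ : G →* Equiv.Perm (OnePoint (ZMod p)) :=
    { toFun := fun g => E.trans ((MulAction.toPerm g).trans E.symm)
      map_one' := by ext z; simp
      map_mul' := fun g h => by ext z; simp [mul_smul] }
  have hρ : ∀ g z, ρ g z = E.symm (g • E z) := fun _ _ => rfl
  have hEi : E (OnePoint.infty) = a := rfl
  have hEc : ∀ x : ZMod p, E (x : OnePoint (ZMod p)) = pt x := fun _ => rfl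
  have hρi : Function.Injective ρ := by
    rw [injective_iff_map_eq_one]
    intro g hg
    refine C.faithful h3 fun z => ?_
    obtain ⟨w, rfl⟩ := E.surjective z
    have := congrArg (fun σ : Equiv.Perm (OnePoint (ZMod p)) => E (σ w)) hg
    simpa [hρ] using this
  let W : GL (Fin 2) (ZMod p) :=
    Matrix.GeneralLinearGroup.mkOfDetNeZero !![0, 1; 1, 0] (by simp [Matrix.det_fin_two_of])
  let Af : ∀ (l c : ZMod p), l ≠ 0 → GL (Fin 2) (ZMod p) := fun l c hl =>
    Matrix.GeneralLinearGroup.mkOfDetNeZero !![l, c; 0, 1] (by simp [Matrix.det_fin_two_of, hl])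
  have hAf : ∀ (k : twoPt G a b) (c : ZMod p),
      ρ (Tr c * k) = glRep (ZMod p) (Af (μ k) c (hμne k)) := fun k c => by
    refine Equiv.ext fun z => ?_
    rw [hρ, Equiv.symm_apply_eq, glRep_apply]
    induction z using OnePoint.rec with
    | infty =>
      rw [OnePoint.smul_infty_eq_ite, mul_smul]
      simp [Af, hEi, show (k : G) • a = a from k.2.1, hTra]
    | coe z =>
      rw [OnePoint.smul_some_eq_ite, mul_smul]
      simp [Af, hEc, hμ, hTrpt]
  have hρs : ρ s = glRep (ZMod p) W := by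
    refine Equiv.ext fun z => ?_
    rw [hρ, Equiv.symm_apply_eq, glRep_apply]
    induction z using OnePoint.rec with
    | infty =>
      rw [OnePoint.smul_infty_eq_ite]
      simp [W, hEi, hEc, hpt0, hsa]
    | coe z =>
      rw [OnePoint.smul_some_eq_ite]
      by_cases hz : z = 0
      · subst hz; simp [W, hEi, hEc, hpt0, hsb]
      · simp [W, hz, hEc, hs_formula z hz]
  have hrange : ρ.range = (glRep (ZMod p)).range := by
    have hA : ∀ g : G, g • a = a → ρ g ∈ (glRep (ZMod p)).range := by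
      intro g hga
      obtain ⟨c, hc⟩ := hptsurj (g • b) fun h => hab (MulAction.injective g (hga.trans h.symm))
      have hmem : (Tr c)⁻¹ * g ∈ twoPt G a b :=
        ⟨by show ((Tr c)⁻¹ * g) • a = a; rw [mul_smul, hga, inv_smul_eq_iff, hTra],
          by show ((Tr c)⁻¹ * g) • b = b; rw [mul_smul, inv_smul_eq_iff, hTrb, hc]⟩
      exact ⟨_, (hAf ⟨_, hmem⟩ c).symm.trans (by rw [mul_inv_cancel_left])⟩
    refine le_antisymm ?_ ?_
    · rintro _ ⟨g, rfl⟩
      by_cases hga : g • a = a
      · exact hA g hga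
      obtain ⟨x, hx⟩ := hptsurj _ hga
      have hfix' : (s * (Tr x)⁻¹ * g) • a = a := by
        rw [mul_smul, mul_smul, ← hx, ← hTrb, inv_smul_smul, hsb]
      have h1 := mul_mem (mul_mem (hA (Tr x) (hTra x)) (inv_mem (show ρ s ∈ (glRep (ZMod p)).range from
        ⟨_, hρs.symm⟩))) (hA _ hfix')
      rwa [← map_inv, ← map_mul, ← map_mul,
        show Tr x * s⁻¹ * (s * (Tr x)⁻¹ * g) = g by group] at h1
    · have hB : ∀ M : GL (Fin 2) (ZMod p), M • (∞ : OnePoint (ZMod p)) = ∞ →
          glRep (ZMod p) M ∈ ρ.range := by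
        intro M hM
        rw [OnePoint.smul_infty_eq_self_iff] at hM
        have h11 : M 1 1 ≠ 0 := fun e => M.det_ne_zero (by rw [Matrix.det_fin_two, hM, e]; ring)
        have h00 : M 0 0 ≠ 0 := fun e => M.det_ne_zero (by rw [Matrix.det_fin_two, hM, e]; ring)
        obtain ⟨k, hk⟩ := hμsurj (M 0 0 / M 1 1) (div_ne_zero h00 h11)
        refine ⟨Tr (M 0 1 / M 1 1) * (k : G), ?_⟩
        rw [hAf]
        refine Equiv.ext fun z => ?_
        rw [glRep_apply, glRep_apply]
        induction z using OnePoint.rec with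
        | infty => simp [OnePoint.smul_infty_eq_ite, Af, hM]
        | coe z =>
          simp [OnePoint.smul_some_eq_ite, Af, hM, hk, h11, div_mul_eq_mul_div, ← add_div]
      rintro _ ⟨M, rfl⟩
      by_cases hM : M • (∞ : OnePoint (ZMod p)) = ∞
      · exact hB M hM
      obtain ⟨x, hx⟩ : ∃ x : ZMod p, M • (∞ : OnePoint (ZMod p)) = (x : OnePoint (ZMod p)) := by
        generalize M • (∞ : OnePoint (ZMod p)) = o at hM
        induction o using OnePoint.rec with
        | infty => exact absurd rfl hM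
        | coe x => exact ⟨x, rfl⟩
      obtain ⟨k1, hk1⟩ := hμsurj 1 one_ne_zero
      set A := Af (μ k1) (-x) (hμne k1) with hA'
      have hfix' : (W * A * M) • (∞ : OnePoint (ZMod p)) = ∞ := by
        rw [mul_smul, mul_smul, hx, OnePoint.smul_some_eq_ite]
        simp [hA', Af, hk1, OnePoint.smul_some_eq_ite, W]
      have h1 := mul_mem (inv_mem (show glRep (ZMod p) (W * A) ∈ ρ.range
        from ⟨s * (Tr (-x) * k1), by rw [map_mul, map_mul (glRep (ZMod p)), hρs, hAf]⟩)) (hB _ hfix')
      rwa [← map_inv, ← map_mul, inv_mul_cancel_left] at h1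
  exact ⟨(MonoidHom.ofInjective hρi).trans ((MulEquiv.subgroupCongr hrange).trans
    ((QuotientGroup.quotientKerEquivRange (glRep (ZMod p))).symm.trans
      (QuotientGroup.quotientMulEquivOfEq (glRep_ker (K := ZMod p)))))⟩

end Cfsg.Agent.Zassenhaus
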