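import Cfsg.Agent.Zassenhaus.EvenSharp
import Cfsg.Agent.AutPSL.Structure
import Cfsg.Prelude.Def_Perm
import Mathlib.NumberTheory.Fermat

/-!
A group of degree `p + 1` with a kernel of order `p` and a regular normal subgroup is semi-affine
over the field with `p + 1 = 2 ^ q` elements.
-/

set_option autoImplicit false
set_option linter.style.haveILetI false

namespace Cfsg.Agent.Zassenhaus

open Subgroup MulAction

variable {G Ω : Type*} [Group G] [MulAction G Ω]

/-- The semi-affine coordinates. -/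
theorem ZCtx.semiaffine_prime [Finite G] [Finite Ω] (C : ZCtx G Ω) {a b : Ω} (hab : a ≠ b)
    {P : Subgroup G} (hF : IsKernel P a) {p : ℕ} [hp : Fact p.Prime] (hp2 : p ≠ 2)
    (hPc : Nat.card P = p) (N : Subgroup G) [hNn : N.Normal] [hNt : IsPretransitive N Ω]
    (hNr : ∀ x : Ω, stabilizer N x = ⊥) :
    ∃ q : ℕ, q.Prime ∧ p + 1 = 2 ^ q ∧ Nat.card (twoPt G a b) ∣ q ∧
      ∃ e : Ω ≃ GaloisField 2 q, ∀ g : G, ∃ (u : (GaloisField 2 q)ˣ) (c : GaloisField 2 q)
        (φ : GaloisField 2 q ≃+* GaloisField 2 q),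
          ∀ x, e (g • e.symm x) = (u : GaloisField 2 q) * φ x + c := by
  classical
  have h2 := hp.out.two_le
  have hΩ : Nat.card Ω = p + 1 := by rw [← hF.card_eq hab, hPc]
  have hinjN : ∀ (n m : N) (x : Ω), (n : G) • x = (m : G) • x → n = m := fun n m x e => by
    have h : m⁻¹ * n ∈ stabilizer N x := by
      show ((m : G)⁻¹ * (n : G)) • x = x
      rw [mul_smul, e, inv_smul_smul]
    rw [hNr, mem_bot, inv_mul_eq_one] at h
    exact h.symm
  let φN : N → Ω := fun n => (n : G) • a
  have hφN : Function.Bijective φN :=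
    ⟨fun n m e => hinjN n m a e, fun x => by
      obtain ⟨n, hn⟩ := exists_smul_eq N a x
      exact ⟨n, hn⟩⟩
  have hNc : Nat.card N = p + 1 := by rw [Nat.card_eq_of_bijective φN hφN, hΩ]
  -- the conjugation by the point stabiliser
  let ψL : stabilizer G a →* MulAut N := (MulAut.conjNormal (H := N)).comp (stabilizer G a).subtype
  have hψ : ∀ (l : stabilizer G a) (n : N), φN (ψL l n) = (l : G) • φN n := fun l n => by
    show (((MulAut.conjNormal (l : G)) n : N) : G) • a = _
    rw [MulAut.conjNormal_apply, mul_smul, mul_smul, inv_smul_eq_iff.2 l.2.symm]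
  let ι : P →* stabilizer G a := Subgroup.inclusion fun u hu => hF.fix u hu
  let ψ : P →* MulAut N := ψL.comp ι
  have hne : ∀ {n : N}, n ≠ 1 → φN n ≠ a := fun {n} hn e => hn (hinjN n 1 a (by
    show (n : G) • a = (1 : G) • a
    rw [one_smul]; exact e))
  have hfpf : ∀ u : P, u ≠ 1 → ∀ n : N, ψ u n = n → n = 1 := by
    intro u hu n hn
    by_contra hn1
    refine hu (Subtype.ext (hF.eq_one_of_fix u.2 (hne hn1) ?_))
    show (ι u : G) • φN n = φN n
    rw [← hψ]; exact congrArg φN hn
  have htr : ∀ n m : N, n ≠ 1 → m ≠ 1 → ∃ u : P, ψ u n = m := by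
    intro n m hn hm
    obtain ⟨u, hu, -⟩ := hF.reg (φN n) (φN m) (hne hn) (hne hm)
    exact ⟨u, hφN.1 ((hψ (ι u) n).trans hu)⟩
  -- `N` is elementary abelian
  haveI : Fact (Nat.Prime 2) := ⟨Nat.prime_two⟩
  obtain ⟨t, ht⟩ := exists_prime_orderOf_dvd_card' (G := N) 2 (by
    rw [hNc]
    have hpo : Odd p := hp.out.odd_of_ne_two hp2
    obtain ⟨j, hj⟩ := hpo
    exact ⟨j + 1, by omega⟩)
  have hsq : ∀ n : N, n ^ 2 = 1 := by
    intro n
    by_cases hn : n = 1
    · rw [hn, one_pow]
    obtain ⟨u, rfl⟩ := htr t n (fun e => by rw [e, orderOf_one] at ht; omega) hn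
    rw [← map_pow, ← ht, pow_orderOf_eq_one, map_one]
  have hNg : IsPGroup 2 N := fun n => ⟨1, by rw [pow_one]; exact hsq n⟩
  letI : CommGroup N := { (inferInstance : Group N) with
    mul_comm := fun x y => by
      have h := hsq (x * y)
      rw [pow_two] at h
      have hx := inv_eq_of_mul_eq_one_right (show x * x = 1 by rw [← pow_two, hsq])
      have hy := inv_eq_of_mul_eq_one_right (show y * y = 1 by rw [← pow_two, hsq])
      have hxy := inv_eq_of_mul_eq_one_right h
      rw [mul_inv_rev, hx, hy] at hxy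
      exact hxy.symm }
  haveI : Nontrivial N := Finite.one_lt_card_iff_nontrivial.1 (by omega)
  obtain ⟨K, iK, iFK, e₀, μ₀, hcard, hinj₀, hμ₀, hne₀, hsurj₀⟩ :=
    exists_field_model_transitive (H := P) (F := N) hNg ψ hfpf
      (fun u v => by
        haveI := isCyclic_of_prime_card hPc
        letI := IsCyclic.commGroup (α := P)
        exact mul_comm u v) htr
  obtain ⟨q, hq⟩ := IsPGroup.iff_card.1 hNg
  rw [hNc] at hq
  have hqprime : q.Prime := by
    refine (Nat.prime_of_pow_sub_one_prime (a := 2) (fun h1 => ?_) ?_).2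
    · rw [h1] at hq; omega
    · rw [← hq, Nat.add_sub_cancel]; exact hp.out
  refine ⟨q, hqprime, hq, ?_⟩
  haveI : Fintype (GaloisField 2 q) := Fintype.ofFinite _
  have hKq : Fintype.card (GaloisField 2 q) = 2 ^ q := by
    rw [← Nat.card_eq_fintype_card, GaloisField.card 2 q hqprime.ne_zero]
  let iso : K ≃+* GaloisField 2 q :=
    FiniteField.ringEquivOfCardEq (by rw [hKq, hcard, hNc, hq])
  let eN : Additive N ≃+ GaloisField 2 q := e₀.trans iso.toAddEquiv
  let μ : P → GaloisField 2 q := fun u => iso (μ₀ u)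
  have hμ : ∀ (u : P) (n : N), eN (Additive.ofMul (ψ u n)) = μ u * eN (Additive.ofMul n) := fun u n => by
    show iso (e₀ _) = iso _ * iso (e₀ _)
    rw [hμ₀, map_mul]
  have hsurj : ∀ z : GaloisField 2 q, z ≠ 0 → ∃ u, μ u = z := fun z hz => by
    obtain ⟨u, hu⟩ := hsurj₀ (iso.symm z) (by simpa using hz)
    exact ⟨u, by show iso (μ₀ u) = z; rw [hu, RingEquiv.apply_symm_apply]⟩
  -- semilinearity of the point stabiliser
  let η : stabilizer G a → (GaloisField 2 q ≃+ GaloisField 2 q) := fun l =>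
    eN.symm.trans ((MulEquiv.toAdditive (ψL l)).trans eN)
  have hη : ∀ (l : stabilizer G a) (n : N),
      η l (eN (Additive.ofMul n)) = eN (Additive.ofMul (ψL l n)) := fun l n => by
    show eN ((MulEquiv.toAdditive (ψL l)) (eN.symm (eN (Additive.ofMul n)))) = _
    rw [AddEquiv.symm_apply_apply]
    rfl
  have hηcomp : ∀ (l k : stabilizer G a) (z : GaloisField 2 q), η (l * k) z = η l (η k z) := by
    intro l k z
    obtain ⟨n, rfl⟩ := eN.surjective z
    obtain ⟨n, rfl⟩ := Additive.ofMul.surjective n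
    rw [hη, hη, hη, map_mul]; rfl
  have hη1 : ∀ l, η l 1 ≠ 0 := fun l h => one_ne_zero ((η l).injective (h.trans (map_zero (η l)).symm))
  have hconj : ∀ (l : stabilizer G a) (u : P), ∃ u' : P, ∀ z : GaloisField 2 q,
      η l (μ u * z) = μ u' * η l z := by
    intro l u
    refine ⟨⟨(l : G) * u * (l : G)⁻¹, hF.norm _ l.2 _ u.2⟩, fun z => ?_⟩
    obtain ⟨n, rfl⟩ := eN.surjective z
    obtain ⟨n, rfl⟩ := Additive.ofMul.surjective n
    rw [← hμ, hη, hη, ← hμ]
    congr 2
    show ψL l (ψL (ι u) n) = ψL (ι _) (ψL l n)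
    rw [← MulAut.mul_apply, ← map_mul, ← MulAut.mul_apply, ← map_mul]
    congr 2
    refine Subtype.ext ?_
    show (l : G) * u = (l : G) * u * (l : G)⁻¹ * l
    rw [inv_mul_cancel_right]
  have hmulφ : ∀ (l : stabilizer G a) (x y : GaloisField 2 q),
      η l (x * y) * η l 1 = η l x * η l y := by
    intro l x y
    by_cases hx : x = 0
    · rw [hx, zero_mul, map_zero, zero_mul, zero_mul]
    obtain ⟨u, rfl⟩ := hsurj x hx
    obtain ⟨u', hu'⟩ := hconj l u
    have h1 := hu' 1
    rw [mul_one] at h1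
    rw [hu', h1]
    ring
  have hσex : ∀ l : stabilizer G a, ∃ φ : GaloisField 2 q ≃+* GaloisField 2 q,
      ∀ z, η l z = η l 1 * φ z := fun l =>
    ⟨{ toFun := fun z => (η l 1)⁻¹ * η l z
       invFun := fun z => (η l).symm (η l 1 * z)
       left_inv := fun z => by simp only; rw [mul_inv_cancel_left₀ (hη1 l), AddEquiv.symm_apply_apply]
       right_inv := fun z => by simp only; rw [AddEquiv.apply_symm_apply, inv_mul_cancel_left₀ (hη1 l)]
       map_mul' := fun x y => by
         have h := hmulφ l x y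
         field_simp [hη1 l]
         linear_combination h
       map_add' := fun x y => by rw [map_add, mul_add] },
      fun z => (mul_inv_cancel_left₀ (hη1 l) _).symm⟩
  choose σ hσ using hσex
  constructor
  · -- the order of the two-point stabiliser
    let Φ : twoPt G a b →* (GaloisField 2 q ≃+* GaloisField 2 q) :=
      MonoidHom.mk' (fun h => σ ⟨h, h.2.1⟩) fun h k => RingEquiv.ext fun z => by
        show σ _ z = σ ⟨(h : G), h.2.1⟩ (σ ⟨(k : G), k.2.1⟩ z)
        set l : stabilizer G a := ⟨(h : G), h.2.1⟩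
        set l' : stabilizer G a := ⟨(k : G), k.2.1⟩
        have e1 := hσ (l * l') z
        have e2 : ∀ z, η (l * l') z = η l 1 * (σ l (η l' 1) * σ l (σ l' z)) := fun z => by
          rw [hηcomp, hσ l, hσ l' z, map_mul]
        rw [e2 z, e2 1, map_one (σ l'), map_one (σ l), mul_one, mul_assoc] at e1
        have h1 : σ l (η l' 1) ≠ 0 := fun e => hη1 l' ((σ l).injective (e.trans (map_zero (σ l)).symm))
        exact (mul_left_cancel₀ h1 (mul_left_cancel₀ (hη1 l) e1)).symm
    have hΦ : Function.Injective Φ := by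
      rw [injective_iff_map_eq_one]
      intro h hh
      set l : stabilizer G a := ⟨(h : G), h.2.1⟩
      have hh' : σ l = 1 := hh
      obtain ⟨nb, hnb⟩ := hφN.2 b
      have hnb1 : nb ≠ 1 := fun e => hab (by rw [← hnb, e]; exact (one_smul G a).symm)
      set w := eN (Additive.ofMul nb)
      have hw : w ≠ 0 := fun e => hnb1 (Additive.ofMul.injective (eN.injective (e.trans (map_zero eN).symm)))
      have hfixnb : ψL l nb = nb := hφN.1 (by rw [hψ, hnb]; exact h.2.2)
      have h1 : η l 1 = 1 := by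
        have h2 := hσ l w
        rw [hη, hfixnb, hh'] at h2
        exact mul_right_cancel₀ hw (h2.symm.trans (one_mul w).symm)
      obtain ⟨c, hca, hcb⟩ := exists_third (by rw [hΩ]; omega) a b
      obtain ⟨nc, hnc⟩ := hφN.2 c
      refine Subtype.ext (C.eq_one hab h.2 hca hcb ?_)
      rw [← hnc]
      show (l : G) • φN nc = φN nc
      rw [← hψ]
      congr 1
      refine Additive.ofMul.injective (eN.injective ?_)
      rw [← hη, hσ, h1, hh', one_mul]
      rfl
    haveI : Finite (GaloisField 2 q ≃+* GaloisField 2 q) :=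
      Finite.of_injective (fun e : GaloisField 2 q ≃+* GaloisField 2 q =>
        (e : GaloisField 2 q → GaloisField 2 q)) DFunLike.coe_injective
    rw [← (AutPSL.card_gal (p := 2) hqprime.one_lt.le hKq).2]
    exact card_dvd_of_injective Φ hΦ
  let E : Ω ≃ GaloisField 2 q :=
    ((Equiv.ofBijective φN hφN).symm.trans Additive.ofMul).trans eN.toEquiv
  have hE : ∀ n : N, E (φN n) = eN (Additive.ofMul n) := fun n => by
    show eN (Additive.ofMul ((Equiv.ofBijective φN hφN).symm (φN n))) = _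
    rw [Equiv.ofBijective_symm_apply_apply]
  refine ⟨E, fun g => ?_⟩
  obtain ⟨n₀, hn₀⟩ := hφN.2 (g • a)
  have hl : ((n₀ : G)⁻¹ * g) • a = a := by rw [mul_smul, inv_smul_eq_iff]; exact hn₀.symm
  refine ⟨Units.mk0 _ (hη1 ⟨_, hl⟩), eN (Additive.ofMul n₀), σ ⟨_, hl⟩, fun x => ?_⟩
  obtain ⟨n, rfl⟩ := eN.surjective x
  obtain ⟨n, rfl⟩ := Additive.ofMul.surjective n
  rw [show E.symm (eN (Additive.ofMul n)) = φN n from E.symm_apply_eq.2 (hE n).symm]
  have : g • φN n = φN (n₀ * ψL ⟨_, hl⟩ n) := by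
    show g • φN n = ((n₀ : G) * (ψL ⟨_, hl⟩ n : N)) • a
    rw [mul_smul]
    show _ = (n₀ : G) • φN (ψL ⟨_, hl⟩ n)
    rw [hψ]
    show _ = (n₀ : G) • ((n₀ : G)⁻¹ * g) • φN n
    rw [mul_smul ((n₀ : G)⁻¹) g, smul_inv_smul]
  rw [this, hE, ofMul_mul, map_add, ← hη, hσ, Units.val_mk0, add_comm]

end Cfsg.Agent.Zassenhaus
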