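import Cfsg.Agent.Zassenhaus.Basic

/-!
A transitive group of degree `p + 1` and order `(p + 1) p d`, `d < p`: doubly transitive, only the
identity fixes three points, and the point stabiliser has a normal subgroup of order `p`.
-/

set_option autoImplicit false
set_option linter.style.haveILetI false

namespace Cfsg.Agent.Zassenhaus

open Subgroup MulAction

variable {G Ω : Type*} [Group G] [MulAction G Ω]

/-- The data of a transitive group of degree `p + 1` of small order. -/
theorem exists_prime_setup [Finite G] [Finite Ω] [FaithfulSMul G Ω] [IsPretransitive G Ω]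
    {p d : ℕ} (hp : p.Prime) (hΩ : Nat.card Ω = p + 1) (hG : Nat.card G = (p + 1) * p * d)
    (hd : d < p) :
    ∃ (a b : Ω) (P : Subgroup G), ZCtx G Ω ∧ a ≠ b ∧ IsKernel P a ∧ Nat.card P = p ∧
      Nat.card (twoPt G a b) = d := by
  classical
  haveI := Fact.mk hp
  haveI := Fintype.ofFinite Ω
  obtain ⟨σ, hσ⟩ := exists_prime_orderOf_dvd_card' (G := G) p
    ⟨(p + 1) * d, by rw [hG]; ring⟩
  set P := zpowers σ with hP
  have hPc : Nat.card P = p := by rw [hP, Nat.card_zpowers, hσ]
  have hPp : IsPGroup p P := IsPGroup.of_card (n := 1) (by rw [hPc, pow_one])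
  have hmod := hPp.card_modEq_card_fixedPoints Ω
  rw [hΩ] at hmod
  have hlt : Nat.card (fixedPoints P Ω) < p + 1 := by
    rw [← hΩ]
    refine lt_of_le_of_ne (Finite.card_subtype_le _) fun heq => ?_
    have hall : ∀ x : Ω, x ∈ fixedPoints P Ω := by
      intro x
      by_contra hx
      exact absurd heq (Finite.card_subtype_lt hx).ne
    have : σ = 1 := FaithfulSMul.eq_of_smul_eq_smul (α := Ω) fun x => by
      rw [one_smul]; exact hall x ⟨σ, mem_zpowers σ⟩
    rw [this, orderOf_one] at hσ
    exact hp.one_lt.ne hσ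
  have hone : Nat.card (fixedPoints P Ω) = 1 := by
    have h2 := hp.two_le
    rw [Nat.ModEq, show (p + 1) % p = 1 by
      rw [Nat.add_mod_left]; exact Nat.one_mod_eq_one.2 hp.one_lt.ne'] at hmod
    rcases Nat.lt_or_ge (Nat.card (fixedPoints P Ω)) p with h | h
    · rw [Nat.mod_eq_of_lt h] at hmod
      omega
    · rw [show Nat.card (fixedPoints P Ω) = p by omega, Nat.mod_self] at hmod
      omega
  obtain ⟨hsub, ⟨⟨a, ha⟩⟩⟩ := Nat.card_eq_one_iff_unique.1 hone
  have hfix : ∀ u ∈ P, u • a = a := fun u hu => ha ⟨u, hu⟩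
  -- regular on the other points
  have horb : ∀ (y : Ω) (hy : y ≠ a), Function.Bijective
      (fun u : P => (⟨(u : G) • y, fun e => hy (MulAction.injective (u : G)
        (e.trans (hfix u u.2).symm))⟩ : {z : Ω // z ≠ a})) := by
    intro y hy
    have hc : Nat.card {z : Ω // z ≠ a} = p := by
      rw [Nat.card_eq_fintype_card, Fintype.card_subtype_compl, Fintype.card_subtype_eq,
        ← Nat.card_eq_fintype_card, hΩ, Nat.add_sub_cancel]
    have hdvd : Nat.card (orbit P y) ∣ p := by
      rw [← Nat.card_congr (orbitEquivQuotientStabilizer P y).symm, ← index_eq_card]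
      exact (index_dvd_card _).trans (dvd_of_eq hPc)
    have hne1 : Nat.card (orbit P y) ≠ 1 := fun h1 => hy (by
      obtain ⟨hs, -⟩ := Nat.card_eq_one_iff_unique.1 h1
      have hy' : y ∈ fixedPoints P Ω := fun u =>
        congrArg Subtype.val (hs.elim ⟨u • y, mem_orbit y u⟩ ⟨y, mem_orbit_self y⟩)
      exact congrArg Subtype.val (hsub.elim (⟨y, hy'⟩ : fixedPoints P Ω) ⟨a, ha⟩))
    have horbc : Nat.card (orbit P y) = p := ((Nat.dvd_prime hp).1 hdvd).resolve_left hne1
    have hst : stabilizer P y = ⊥ := by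
      refine eq_bot_iff.2 fun u hu => ?_
      haveI := Fintype.ofFinite P
      haveI := Fintype.ofFinite (stabilizer P y)
      haveI := Fintype.ofFinite (orbit P y)
      have h1 := card_orbit_mul_card_stabilizer_eq_card_group P y
      simp only [← Nat.card_eq_fintype_card, horbc, hPc] at h1
      have h2 : Nat.card (stabilizer P y) = 1 :=
        Nat.eq_of_mul_eq_mul_left hp.pos (h1.trans (mul_one p).symm)
      rw [Subgroup.card_eq_one] at h2
      rwa [h2] at hu
    refine Function.Injective.bijective_of_nat_card_le (fun u v e => ?_) (by rw [hc, hPc])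
    have e' : u • y = v • y := congrArg Subtype.val e
    have h3 : v⁻¹ * u ∈ stabilizer P y := by
      show (v⁻¹ * u) • y = y
      rw [mul_smul, e', inv_smul_smul]
    rw [hst, mem_bot, inv_mul_eq_one] at h3
    exact h3.symm
  obtain ⟨b, hba⟩ : ∃ b : Ω, b ≠ a := by
    haveI : Nontrivial Ω := Finite.one_lt_card_iff_nontrivial.1 (by rw [hΩ]; have := hp.pos; omega)
    exact exists_ne a
  have hreg : ∀ y z : Ω, y ≠ a → z ≠ a → ∃! u : P, (u : G) • y = z := by
    intro y z hy hz
    obtain ⟨u, hu⟩ := (horb y hy).2 ⟨z, hz⟩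
    exact ⟨u, congrArg Subtype.val hu, fun v hv => (horb y hy).1 ((Subtype.ext hv : (⟨_, _⟩ :
      {z : Ω // z ≠ a}) = ⟨z, hz⟩).trans hu.symm)⟩
  set L := stabilizer G a with hL
  have hLc : Nat.card L = p * d := by
    have h1 := (stabilizer G a).card_mul_index
    rw [index_stabilizer_of_transitive, hΩ, hG] at h1
    exact Nat.eq_of_mul_eq_mul_right (show 0 < p + 1 by omega) (h1.trans (by ring))
  have hPL : P ≤ L := hfix
  have hnorm : ∀ g : G, g • a = a → ∀ u ∈ P, g * u * g⁻¹ ∈ P := by
    intro g hga u hu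
    by_contra hcon
    set P' := P.map (MulAut.conj g).toMonoidHom with hP'
    have hP'L : P' ≤ L := by
      rintro _ ⟨v, hv, rfl⟩
      show (g * v * g⁻¹) • a = a
      rw [mul_smul, mul_smul, inv_smul_eq_iff.2 hga.symm, hfix v hv, hga]
    have hP'c : Nat.card P' = p := by
      rw [hP', card_map_of_injective (MulAut.conj g).injective, hPc]
    have hbot : P ⊓ P' = ⊥ := by
      rcases (Nat.dvd_prime hp).1 ((card_dvd_of_le (inf_le_right : P ⊓ P' ≤ P')).trans
        (dvd_of_eq hP'c)) with h | h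
      · exact Subgroup.card_eq_one.1 h
      · exfalso
        have h2 : P ⊓ P' = P' :=
          eq_of_le_of_card_ge inf_le_right (by rw [h, hP'c])
        exact hcon ((inf_eq_right.1 h2) (mem_map_of_mem _ hu))
    let φ : P × P' → L := fun x => ⟨x.1 * x.2, mul_mem (hPL x.1.2) (hP'L x.2.2)⟩
    have hφ : Function.Injective φ := by
      rintro ⟨x, y⟩ ⟨x', y'⟩ e
      have e' : (x : G) * y = x' * y' := congrArg Subtype.val e
      have h2 : (x' : G)⁻¹ * x = y' * (y : G)⁻¹ := by
        rw [eq_mul_inv_iff_mul_eq, mul_assoc, e', inv_mul_cancel_left]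
      have h3 : (x' : G)⁻¹ * x ∈ P ⊓ P' :=
        ⟨P.mul_mem (P.inv_mem x'.2) x.2, h2 ▸ P'.mul_mem y'.2 (P'.inv_mem y.2)⟩
      rw [hbot, mem_bot] at h3
      have hx : (x' : G) = x := inv_mul_eq_one.1 h3
      rw [hx] at e'
      exact Prod.ext (Subtype.ext hx.symm) (Subtype.ext (mul_left_cancel e'))
    have hle := Nat.card_le_card_of_injective φ hφ
    rw [Nat.card_prod, hPc, hP'c, hLc] at hle
    exact absurd (Nat.le_of_mul_le_mul_left hle hp.pos) (by omega)
  have hF : IsKernel P a := ⟨hfix, hnorm, hreg⟩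
  have hab : a ≠ b := Ne.symm hba
  have htwo : ∀ {x y u v : Ω}, x ≠ y → u ≠ v → ∃ g : G, g • x = u ∧ g • y = v := by
    have key : ∀ {x y : Ω}, x ≠ y → ∃ g : G, g • x = a ∧ g • y = b := by
      intro x y hxy
      obtain ⟨k, hk⟩ := exists_smul_eq G x a
      have hky : k • y ≠ a := fun e => hxy (MulAction.injective k (hk.trans e.symm))
      obtain ⟨u, hu, -⟩ := hreg (k • y) b hky hba
      exact ⟨(u : G) * k, by rw [mul_smul, hk, hfix u u.2], by rw [mul_smul, hu]⟩
    intro x y u v hxy huv
    obtain ⟨g, hg1, hg2⟩ := key hxy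
    obtain ⟨g', hg1', hg2'⟩ := key huv
    exact ⟨g'⁻¹ * g, by rw [mul_smul, hg1, inv_smul_eq_iff, hg1'],
      by rw [mul_smul, hg2, inv_smul_eq_iff, hg2']⟩
  have hthree : ∀ g : G, ∀ c : Ω, c ≠ a → c ≠ b → g • a = a → g • b = b → g • c = c → g = 1 := by
    intro g c hca hcb hga hgb hgc
    obtain ⟨u, hu, huu⟩ := hreg b c hba hca
    have hconj : g * (u : G) * g⁻¹ = u := congrArg Subtype.val
      (huu ⟨g * u * g⁻¹, hnorm g hga u u.2⟩ (by
        show (g * (u : G) * g⁻¹) • b = c
        rw [mul_smul, mul_smul, inv_smul_eq_iff.2 hgb.symm, hu, hgc]))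
    have hu1 : (u : G) ≠ 1 := fun e => hcb (by rw [← hu, e, one_smul])
    have hgen : zpowers (u : G) = P := by
      refine eq_of_le_of_card_ge (zpowers_le.2 u.2) ?_
      rw [hPc, Nat.card_zpowers]
      have h4 : orderOf (u : G) ∣ p := by rw [← hPc]; exact P.orderOf_dvd_natCard u.2
      rcases (Nat.dvd_prime hp).1 h4 with h | h
      · exact absurd (orderOf_eq_one_iff.1 h) hu1
      · exact h.ge
    refine FaithfulSMul.eq_of_smul_eq_smul (α := Ω) fun z => ?_
    rw [one_smul]
    by_cases hza : z = a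
    · rw [hza, hga]
    obtain ⟨v, hv, -⟩ := hreg b z hba hza
    obtain ⟨i, hi⟩ := mem_zpowers_iff.1 (hgen.ge v.2)
    rw [← hv, ← mul_smul, show g * (v : G) = v * g by
      rw [← hi]
      exact (Commute.zpow_right (show Commute g (u : G) from mul_inv_eq_iff_eq_mul.1 hconj) i).eq,
      mul_smul, hgb]
  have C : ZCtx G Ω := by
    refine ⟨htwo, fun g x y z hxy hyz hxz hx hy hz => ?_⟩
    obtain ⟨k, hkx, hky⟩ := htwo hxy hab
    have h1 := hthree (k * g * k⁻¹) (k • z)
      (fun e => hxz (MulAction.injective k (hkx.trans e.symm)))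
      (fun e => hyz (MulAction.injective k (hky.trans e.symm)))
      (by rw [← hkx, mul_smul, mul_smul, inv_smul_smul, hx])
      (by rw [← hky, mul_smul, mul_smul, inv_smul_smul, hy])
      (by rw [mul_smul, mul_smul, inv_smul_smul, hz])
    exact conj_eq_one_iff.1 h1
  refine ⟨a, b, P, C, hab, hF, hPc, ?_⟩
  -- the order of the two-point stabiliser
  let ψ : P × twoPt G a b → L := fun x => ⟨x.1 * x.2, mul_mem (hPL x.1.2) x.2.2.1⟩
  have hψ : Function.Bijective ψ := by
    refine ⟨?_, fun l => ?_⟩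
    · rintro ⟨x, h⟩ ⟨x', h'⟩ e
      have e' : (x : G) * h = x' * h' := congrArg Subtype.val e
      have e2 := congrArg (fun g : G => g • b) e'
      simp only [mul_smul, show (h : G) • b = b from h.2.2, show (h' : G) • b = b from h'.2.2] at e2
      have hx : x = x' := Subtype.ext (hF.eq_of_smul x.2 x'.2 hba e2)
      subst hx
      exact Prod.ext rfl (Subtype.ext (mul_left_cancel e'))
    · obtain ⟨u, hu, -⟩ := hreg b ((l : G) • b) hba fun e =>
        hba (MulAction.injective (l : G) (e.trans l.2.symm))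
      refine ⟨(u, ⟨(u : G)⁻¹ * l, ?_, ?_⟩), Subtype.ext (mul_inv_cancel_left _ _)⟩
      · show ((u : G)⁻¹ * l) • a = a
        rw [mul_smul, l.2, inv_smul_eq_iff, hfix u u.2]
      · show ((u : G)⁻¹ * l) • b = b
        rw [mul_smul, inv_smul_eq_iff, hu]
  have := Nat.card_eq_of_bijective ψ hψ
  rw [Nat.card_prod, hPc, hLc] at this
  exact Nat.eq_of_mul_eq_mul_left hp.pos this

end Cfsg.Agent.Zassenhaus
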