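import Cfsg.Agent.FPF25.ComplementQuotient
import Cfsg.Agent.Core.PCore

/-! A Frobenius complement that is transitive on the kernel and carries an involutory automorphism
with at most two fixed points has a subgroup of index two invariant under this automorphism. -/

set_option autoImplicit false

namespace Cfsg.Agent.Zassenhaus

open Subgroup Cfsg.Agent.FPF25

variable {H : Type*} [Group H] [Finite H]

theorem index_two_of_two_group_image {G' : Type*} [Group G'] (f : H →* G')
    (h2 : IsPGroup 2 f.range) (hne : f.range ≠ ⊥) : ∃ M : Subgroup H, M.index = 2 := by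
  haveI : Fact (Nat.Prime 2) := ⟨Nat.prime_two⟩
  haveI : Finite f.range := Finite.of_surjective f.rangeRestrict f.rangeRestrict_surjective
  obtain ⟨k, hk⟩ := IsPGroup.iff_card.1 h2
  rcases k with _ | k
  · exact absurd (card_eq_one.1 hk) hne
  obtain ⟨K, hK⟩ := Sylow.exists_subgroup_card_pow_prime 2 (G := f.range)
    (show 2 ^ k ∣ Nat.card f.range by rw [hk, pow_succ]; exact dvd_mul_right _ _)
  refine ⟨K.comap f.rangeRestrict, ?_⟩
  rw [index_comap_of_surjective _ f.rangeRestrict_surjective]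
  have := card_mul_index K
  rw [hK, hk, pow_succ] at this
  exact Nat.eq_of_mul_eq_mul_left (Nat.two_pow_pos k) this

theorem index_two_of_range_card {G' : Type*} [Group G'] (f : H →* G')
    (h : Nat.card f.range = 2) : ∃ M : Subgroup H, M.index = 2 := by
  refine index_two_of_two_group_image f (IsPGroup.of_card (n := 1) (by rw [h, pow_one])) fun e => ?_
  rw [e, card_bot] at h
  omega

/-- An invariant index two subgroup from any index two subgroup. -/
theorem exists_invariant_of_index_two (φ : MulAut H) (hinv : ∀ x, φ (φ x) = x) {M : Subgroup H}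
    (hM : M.index = 2) : ∃ N : Subgroup H, N.index = 2 ∧ ∀ x ∈ N, φ x ∈ N := by
  by_cases h : ∀ x ∈ M, φ x ∈ M
  · exact ⟨M, hM, h⟩
  let N : Subgroup H :=
    { carrier := {x | x ∈ M ↔ φ x ∈ M}
      one_mem' := by simp [M.one_mem]
      mul_mem' := fun {x y} hx hy => by
        show x * y ∈ M ↔ φ (x * y) ∈ M
        rw [map_mul, mul_mem_iff_of_index_two hM, mul_mem_iff_of_index_two hM]
        exact iff_congr hx hy
      inv_mem' := fun {x} hx => by
        show x⁻¹ ∈ M ↔ φ x⁻¹ ∈ M
        rw [map_inv, M.inv_mem_iff, M.inv_mem_iff]; exact hx }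
  have hN : ∀ x, x ∈ N ↔ (x ∈ M ↔ φ x ∈ M) := fun x => Iff.rfl
  refine ⟨N, ?_, fun x hx => ?_⟩
  · push Not at h
    obtain ⟨a, ha, ha'⟩ := h
    rw [index_eq_two_iff]
    refine ⟨a, fun b => ?_⟩
    rw [hN, hN, map_mul, mul_mem_iff_of_index_two hM, mul_mem_iff_of_index_two hM]
    unfold Xor
    tauto
  · rw [hN] at hx ⊢
    rw [hinv]
    exact hx.symm

/-- Homomorphisms blind to `φ` have image of order at most two. -/
theorem card_range_le_two (φ : MulAut H)
    (hfix : Nat.card {x : H // φ x = x} ≤ 2) {G' : Type*} [Group G'] (α : H →* G')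
    (hα : ∀ x, α (φ x) = α x) : Nat.card α.range ≤ 2 := by
  classical
  haveI := Fintype.ofFinite H
  let δ : H → α.ker := fun x => ⟨x * (φ x)⁻¹, by
    rw [MonoidHom.mem_ker, map_mul, map_inv, hα, mul_inv_cancel]⟩
  have hd : Nat.card H ≤ 2 * Nat.card α.ker := by
    rw [Nat.card_eq_fintype_card (α := H), Nat.card_eq_fintype_card (α := α.ker), ← Finset.card_univ,
      ← Finset.card_univ]
    refine Finset.card_le_mul_card_image_of_maps_to (f := δ) (fun _ _ => Finset.mem_univ _) 2
      fun y _ => ?_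
    rcases (Finset.univ.filter fun x => δ x = y).eq_empty_or_nonempty with he | ⟨x₀, hx₀⟩
    · simp [he]
    refine le_trans ?_ hfix
    rw [Nat.card_eq_fintype_card, Fintype.card_subtype]
    refine Finset.card_le_card_of_injOn (fun x => x₀⁻¹ * x) (fun x hx => ?_)
      (fun x _ x' _ e => mul_left_cancel e)
    simp only [Finset.coe_filter, Finset.mem_univ, true_and, Set.mem_ofPred_eq] at hx
    simp only [Finset.mem_filter, Finset.mem_univ, true_and] at hx₀
    have h1 : x₀ * (φ x₀)⁻¹ = x * (φ x)⁻¹ :=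
      congrArg Subtype.val (hx₀.trans hx.symm)
    simp only [Finset.coe_filter, Finset.mem_univ, true_and, Set.mem_ofPred_eq, map_mul, map_inv]
    have h2 : x₀⁻¹ * x = (φ x₀)⁻¹ * φ x := by
      calc x₀⁻¹ * x = x₀⁻¹ * (x * (φ x)⁻¹) * φ x := by group
        _ = x₀⁻¹ * (x₀ * (φ x₀)⁻¹) * φ x := by rw [h1]
        _ = (φ x₀)⁻¹ * φ x := by group
    exact h2.symm
  have h3 := card_mul_index α.ker
  rw [index_ker] at h3
  have hpos : 0 < Nat.card α.ker := Nat.card_pos
  by_contra hc
  push Not at hc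
  have : Nat.card α.ker * 3 ≤ Nat.card α.ker * Nat.card α.range := Nat.mul_le_mul_left _ hc
  omega

theorem a4_moves : ∀ x : alternatingGroup (Fin 4), x ^ 3 = 1 → x ≠ 1 →
    ∃ g : alternatingGroup (Fin 4), g * x * g⁻¹ ≠ 1 ∧ g * x * g⁻¹ ≠ x ∧ g * x * g⁻¹ ≠ x * x := by
  decide

theorem arith {p f e c r : ℕ} (hp : p.Prime) (hn : 12 * c + 1 = p ^ f) (h3 : 3 ∣ c)
    (hc0 : c ≠ 0) (hr : r ∣ 12) (hr2 : 2 ≤ r) (heq : r * (p ^ e - 1) = 12 * c) : False := by
  obtain ⟨c', rfl⟩ := h3
  have hr12 : r ≤ 12 := Nat.le_of_dvd (by norm_num) hr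
  have hc' : 1 ≤ c' := by omega
  have he : 0 < e := by
    by_contra he
    rw [Nat.eq_zero_of_not_pos he, pow_zero, Nat.sub_self, Nat.mul_zero] at heq
    omega
  have hq1 : 1 < p ^ e := Nat.one_lt_pow he.ne' hp.one_lt
  have hef : e < f := by
    by_contra hle
    have h1 : p ^ f ≤ p ^ e := Nat.pow_le_pow_right hp.pos (by omega)
    have : 2 * (p ^ e - 1) ≤ r * (p ^ e - 1) := Nat.mul_le_mul_right _ hr2
    omega
  obtain ⟨i, rfl⟩ := Nat.exists_eq_add_of_le hef.le
  have hi : 1 ≤ p ^ i := Nat.one_le_pow _ _ hp.pos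
  have hmod : p ^ e - 1 ∣ p ^ i - 1 := by
    have h1 : (p ^ e - 1) * r = p ^ e * p ^ i - 1 := by
      rw [mul_comm, heq, ← pow_add]; omega
    have h2 : p ^ e * p ^ i - 1 = (p ^ e - 1) * p ^ i + (p ^ i - 1) := by
      obtain ⟨a, ha⟩ : ∃ a, p ^ e = a + 1 := ⟨p ^ e - 1, by omega⟩
      obtain ⟨b, hb⟩ : ∃ b, p ^ i = b + 1 := ⟨p ^ i - 1, by omega⟩
      rw [ha, hb, Nat.add_sub_cancel, Nat.add_sub_cancel]
      rw [show (a + 1) * (b + 1) = a * (b + 1) + b + 1 by ring, Nat.add_sub_cancel]
    rw [h2] at h1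
    exact (Nat.dvd_add_right (dvd_mul_right _ _)).1 ⟨r, h1.symm⟩
  have hiq : p ^ e ≤ p ^ i := by
    have h1 : 1 < p ^ i := Nat.one_lt_pow (by omega) hp.one_lt
    have := Nat.le_of_dvd (by omega) hmod
    omega
  -- `r ≥ q + 1`, so `q ≤ 11` and `36 c' ≤ 120`
  have hsq : p ^ e * p ^ e ≤ r * (p ^ e - 1) + 1 := by
    rw [heq, hn, pow_add]; exact Nat.mul_le_mul_left _ hiq
  have hrq : p ^ e + 1 ≤ r := by
    by_contra hlt
    have : r * (p ^ e - 1) ≤ p ^ e * p ^ e - p ^ e :=
      (Nat.mul_le_mul_right _ (by omega)).trans_eq (Nat.mul_sub_one _ _)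
    omega
  have : r * (p ^ e - 1) ≤ 12 * 10 := Nat.mul_le_mul hr12 (by omega)
  have hc3 : c' ≤ 3 := by omega
  have hbig : ¬ (p ^ (e + i)).Prime := Nat.Prime.not_prime_pow (by omega)
  rw [← hn] at hbig
  interval_cases c' <;> norm_num at hbig

theorem sl25_two_three : ∃ A B : Subgroup (Matrix.SpecialLinearGroup (Fin 2) (ZMod 5)),
    Nat.card A = 3 ∧ Nat.card B = 3 ∧ A ≠ B := by
  haveI : Fact (Nat.Prime 3) := ⟨Nat.prime_three⟩
  let u : Matrix.SpecialLinearGroup (Fin 2) (ZMod 5) := ⟨!![0, 4; 1, 4], by decide⟩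
  let v : Matrix.SpecialLinearGroup (Fin 2) (ZMod 5) := ⟨!![4, 4; 1, 0], by decide⟩
  have hu : orderOf u = 3 := orderOf_eq_prime (Subtype.ext (by decide))
    fun h => absurd (congrArg Subtype.val h) (by decide)
  have hv : orderOf v = 3 := orderOf_eq_prime (Subtype.ext (by decide))
    fun h => absurd (congrArg Subtype.val h) (by decide)
  refine ⟨zpowers u, zpowers v, by rw [Nat.card_zpowers, hu], by rw [Nat.card_zpowers, hv], fun h => ?_⟩
  have hmem : v ∈ zpowers u := h ▸ mem_zpowers v
  rw [← mem_powers_iff_mem_zpowers, Submonoid.mem_powers_iff] at hmem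
  obtain ⟨i, hi⟩ := hmem
  rw [← pow_mod_orderOf, hu] at hi
  have : i % 3 < 3 := Nat.mod_lt _ (by norm_num)
  interval_cases h : i % 3 <;> exact absurd (congrArg Subtype.val hi) (by decide)

theorem a5_noncomm : ∃ a b : alternatingGroup (Fin 5), a * b ≠ b * a :=
  ⟨⟨Equiv.swap 0 1 * Equiv.swap 1 2, Equiv.Perm.mem_alternatingGroup.2 (by decide)⟩,
    ⟨Equiv.swap 1 2 * Equiv.swap 2 3, Equiv.Perm.mem_alternatingGroup.2 (by decide)⟩,
    fun h => absurd (congrArg Subtype.val h) (by decide)⟩

/-- The main statement on the complement. -/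
theorem exists_invariant_index_two {F : Type*} [CommGroup F] [Finite F] [Nontrivial F] {p : ℕ} [hp : Fact p.Prime]
    (hF : IsPGroup p F) (ψ : H →* MulAut F)
    (hfpf : ∀ h : H, h ≠ 1 → ∀ u : F, ψ h u = u → u = 1)
    (htr : ∀ u v : F, u ≠ 1 → v ≠ 1 → ∃ h : H, ψ h u = v)
    (hev : 2 ∣ Nat.card H)
    (hthree : ∀ A B : Subgroup H, Nat.card A = 3 → Nat.card B = 3 → A = B)
    (φ : MulAut H) (hinv : ∀ x, φ (φ x) = x) (hfix : Nat.card {x : H // φ x = x} ≤ 2) :
    ∃ N : Subgroup H, N.index = 2 ∧ ∀ x ∈ N, φ x ∈ N := by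
  classical
  suffices ∃ M : Subgroup H, M.index = 2 by
    obtain ⟨M, hM⟩ := this
    exact exists_invariant_of_index_two φ hinv hM
  by_contra hno
  have hno' : ∀ {G' : Type _} [Group G'] (f : H →* G'), IsPGroup 2 f.range → f.range = ⊥ :=
    fun f hf => by_contra fun hne => hno (index_two_of_two_group_image f hf hne)
  haveI : Fact (Nat.Prime 2) := ⟨Nat.prime_two⟩
  haveI : Nontrivial H := by
    rw [← Finite.one_lt_card_iff_nontrivial]
    exact Nat.lt_of_lt_of_le Nat.one_lt_two (Nat.le_of_dvd Nat.card_pos hev)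
  have hHF : HasFPF H := hasFPF_of_fpf ψ hfpf
  -- solvable
  haveI hsol : Group.IsSolvable H := by
    by_contra hns
    obtain ⟨K, ⟨e⟩⟩ := hHF.exists_sl25 hns
    haveI : Fact (Nat.Prime 3) := ⟨Nat.prime_three⟩
    apply not_isSolvable_sl25
    have hK3 : 3 ∣ Nat.card K := by
      rw [Nat.card_congr e.toEquiv, card_sl25]; norm_num
    -- all subgroups of order three of `K` coincide
    have huniq : ∀ A B : Subgroup K, Nat.card A = 3 → Nat.card B = 3 → A = B := fun A B hA hB =>
      map_injective K.subtype_injective (hthree _ _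
        (by rw [card_map_of_injective K.subtype_injective]; exact hA)
        (by rw [card_map_of_injective K.subtype_injective]; exact hB))
    exfalso
    obtain ⟨A, B, hA, hB, hAB⟩ := sl25_two_three
    refine hAB (map_injective (f := e.symm.toMonoidHom) e.symm.injective (huniq _ _ ?_ ?_))
    · rw [card_map_of_injective e.symm.injective]; exact hA
    · rw [card_map_of_injective e.symm.injective]; exact hB
  -- no normal 2-complement
  have hnc : ¬ Cfsg.HasNormalPComplement 2 H := by
    rintro ⟨P, M, hMn, hMP⟩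
    have hcard : Nat.card (H ⧸ M) = Nat.card (P : Subgroup H) := by
      rw [← index_eq_card]; exact hMP.symm.index_eq_card
    have h2 : IsPGroup 2 (QuotientGroup.mk' M).range := by
      refine IsPGroup.to_subgroup ?_ _
      obtain ⟨k, hk⟩ := IsPGroup.iff_card.1 P.2
      exact IsPGroup.of_card (n := k) (hcard.trans hk)
    have := hno' _ h2
    rw [MonoidHom.range_eq_top.2 (QuotientGroup.mk'_surjective M)] at this
    have h1 : Nat.card (⊤ : Subgroup (H ⧸ M)) = 1 := by rw [this, card_bot]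
    rw [card_top, hcard] at h1
    have := (P : Sylow 2 H).dvd_card_of_dvd_card hev
    omega
  obtain ⟨N, hNn, hNz, hker⟩ := hHF.smallKer_of_solvable hnc
  haveI := hNn
  -- the kernel is a proper subgroup with quotient `A₄`
  have hfour : N = ⊤ ∨ ∃ f : H →* alternatingGroup (Fin 4), Function.Surjective f ∧ f.ker = N := by
    rcases hker with h | ⟨f, hf, -⟩ | h | ⟨f, hf, -⟩ | ⟨f, hf, -⟩ | ⟨f, hf, -⟩
    · exact Or.inl h
    · exfalso
      refine hno (index_two_of_two_group_image f ?_ ?_)
      · exact (IsPGroup.of_card (p := 2) (n := 2) (G := DihedralGroup 2)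
          (by rw [DihedralGroup.nat_card]; rfl)).to_subgroup _
      · rw [MonoidHom.range_eq_top.2 hf]; exact top_ne_bot
    · exact Or.inr h
    · exfalso
      refine hno ⟨(Equiv.Perm.sign.comp f).ker, ?_⟩
      have hsf : Function.Surjective (Equiv.Perm.sign.comp f) := fun u => by
        obtain ⟨σ, rfl⟩ := Equiv.Perm.sign_surjective (Fin 4) u
        obtain ⟨x, rfl⟩ := hf σ
        exact ⟨x, rfl⟩
      rw [index_ker, MonoidHom.range_eq_top.2 hsf, card_top]
      simp [Nat.card_eq_fintype_card]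
    · exfalso
      haveI : Group.IsSolvable (alternatingGroup (Fin 5)) :=
        Group.isSolvable_of_surjective (G := H) hf
      have hA5 := alternatingGroup.isSimpleGroup_five
      have hcomm := (IsSimpleGroup.comm_iff_isSolvable (G := alternatingGroup (Fin 5))).2 inferInstance
      obtain ⟨a, b, hab⟩ := a5_noncomm
      exact hab (hcomm a b)
    · exfalso
      haveI : Group.IsSolvable (Equiv.Perm (Fin 5)) := Group.isSolvable_of_surjective (G := H) hf
      exact Equiv.Perm.fin_5_not_solvable inferInstance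
  rcases hfour with hN | ⟨f, hf, hfk⟩
  · subst hN
    haveI : IsZGroup H := @IsZGroup.of_surjective (⊤ : Subgroup H) H _ _
      (topEquiv (G := H)).toMonoidHom _ hNz (topEquiv (G := H)).surjective
    obtain ⟨P⟩ : Nonempty (Sylow 2 H) := inferInstance
    have hP : IsCyclic P := inferInstance
    have hmin : (Nat.card H).minFac = 2 := (Nat.minFac_eq_two_iff _).2 hev
    exact hnc ⟨P, _, inferInstance, (IsCyclic.isComplement' hmin hP)⟩
  have hcardH : Nat.card H = 12 * Nat.card N := by
    rw [← card_mul_index N, ← hfk, index_ker, MonoidHom.range_eq_top.2 hf, card_top,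
      mul_comm, Nat.card_eq_fintype_card]
    rfl
  -- the odd core is central
  set O := Cfsg.pPrimeCore 2 H with hO
  have hOodd : ¬ 2 ∣ Nat.card O := Core.not_dvd_card_pPrimeCore
  have hOφ : ∀ x ∈ O, φ x ∈ O := fun x hx => by
    have := Subgroup.Characteristic.fixed (H := O) inferInstance φ
    rw [← this] at hx
    exact hx
  let φO : O →* O := (φ.toMonoidHom.comp O.subtype).codRestrict O fun x => hOφ x x.2
  have hφO2 : Function.Involutive φO := fun x => Subtype.ext (hinv (x : H))
  have hφOfp : MonoidHom.FixedPointFree φO := fun x hx => by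
    by_contra hne
    have hx' : φ (x : H) = x := congrArg Subtype.val hx
    let Φ : Subgroup H := φ.toMonoidHom.eqLocus (MonoidHom.id H)
    have hΦ : Nat.card Φ ≤ 2 := hfix
    have hle : orderOf (x : H) ≤ 2 :=
      le_trans (Nat.le_of_dvd Nat.card_pos (Subgroup.orderOf_dvd_natCard Φ hx')) hΦ
    have h1 : orderOf (x : H) ≠ 1 := fun e => hne (Subtype.ext (orderOf_eq_one_iff.1 e))
    have h0 := orderOf_pos (x : H)
    have h2 : orderOf (x : H) = 2 := by omega
    exact hOodd (h2 ▸ Subgroup.orderOf_dvd_natCard O x.2)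
  have hinvO : ∀ x ∈ O, φ x = x⁻¹ := fun x hx =>
    congrArg Subtype.val (congrFun (hφOfp.coe_eq_inv_of_involutive hφO2) ⟨x, hx⟩)
  have hOc : ∀ x ∈ O, ∀ h : H, h * x = x * h := by
    let α : H →* MulAut O := MulAut.conjNormal
    have hα : ∀ h, α (φ h) = α h := fun h => by
      ext ⟨x, hx⟩
      show φ h * x * (φ h)⁻¹ = h * x * h⁻¹
      have e1 : x = φ x⁻¹ := by rw [hinvO _ (O.inv_mem hx), inv_inv]
      have hmem : h * x⁻¹ * h⁻¹ ∈ O :=
        (inferInstance : O.Normal).conj_mem _ (O.inv_mem hx) h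
      conv_lhs => rw [e1, ← map_inv, ← map_mul, ← map_mul, hinvO _ hmem]
      group
    have hle := card_range_le_two φ hfix α hα
    have hbot : α.range = ⊥ := by
      rcases (show Nat.card α.range = 1 ∨ Nat.card α.range = 2 by
        have := Nat.card_pos (α := α.range); omega) with h1 | h2
      · exact card_eq_one.1 h1
      · exact absurd (index_two_of_range_card α h2) hno
    intro x hx h
    have h1 : α h = 1 := by
      have : α h ∈ α.range := ⟨h, rfl⟩
      rwa [hbot] at this
    have h2 : (α h) ⟨x, hx⟩ = (1 : MulAut O) ⟨x, hx⟩ := by rw [h1]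
    have h2 : h * x * h⁻¹ = x := congrArg Subtype.val h2
    exact mul_inv_eq_iff_eq_mul.1 h2
  -- `N` is central
  haveI := hNz
  obtain ⟨P⟩ : Nonempty (Sylow 2 N) := inferInstance
  have hP : IsCyclic P := inferInstance
  have hNeven : 2 ∣ Nat.card N := by
    by_contra hodd
    -- an elementary abelian Sylow image contradicts the unique involution
    obtain ⟨S⟩ : Nonempty (Sylow 2 H) := inferInstance
    have hScard : Nat.card S = 4 := by
      rw [S.card_eq_multiplicity, hcardH, Nat.factorization_mul (by norm_num) Nat.card_pos.ne',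
        Finsupp.add_apply, Nat.factorization_eq_zero_of_not_dvd hodd,
        show (12 : ℕ) = 2 ^ 2 * 3 from rfl, Nat.factorization_mul (by norm_num) (by norm_num),
        Finsupp.add_apply, Nat.prime_two.factorization_pow, Finsupp.single_eq_same,
        Nat.factorization_eq_zero_of_not_dvd (by norm_num : ¬ 2 ∣ 3)]
      rfl
    rcases hHF.cyclic_or_quaternion S.2 with hc | ⟨-, k, hk, ⟨e⟩⟩
    · obtain ⟨g, hg⟩ := IsCyclic.exists_ofOrder_eq_natCard (α := S)
      rw [hScard, ← Subgroup.orderOf_coe] at hg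
      have hg2 : (g : H) ^ 2 ∈ N := by
        rw [← hfk, MonoidHom.mem_ker, map_pow]
        have hh : orderOf (f (g : H)) ∣ 4 := by
          have := orderOf_map_dvd f (g : H)
          rwa [hg] at this
        have key : ∀ x : alternatingGroup (Fin 4), x ^ 4 = 1 → x ^ 2 = 1 := by decide
        exact key _ (orderOf_dvd_iff_pow_eq_one.1 hh)
      have h2 : orderOf ((g : H) ^ 2) = 2 := by
        rw [orderOf_pow' _ two_ne_zero, hg]; rfl
      exact hodd (h2 ▸ Subgroup.orderOf_dvd_natCard N hg2)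
    · rw [Nat.card_congr e.toEquiv, Nat.card_eq_fintype_card, QuaternionGroup.card] at hScard
      have : 2 ≤ 2 ^ k := Nat.le_self_pow (by omega) 2
      omega
  have hMc := IsCyclic.isComplement' (P := P) ((Nat.minFac_eq_two_iff _).2 hNeven) hP
  set M := (MonoidHom.transferSylow P (IsCyclic.normalizer_le_centralizer
    ((Nat.minFac_eq_two_iff _).2 hNeven) hP)).ker with hMdef
  have hModd : ¬ 2 ∣ Nat.card M := by
    rw [← hMc.index_eq_card]
    exact P.not_dvd_index
  haveI : M.Characteristic := by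
    refine characteristic_iff_map_le.2 fun θ x hx => ?_
    obtain ⟨y, hy, rfl⟩ := hx
    rw [← QuotientGroup.eq_one_iff, ← orderOf_eq_one_iff]
    have h1 : orderOf ((θ y : N) : N ⧸ M) ∣ orderOf y := by
      rw [← MulEquiv.orderOf_eq θ y]; exact orderOf_map_dvd (QuotientGroup.mk' M) _
    obtain ⟨k, hk⟩ := IsPGroup.iff_card.1 P.2
    have h2 : orderOf ((θ y : N) : N ⧸ M) ∣ 2 ^ k := by
      rw [← hk, ← hMc.symm.index_eq_card, index_eq_card]; exact orderOf_dvd_natCard _
    have h3 : (2 ^ k).Coprime (orderOf y) := Nat.Coprime.pow_left _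
      ((Nat.prime_two.coprime_iff_not_dvd).2 fun h => hModd (h.trans (Subgroup.orderOf_dvd_natCard M hy)))
    exact Nat.dvd_one.1 (h3 ▸ Nat.dvd_gcd h2 h1)
  haveI : (M.map N.subtype).Normal := ConjAct.normal_of_characteristic_of_normal
  have hMO : M.map N.subtype ≤ O := Core.le_pPrimeCore (by
    rw [card_map_of_injective N.subtype_injective]
    exact ((Nat.prime_two.coprime_iff_not_dvd).2 hModd).symm)
  haveI hNab : IsMulCommutative N := by
    refine ⟨⟨fun x y => ?_⟩⟩
    have dec : ∀ z : N, ∃ m ∈ M, ∃ q ∈ (P : Subgroup N), z = m * q := fun z => by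
      obtain ⟨⟨m, q⟩, e⟩ := hMc.2 z
      exact ⟨m, m.2, q, q.2, e.symm⟩
    have hcen : ∀ m ∈ M, ∀ z : N, m * z = z * m := fun m hm z =>
      Subtype.ext (hOc _ (hMO (mem_map_of_mem _ hm)) (z : H)).symm
    obtain ⟨m, hm, q, hq, rfl⟩ := dec x
    obtain ⟨m', hm', q', hq', rfl⟩ := dec y
    have hqq : q * q' = q' * q := by
      obtain ⟨g, hg⟩ := IsCyclic.exists_zpow_surjective (G := P)
      obtain ⟨i, hi⟩ := hg ⟨q, hq⟩
      obtain ⟨j, hj⟩ := hg ⟨q', hq'⟩
      simp only at hi hj
      have : (g ^ i * g ^ j : P) = g ^ j * g ^ i := by rw [← zpow_add, ← zpow_add, add_comm]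
      rw [hi, hj] at this
      exact congrArg Subtype.val this
    calc m * q * (m' * q') = m * m' * (q * q') := by
          rw [mul_assoc, ← mul_assoc q, ← hcen m' hm' q, mul_assoc, ← mul_assoc]
      _ = m' * m * (q' * q) := by rw [hcen m hm m', hqq]
      _ = m' * q' * (m * q) := by
          rw [mul_assoc m' q', ← mul_assoc q', ← hcen m hm q', mul_assoc m, ← mul_assoc m']
  haveI hPn : (P : Subgroup N).Normal := ⟨fun n hn g => by
    rw [mul_comm' g n, mul_inv_cancel_right]; exact hn⟩
  haveI : (P : Subgroup N).Characteristic := P.characteristic_of_normal hPn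
  haveI : ((P : Subgroup N).map N.subtype).Normal := ConjAct.normal_of_characteristic_of_normal
  have hPc : ∀ x ∈ (P : Subgroup N).map N.subtype, ∀ h : H, h * x = x * h := by
    set P' := (P : Subgroup N).map N.subtype with hP'
    let α : H →* MulAut P' := MulAut.conjNormal
    have hP'c : IsCyclic P' :=
      isCyclic_of_surjective ((P : Subgroup N).equivMapOfInjective _ N.subtype_injective).toMonoidHom
        ((P : Subgroup N).equivMapOfInjective _ N.subtype_injective).surjective
    obtain ⟨k, hk⟩ := IsPGroup.iff_card.1 (P.2.map N.subtype)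
    have h2 : IsPGroup 2 (MulAut P') := by
      rcases k with _ | k
      · refine IsPGroup.of_card (n := 0) ?_
        rw [IsCyclic.card_mulAut, hk]; rfl
      · refine IsPGroup.of_card (n := k) ?_
        rw [IsCyclic.card_mulAut, hk, Nat.totient_prime_pow_succ Nat.prime_two]; simp
    have hbot := hno' α (h2.to_subgroup _)
    intro x hx h
    have h1 : α h = 1 := by
      have : α h ∈ α.range := ⟨h, rfl⟩
      rwa [hbot] at this
    have h2 : (α h) ⟨x, hx⟩ = (1 : MulAut P') ⟨x, hx⟩ := by rw [h1]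
    have h2 : h * x * h⁻¹ = x := congrArg Subtype.val h2
    exact mul_inv_eq_iff_eq_mul.1 h2
  have hNc : ∀ x ∈ N, ∀ h : H, h * x = x * h := by
    intro x hx h
    obtain ⟨⟨m, q⟩, e⟩ := hMc.2 ⟨x, hx⟩
    have e' : (m : N) * (q : N) = (⟨x, hx⟩ : N) := e
    have ex : x = ((m : N) : H) * ((q : N) : H) := (congrArg Subtype.val e').symm
    rw [ex, ← mul_assoc,
      show h * ((m : N) : H) = ((m : N) : H) * h from hOc _ (hMO (mem_map_of_mem _ m.2)) h, mul_assoc,
      show h * ((q : N) : H) = ((q : N) : H) * h from hPc _ (mem_map_of_mem _ q.2) h, mul_assoc]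
  -- the span of an orbit of `N`
  obtain ⟨v, hv⟩ := exists_ne (1 : F)
  set W := closure (Set.range fun z : N => ψ (z : H) v) with hW
  have hvW : v ∈ W := subset_closure ⟨1, by simp⟩
  have hmapW : ∀ h : H, ψ h v ∈ W → ∀ x ∈ W, ψ h x ∈ W := by
    intro h hh x hx
    refine closure_induction (p := fun x _ => ψ h x ∈ W) ?_ (by rw [map_one]; exact one_mem W)
      (fun a b _ _ ha hb => by rw [map_mul]; exact mul_mem ha hb)
      (fun a _ ha => by rw [map_inv]; exact inv_mem ha) hx
    rintro _ ⟨z, rfl⟩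
    have e : ψ h (ψ (z : H) v) = ψ (z : H) (ψ h v) := by
      rw [← MulAut.mul_apply, ← map_mul, hNc _ z.2 h, map_mul, MulAut.mul_apply]
    show ψ h (ψ (z : H) v) ∈ W
    rw [e]
    refine closure_induction (p := fun x _ => ψ (z : H) x ∈ W) ?_ (by rw [map_one]; exact one_mem W)
      (fun a b _ _ ha hb => by rw [map_mul]; exact mul_mem ha hb)
      (fun a _ ha => by rw [map_inv]; exact inv_mem ha) hh
    rintro _ ⟨w, rfl⟩
    exact subset_closure ⟨z * w, by simp [map_mul]⟩
  let L : Subgroup H :=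
    { carrier := {h | ψ h v ∈ W}
      one_mem' := by simp [hvW]
      mul_mem' := fun {a b} ha hb => by
        show ψ (a * b) v ∈ W
        rw [map_mul, MulAut.mul_apply]; exact hmapW a ha _ hb
      inv_mem' := fun {a} ha => by
        show ψ a⁻¹ v ∈ W
        let fa : W → W := fun x => ⟨ψ a x, hmapW a ha x x.2⟩
        have hfi : Function.Injective fa := fun x y e =>
          Subtype.ext ((ψ a).injective (congrArg Subtype.val e : ψ a (x : F) = ψ a (y : F)))
        obtain ⟨x, hx⟩ := Finite.injective_iff_surjective.1 hfi ⟨v, hvW⟩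
        have hx' : ψ a (x : F) = v := congrArg Subtype.val hx
        have : ψ a⁻¹ v = x := by
          rw [← hx', ← MulAut.mul_apply, ← map_mul, inv_mul_cancel, map_one]; rfl
        rw [this]; exact x.2 }
  have hne1 : ∀ (h : H) (u : F), u ≠ 1 → ψ h u ≠ 1 := fun h u hu e =>
    hu ((ψ h).injective (e.trans (map_one _).symm))
  have hinjψ : ∀ h h' : H, ψ h v = ψ h' v → h = h' := fun h h' e => by
    by_contra hne
    refine hv (hfpf (h'⁻¹ * h) (fun e1 => hne (eq_of_inv_mul_eq_one e1).symm) v ?_)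
    rw [map_mul, MulAut.mul_apply, e, ← MulAut.mul_apply, ← map_mul, inv_mul_cancel, map_one]; rfl
  have hLcard : Nat.card L = Nat.card W - 1 := by
    have e : L ≃ {x : W // x ≠ 1} := Equiv.ofBijective
      (fun l => ⟨⟨ψ (l : H) v, l.2⟩, fun e => hne1 _ _ hv (congrArg Subtype.val e)⟩)
      ⟨fun a b e => Subtype.ext (hinjψ _ _ (congrArg (fun z => (z.1 : F)) e)), fun x => by
        obtain ⟨h, hh⟩ := htr v (x.1 : F) hv (fun e => x.2 (Subtype.ext e))
        exact ⟨⟨h, show ψ h v ∈ W by rw [hh]; exact x.1.2⟩, Subtype.ext (Subtype.ext hh)⟩⟩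
    rw [Nat.card_congr e]
    haveI := Fintype.ofFinite W
    rw [Nat.card_eq_fintype_card, Nat.card_eq_fintype_card, Fintype.card_subtype_compl,
      Fintype.card_subtype_eq]
  have hHcard : Nat.card H + 1 = Nat.card F := by
    have e : H ≃ {x : F // x ≠ 1} := Equiv.ofBijective (fun h => ⟨ψ h v, hne1 h v hv⟩)
      ⟨fun a b e => hinjψ _ _ (congrArg Subtype.val e), fun x => by
        obtain ⟨h, hh⟩ := htr v (x : F) hv x.2
        exact ⟨h, Subtype.ext hh⟩⟩
    haveI := Fintype.ofFinite F
    rw [Nat.card_congr e, Nat.card_eq_fintype_card, Nat.card_eq_fintype_card,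
      Fintype.card_subtype_compl, Fintype.card_subtype_eq]
    have := Fintype.card_pos (α := F)
    omega
  have hNL : N ≤ L := fun z hz => subset_closure ⟨⟨z, hz⟩, rfl⟩
  have hr12 : L.index ∣ 12 := by
    have := index_dvd_of_le hNL
    rwa [show N.index = 12 by
      have := card_mul_index N
      rw [hcardH, mul_comm 12] at this
      exact Nat.eq_of_mul_eq_mul_left Nat.card_pos this] at this
  by_cases hLtop : L = ⊤
  · -- then `H` is abelian, hence has a normal 2-complement
    have hcomm : ∀ a b : H, a * b = b * a := by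
      intro a b
      apply hinjψ
      have hb : ψ b v ∈ W := hLtop.ge (mem_top b)
      -- some endomorphism commuting with everything sends `v` to `ψ b v`
      have hex : ∀ x ∈ W, ∃ θ : F →* F, (∀ h u, θ (ψ h u) = ψ h (θ u)) ∧ θ v = x := by
        intro x hx
        refine closure_induction (p := fun x _ => ∃ θ : F →* F, (∀ h u, θ (ψ h u) = ψ h (θ u)) ∧ θ v = x)
          ?_ ⟨1, fun h u => by simp, rfl⟩ ?_ ?_ hx
        · rintro _ ⟨z, rfl⟩
          refine ⟨(ψ (z : H)).toMonoidHom, fun h u => ?_, rfl⟩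
          show ψ (z : H) (ψ h u) = ψ h (ψ (z : H) u)
          rw [← MulAut.mul_apply, ← MulAut.mul_apply, ← map_mul, ← map_mul, hNc _ z.2 h]
        · rintro x y _ _ ⟨θ, h1, h2⟩ ⟨θ', h1', h2'⟩
          exact ⟨θ * θ', fun h u => by simp [h1, h1', map_mul], by simp [h2, h2']⟩
        · rintro x _ ⟨θ, h1, h2⟩
          exact ⟨θ⁻¹, fun h u => by simp [h1], by simp [h2]⟩
      obtain ⟨θ, hθ, hθv⟩ := hex _ hb
      have hagree : ∀ x ∈ W, ψ b x = θ x := by
        intro x hx
        refine closure_induction (p := fun x _ => ψ b x = θ x) ?_ (by simp)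
          (fun u w _ _ h1 h2 => by rw [map_mul, map_mul, h1, h2])
          (fun u _ h1 => by rw [map_inv, map_inv, h1]) hx
        rintro _ ⟨z, rfl⟩
        show ψ b (ψ (z : H) v) = θ (ψ (z : H) v)
        rw [hθ, hθv, ← MulAut.mul_apply, ← map_mul, hNc _ z.2 b, map_mul, MulAut.mul_apply]
      rw [map_mul, map_mul, MulAut.mul_apply, MulAut.mul_apply, ← hθv, ← hθ]
      exact (hagree _ (hLtop.ge (mem_top a))).symm
    obtain ⟨S⟩ : Nonempty (Sylow 2 H) := inferInstance
    exact hnc ⟨S, _, inferInstance, MonoidHom.ker_transferSylow_isComplement' S fun x _ =>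
      mem_centralizer_iff.2 fun y _ => hcomm y x⟩
  obtain ⟨f', hf'⟩ := IsPGroup.iff_card.1 hF
  obtain ⟨e', he'⟩ := IsPGroup.iff_card.1 (hF.to_subgroup W)
  have heq : L.index * (p ^ e' - 1) = 12 * Nat.card N := by
    rw [← hcardH, ← he', ← hLcard, index_mul_card]
  have hr2 : 2 ≤ L.index := by
    have h0 : L.index ≠ 0 := index_ne_zero_of_finite
    have h1 : L.index ≠ 1 := fun e => hLtop (index_eq_one.1 e)
    omega
  have hN3 : ¬ 3 ∣ Nat.card N := fun h3 =>
    arith hp.out (c := Nat.card N) (f := f') (by rw [← hcardH, hHcard, hf']) h3 Nat.card_pos.ne' hr12 hr2 heq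
  haveI : Fact (Nat.Prime 3) := ⟨Nat.prime_three⟩
  obtain ⟨y, hy⟩ := exists_prime_orderOf_dvd_card' (G := H) 3 (hcardH ▸ (dvd_mul_of_dvd_left (by norm_num) _))
  have hfy : f y ≠ 1 := fun e => hN3 (by
    rw [← hy]
    exact Subgroup.orderOf_dvd_natCard N (by rw [← hfk]; exact e))
  obtain ⟨g, hg1, hg2, hg3⟩ := a4_moves (f y)
    (by rw [← map_pow, ← hy, pow_orderOf_eq_one, map_one]) hfy
  obtain ⟨h, rfl⟩ := hf g
  have hconj : orderOf (h * y * h⁻¹) = 3 := by
    rw [← hy]; exact MulEquiv.orderOf_eq (MulAut.conj h) y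
  have hZ := hthree (zpowers y) (zpowers (h * y * h⁻¹)) (by rw [Nat.card_zpowers, hy])
    (by rw [Nat.card_zpowers, hconj])
  have hmem : h * y * h⁻¹ ∈ zpowers y := hZ ▸ mem_zpowers _
  rw [← mem_powers_iff_mem_zpowers, Submonoid.mem_powers_iff] at hmem
  obtain ⟨i, hi⟩ := hmem
  rw [← pow_mod_orderOf, hy] at hi
  have he : f (h * y * h⁻¹) = f h * f y * (f h)⁻¹ := by rw [map_mul, map_mul, map_inv]
  rw [← hi, map_pow] at he
  have : i % 3 < 3 := Nat.mod_lt _ (by norm_num)
  interval_cases hh : i % 3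
  · exact hg1 (he.symm.trans (pow_zero _))
  · exact hg2 (he.symm.trans (pow_one _))
  · exact hg3 (he.symm.trans (pow_two _))

end Cfsg.Agent.Zassenhaus
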