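import Cfsg.Agent.Zassenhaus.Basic
import Cfsg.Agent.Zassenhaus.IndexTwo

/-! The element swapping the two points, and index two subgroups in the sharply triply transitive
case. -/

set_option autoImplicit false

namespace Cfsg.Agent.Zassenhaus

open Subgroup MulAction

variable {G Ω : Type*} [Group G] [MulAction G Ω]

theorem swap_conj_mem {a b : Ω} {s : G} (hsa : s • a = b) (hsb : s • b = a)
    {h : G} (hh : h ∈ twoPt G a b) : s * h * s⁻¹ ∈ twoPt G a b := by
  have h1 : s⁻¹ • a = b := inv_smul_eq_iff.2 hsb.symm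
  have h2 : s⁻¹ • b = a := inv_smul_eq_iff.2 hsa.symm
  constructor
  · show (s * h * s⁻¹) • a = a
    rw [mul_smul, mul_smul, h1, show h • b = b from hh.2, hsb]
  · show (s * h * s⁻¹) • b = b
    rw [mul_smul, mul_smul, h2, show h • a = a from hh.1, hsa]

theorem ZCtx.swap_sq (C : ZCtx G Ω) {a b c : Ω} {s : G} (hab : a ≠ b) (hac : a ≠ c) (hbc : b ≠ c)
    (hsa : s • a = b) (hsb : s • b = a) (hsc : s • c = c) : s * s = 1 :=
  C.three _ a b c hab hbc hac (by rw [mul_smul, hsa, hsb]) (by rw [mul_smul, hsb, hsa])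
    (by rw [mul_smul, hsc, hsc])

/-- Conjugation by an involution swapping `a` and `b`. -/
noncomputable def swapAut {a b : Ω} {s : G} (hsa : s • a = b) (hsb : s • b = a) (hs2 : s * s = 1) :
    MulAut (twoPt G a b) where
  toFun h := ⟨s * h * s⁻¹, swap_conj_mem hsa hsb h.2⟩
  invFun h := ⟨s * h * s⁻¹, swap_conj_mem hsa hsb h.2⟩
  left_inv h := Subtype.ext (by
    have e : s⁻¹ = s := inv_eq_of_mul_eq_one_right hs2
    show s * (s * h * s⁻¹) * s⁻¹ = (h : G)
    rw [e, ← mul_assoc, ← mul_assoc, hs2, one_mul, mul_assoc, hs2, mul_one])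
  right_inv h := Subtype.ext (by
    have e : s⁻¹ = s := inv_eq_of_mul_eq_one_right hs2
    show s * (s * h * s⁻¹) * s⁻¹ = (h : G)
    rw [e, ← mul_assoc, ← mul_assoc, hs2, one_mul, mul_assoc, hs2, mul_one])
  map_mul' h k := Subtype.ext (by simp [mul_assoc])

theorem swapAut_coe {a b : Ω} {s : G} (hsa : s • a = b) (hsb : s • b = a) (hs2 : s * s = 1)
    (h : twoPt G a b) : ((swapAut hsa hsb hs2 h : twoPt G a b) : G) = s * h * s⁻¹ := rfl

theorem swapAut_invol {a b : Ω} {s : G} (hsa : s • a = b) (hsb : s • b = a) (hs2 : s * s = 1)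
    (h : twoPt G a b) : swapAut hsa hsb hs2 (swapAut hsa hsb hs2 h) = h :=
  (swapAut hsa hsb hs2).left_inv h

theorem card_fixed_le_two [Finite G] [Finite Ω] (C : ZCtx G Ω) (h3 : 3 ≤ Nat.card Ω) {a b c : Ω}
    {s : G} (hab : a ≠ b) (hac : a ≠ c) (hbc : b ≠ c) (hsa : s • a = b) (hsb : s • b = a)
    (hsc : s • c = c) :
    Nat.card {h : twoPt G a b // swapAut hsa hsb (C.swap_sq hab hac hbc hsa hsb hsc) h = h} ≤ 2 := by
  classical
  haveI := Fintype.ofFinite Ω
  have hs1 : s ≠ 1 := fun e => hab (by rw [← hsa, e, one_smul])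
  have hfx : ((Finset.univ : Finset Ω).filter fun x => s • x = x).card ≤ 2 := by
    rw [← not_lt, Finset.two_lt_card_iff]
    rintro ⟨x, y, z, hx, hy, hz, hxy, hxz, hyz⟩
    exact hs1 (C.three s x y z hxy hyz hxz (Finset.mem_filter.1 hx).2 (Finset.mem_filter.1 hy).2
      (Finset.mem_filter.1 hz).2)
  rw [← Fintype.card_subtype, ← Nat.card_eq_fintype_card] at hfx
  have key : ∀ h : {h : twoPt G a b //
      swapAut hsa hsb (C.swap_sq hab hac hbc hsa hsb hsc) h = h},
      s • (h.1 : G) • c = (h.1 : G) • c := fun h => by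
    have h1 : s * (h.1 : G) * s⁻¹ = h.1 := congrArg Subtype.val h.2
    calc s • (h.1 : G) • c = (s * (h.1 : G) * s⁻¹) • (s • c) := by
          rw [mul_smul, mul_smul, inv_smul_smul]
      _ = (h.1 : G) • c := by rw [h1, hsc]
  refine le_trans (Nat.card_le_card_of_injective (β := {x : Ω // s • x = x})
    (fun h => ⟨(h.1 : G) • c, key h⟩) ?_) hfx
  · intro h k e
    have e' : (h.1 : G) • c = (k.1 : G) • c := congrArg Subtype.val e
    have := C.eq_one hab (mul_mem (inv_mem k.1.2) h.1.2) (Ne.symm hac) (Ne.symm hbc)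
      (by rw [mul_smul, e', inv_smul_smul])
    exact Subtype.ext (Subtype.ext (eq_of_inv_mul_eq_one this).symm)

/-- In the sharply triply transitive case of even degree, an invariant subgroup of index two. -/
theorem ZCtx.exists_index_two [Finite G] [Finite Ω] (C : ZCtx G Ω) (h3 : 3 ≤ Nat.card Ω)
    (heven : Even (Nat.card Ω)) {a b c : Ω} {s : G} (hab : a ≠ b) (hac : a ≠ c) (hbc : b ≠ c)
    (hsa : s • a = b) (hsb : s • b = a) (hsc : s • c = c)
    (hth : ∀ x y : Ω, x ≠ a → x ≠ b → y ≠ a → y ≠ b → ∃ h ∈ twoPt G a b, h • x = y)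
    (hthree : ∀ A B : Subgroup G, A ≤ twoPt G a b → B ≤ twoPt G a b →
      Nat.card A = 3 → Nat.card B = 3 → A = B) :
    ∃ N : Subgroup (twoPt G a b), N.index = 2 ∧
      ∀ h ∈ N, swapAut hsa hsb (C.swap_sq hab hac hbc hsa hsb hsc) h ∈ N := by
  classical
  haveI := Fintype.ofFinite Ω
  -- the two-point stabiliser is nontrivial
  obtain ⟨x, hxa, hxb, hxc⟩ : ∃ x : Ω, x ≠ a ∧ x ≠ b ∧ x ≠ c := by
    have h4 : 4 ≤ Nat.card Ω := by obtain ⟨k, hk⟩ := heven; omega
    obtain ⟨x, -, hx⟩ := Finset.exists_mem_notMem_of_card_lt_card (s := ({a, b, c} : Finset Ω))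
      (t := Finset.univ) (lt_of_le_of_lt Finset.card_le_three
        (by rw [Finset.card_univ, ← Nat.card_eq_fintype_card]; omega))
    simp only [Finset.mem_insert, Finset.mem_singleton, not_or] at hx
    exact ⟨x, hx.1, hx.2.1, hx.2.2⟩
  obtain ⟨h₀, hh₀, hh₀c⟩ := hth c x (Ne.symm hac) (Ne.symm hbc) hxa hxb
  have hne : twoPt G a b ≠ ⊥ := fun e => by
    rw [e, mem_bot] at hh₀
    rw [hh₀, one_smul] at hh₀c
    exact hxc hh₀c.symm
  obtain ⟨F, hF⟩ := C.exists_kernel h3 hab hne
  have hn := hF.card_eq hab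
  -- the order of the two-point stabiliser
  have hd : Nat.card (twoPt G a b) = Nat.card Ω - 2 := by
    have e : twoPt G a b ≃ {x : Ω // x ∈ ({a, b} : Finset Ω)ᶜ} := Equiv.ofBijective
      (fun h => ⟨(h : G) • c, by
        simp only [Finset.mem_compl, Finset.mem_insert, Finset.mem_singleton, not_or]
        exact ⟨fun e => hac (MulAction.injective (h : G) (e.trans h.2.1.symm)).symm,
          fun e => hbc (MulAction.injective (h : G) (e.trans h.2.2.symm)).symm⟩⟩)
      ⟨fun h k e => Subtype.ext (eq_of_inv_mul_eq_one (C.eq_one hab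
          (mul_mem (inv_mem k.2) h.2) (Ne.symm hac) (Ne.symm hbc)
          (by rw [mul_smul, show (h : G) • c = (k : G) • c from congrArg Subtype.val e,
            inv_smul_smul]))).symm,
        fun y => by
          have hy := y.2
          simp only [Finset.mem_compl, Finset.mem_insert, Finset.mem_singleton, not_or] at hy
          obtain ⟨h, hh, e⟩ := hth c y (Ne.symm hac) (Ne.symm hbc) hy.1 hy.2
          exact ⟨⟨h, hh⟩, Subtype.ext e⟩⟩
    rw [Nat.card_congr e, Nat.card_eq_finsetCard, Finset.card_compl, Finset.card_pair hab,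
      Nat.card_eq_fintype_card]
  obtain ⟨hcomm, p, hp, hpg, -⟩ := hF.elementary C hab h3 (by omega)
  haveI := Fact.mk hp
  haveI := hcomm
  haveI : Nontrivial F := Finite.one_lt_card_iff_nontrivial.1 (by omega)
  letI : CommGroup F := { (inferInstance : Group F) with mul_comm := mul_comm' }
  refine exists_invariant_index_two hpg hF.act (hF.act_fpf C hab) ?_ ?_ ?_ _
    (swapAut_invol hsa hsb _) (card_fixed_le_two C h3 hab hac hbc hsa hsb hsc)
  · intro u v hu hv
    have hub : ((u : F) : G) • b ≠ b := fun e => hu (Subtype.ext (hF.eq_one_of_fix u.2 (Ne.symm hab) e))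
    have hvb : ((v : F) : G) • b ≠ b := fun e => hv (Subtype.ext (hF.eq_one_of_fix v.2 (Ne.symm hab) e))
    obtain ⟨h, hh, e⟩ := hth _ _ (hF.smul_ne u.2 (Ne.symm hab)) hub (hF.smul_ne v.2 (Ne.symm hab)) hvb
    refine ⟨⟨h, hh⟩, Subtype.ext (hF.eq_of_smul (hF.act ⟨h, hh⟩ u).2 v.2 (Ne.symm hab) ?_)⟩
    rw [hF.act_smul]; exact e
  · rw [hd]
    exact (Nat.even_sub (by omega)).2 ⟨fun _ => even_two, fun _ => heven⟩ |> even_iff_two_dvd.1
  · intro A B hA hB
    refine map_injective (twoPt G a b).subtype_injective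
      (hthree _ _ (map_subtype_le A) (map_subtype_le B) ?_ ?_)
    · rw [card_map_of_injective (twoPt G a b).subtype_injective]; exact hA
    · rw [card_map_of_injective (twoPt G a b).subtype_injective]; exact hB

end Cfsg.Agent.Zassenhaus
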