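import Mathlib

/-!
Integer rows with Gram matrix `I + k a aᵀ`: if there are three rows of weight one and the weights
grow slowly, the rows are `a c + ε δ` for distinct points.
-/

set_option autoImplicit false
set_option linter.style.haveILetI false

namespace Cfsg.Agent.Zassenhaus

variable {X : Type*} [Fintype X] [DecidableEq X]

/-- An integer vector of norm one is a signed unit vector. -/
theorem unit_of_norm_one (v : X → ℤ) (h : ∑ χ, v χ * v χ = 1) :
    ∃ (μ : X) (s : ℤ), (s = 1 ∨ s = -1) ∧ ∀ χ, v χ = if χ = μ then s else 0 := by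
  obtain ⟨μ, -, hμ⟩ := Finset.exists_ne_zero_of_sum_ne_zero (s := Finset.univ)
    (f := fun χ => v χ * v χ) (by rw [h]; exact one_ne_zero)
  have hμ0 : v μ ≠ 0 := fun e => hμ (by simp [e])
  have hsplit := Finset.add_sum_erase Finset.univ (fun χ => v χ * v χ) (Finset.mem_univ μ)
  have hnn : 0 ≤ ∑ χ ∈ Finset.univ.erase μ, v χ * v χ :=
    Finset.sum_nonneg fun χ _ => mul_self_nonneg _
  have h1 : 1 ≤ v μ * v μ := (Int.one_le_abs (mul_ne_zero hμ0 hμ0)).trans_eq (abs_mul_self _)
  have h2 : v μ * v μ = 1 := by linarith [hsplit, h]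
  have h3 : ∑ χ ∈ Finset.univ.erase μ, v χ * v χ = 0 := by linarith [hsplit, h]
  refine ⟨μ, v μ, mul_self_eq_one_iff.1 h2, fun χ => ?_⟩
  by_cases hχ : χ = μ
  · rw [if_pos hχ, hχ]
  · rw [if_neg hχ]
    exact mul_self_eq_zero.1 ((Finset.sum_eq_zero_iff_of_nonneg fun χ _ => mul_self_nonneg (v χ)).1
      h3 χ (Finset.mem_erase.2 ⟨hχ, Finset.mem_univ _⟩))

/-- An integer vector of norm two orthogonal to a positive vector is a difference of unit vectors. -/
theorem pair_of_norm_two (v deg : X → ℤ) (hdeg : ∀ χ, 0 < deg χ) (h : ∑ χ, v χ * v χ = 2)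
    (h0 : ∑ χ, v χ * deg χ = 0) :
    ∃ μ ν : X, μ ≠ ν ∧ ∀ χ, v χ = (if χ = μ then 1 else 0) - if χ = ν then 1 else 0 := by
  have hex : ∀ s : ℤ, (s = 1 ∨ s = -1) → ∃ χ, 1 ≤ s * v χ := by
    intro s hs
    by_contra! hall
    have hz : ∀ χ ∈ (Finset.univ : Finset X), s * v χ * deg χ = 0 := by
      refine (Finset.sum_eq_zero_iff_of_nonpos fun χ _ => ?_).1 ?_
      · exact mul_nonpos_of_nonpos_of_nonneg (by have := hall χ; omega) (hdeg χ).le
      · simp [mul_assoc, ← Finset.mul_sum, h0]
    have hv : ∀ χ, v χ = 0 := fun χ => by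
      rcases mul_eq_zero.1 (hz χ (Finset.mem_univ _)) with h1 | h1
      · rcases hs with rfl | rfl <;> omega
      · exact absurd h1 (hdeg χ).ne'
    simp [hv] at h
  obtain ⟨μ, hμ⟩ := hex 1 (Or.inl rfl)
  obtain ⟨ν, hν⟩ := hex (-1) (Or.inr rfl)
  have hne : μ ≠ ν := fun e => by subst e; omega
  refine ⟨μ, ν, hne, fun χ => ?_⟩
  have hle : v μ * v μ + v ν * v ν + (∑ χ ∈ (Finset.univ.erase μ).erase ν, v χ * v χ) = 2 := by
    rw [← h, ← Finset.add_sum_erase Finset.univ _ (Finset.mem_univ μ),
      ← Finset.add_sum_erase (Finset.univ.erase μ) _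
        (Finset.mem_erase.2 ⟨Ne.symm hne, Finset.mem_univ ν⟩), add_assoc]
  have hnn : 0 ≤ ∑ χ ∈ (Finset.univ.erase μ).erase ν, v χ * v χ :=
    Finset.sum_nonneg fun χ _ => mul_self_nonneg _
  have h1 : v μ = 1 := by nlinarith
  have h2 : v ν = -1 := by nlinarith
  rw [h1, h2] at hle
  by_cases hχμ : χ = μ
  · subst hχμ; rw [if_pos rfl, if_neg hne, h1]; ring
  by_cases hχν : χ = ν
  · subst hχν; rw [if_neg hχμ, if_pos rfl, h2]; ring
  rw [if_neg hχμ, if_neg hχν, sub_zero]
  exact mul_self_eq_zero.1 ((Finset.sum_eq_zero_iff_of_nonneg fun χ _ => mul_self_nonneg (v χ)).1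
    (by linarith) χ (Finset.mem_erase.2 ⟨hχν, Finset.mem_erase.2 ⟨hχμ, Finset.mem_univ _⟩⟩))

theorem inner_pairs {μ ν μ' ν' : X} (h : ∑ χ : X, ((if χ = μ then (1 : ℤ) else 0) - if χ = ν then 1 else 0) *
      ((if χ = μ' then (1 : ℤ) else 0) - if χ = ν' then 1 else 0) = 1) :
    (if μ = μ' then (1 : ℤ) else 0) - (if μ = ν' then 1 else 0) - (if ν = μ' then 1 else 0) +
      (if ν = ν' then 1 else 0) = 1 := by
  simp only [sub_mul, mul_sub, Finset.sum_sub_distrib, ite_mul, one_mul, zero_mul,
    Finset.sum_ite_eq', Finset.mem_univ, if_true] at h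
  linarith

/-- The rows of weight one. -/
theorem exists_seed {ι : Type*} (u : ι → X → ℤ) (deg : X → ℤ) (hdeg : ∀ χ, 0 < deg χ) (k K : ℤ)
    (hgram : ∀ i j, i = j → ∑ χ, u i χ * u j χ = 1 + k)
    (hgram' : ∀ i j, i ≠ j → ∑ χ, u i χ * u j χ = k)
    (hK : ∀ i, ∑ χ, u i χ * deg χ = K) {i₁ i₂ i₃ : ι} (h12 : i₁ ≠ i₂) (h13 : i₁ ≠ i₃)
    (h23 : i₂ ≠ i₃) :
    ∃ (e : ι → X) (c : X → ℤ) (ε : ℤ), (ε = 1 ∨ ε = -1) ∧
      ∀ i χ, u i χ = c χ + if χ = e i then ε else 0 := by
  classical
  -- the differences of two rows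
  have hdiff : ∀ i j, i ≠ j → ∃ μ ν : X, μ ≠ ν ∧
      ∀ χ, u i χ - u j χ = (if χ = μ then 1 else 0) - if χ = ν then 1 else 0 := by
    intro i j hij
    refine pair_of_norm_two _ deg hdeg ?_ ?_
    · simp only [sub_mul, mul_sub, Finset.sum_sub_distrib, hgram i i rfl, hgram j j rfl,
        hgram' i j hij, hgram' j i (Ne.symm hij)]
      ring
    · simp [sub_mul, Finset.sum_sub_distrib, hK]
  have hone : ∀ i j, i ≠ j → i ≠ i₁ → j ≠ i₁ →
      ∑ χ, (u i₁ χ - u i χ) * (u i₁ χ - u j χ) = 1 := by
    intro i j hij hi hj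
    simp only [sub_mul, mul_sub, Finset.sum_sub_distrib, hgram i₁ i₁ rfl, hgram' i j hij,
      hgram' i i₁ hi, hgram' i₁ j (Ne.symm hj)]
    ring
  obtain ⟨A, B, hAB, h2⟩ := hdiff i₁ i₂ h12
  obtain ⟨C, D, hCD, h3⟩ := hdiff i₁ i₃ h13
  have h23' := hone i₂ i₃ h23 (Ne.symm h12) (Ne.symm h13)
  simp only [h2, h3] at h23'
  have hABCD := inner_pairs h23'
  have hne23 : ¬ (A = C ∧ B = D) := fun ⟨e1, e2⟩ => by
    subst e1 e2
    rw [if_pos rfl, if_pos rfl, if_neg hAB, if_neg (Ne.symm hAB)] at hABCD
    omega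
  by_cases hAC : A = C
  · subst hAC
    have hBD : B ≠ D := fun e => hne23 ⟨rfl, e⟩
    have hall : ∀ i, ∃ Y : X, ∀ χ,
        u i χ = (u i₁ χ - if χ = A then 1 else 0) + if χ = Y then 1 else 0 := by
      intro i
      by_cases hi : i = i₁
      · subst hi; exact ⟨A, fun χ => by ring⟩
      obtain ⟨P, Q, hPQ, h⟩ := hdiff i₁ i (Ne.symm hi)
      have hPA : A = P := by
        by_contra hne
        have hB : B = Q := by
          by_cases hi2 : i = i₂
          · subst hi2
            exfalso
            have := h2 A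
            rw [h A, if_pos rfl, if_neg hAB, if_neg hne] at this
            split_ifs at this <;> omega
          · have := hone i₂ i (Ne.symm hi2) (Ne.symm h12) hi
            simp only [h2, h] at this
            have := inner_pairs this
            rw [if_neg hne] at this
            by_contra hBQ
            rw [if_neg hBQ] at this
            split_ifs at this <;> omega
        have hD : D = Q := by
          by_cases hi3 : i = i₃
          · subst hi3
            exfalso
            have := h3 A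
            rw [h A, if_pos rfl, if_neg hCD, if_neg hne] at this
            split_ifs at this <;> omega
          · have := hone i₃ i (Ne.symm hi3) (Ne.symm h13) hi
            simp only [h3, h] at this
            have := inner_pairs this
            rw [if_neg hne] at this
            by_contra hDQ
            rw [if_neg hDQ] at this
            split_ifs at this <;> omega
        exact hBD (hB.trans hD.symm)
      subst hPA
      exact ⟨Q, fun χ => by have := h χ; linarith⟩
    choose e he using hall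
    exact ⟨e, _, 1, Or.inl rfl, he⟩
  · have hBD : B = D := by
      by_contra hne
      rw [if_neg hAC, if_neg hne] at hABCD
      split_ifs at hABCD <;> omega
    subst hBD
    have hall : ∀ i, ∃ Y : X, ∀ χ,
        u i χ = (u i₁ χ + if χ = B then 1 else 0) + if χ = Y then -1 else 0 := by
      intro i
      by_cases hi : i = i₁
      · subst hi; exact ⟨B, fun χ => by split_ifs <;> ring⟩
      obtain ⟨P, Q, hPQ, h⟩ := hdiff i₁ i (Ne.symm hi)
      have hQB : B = Q := by
        by_contra hne
        have hA : A = P := by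
          by_cases hi2 : i = i₂
          · subst hi2
            exfalso
            have := h2 B
            rw [h B, if_pos rfl, if_neg (Ne.symm hAB), if_neg hne] at this
            split_ifs at this <;> omega
          · have := hone i₂ i (Ne.symm hi2) (Ne.symm h12) hi
            simp only [h2, h] at this
            have := inner_pairs this
            rw [if_neg hne] at this
            by_contra hAP
            rw [if_neg hAP] at this
            split_ifs at this <;> omega
        have hC : C = P := by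
          by_cases hi3 : i = i₃
          · subst hi3
            exfalso
            have := h3 B
            rw [h B, if_pos rfl, if_neg (Ne.symm hCD), if_neg hne] at this
            split_ifs at this <;> omega
          · have := hone i₃ i (Ne.symm hi3) (Ne.symm h13) hi
            simp only [h3, h] at this
            have := inner_pairs this
            rw [if_neg hne] at this
            by_contra hCP
            rw [if_neg hCP] at this
            split_ifs at this <;> omega
        exact hAC (hA.trans hC.symm)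
      subst hQB
      exact ⟨P, fun χ => by have := h χ; split_ifs at * <;> linarith⟩
    choose e he using hall
    exact ⟨e, _, -1, Or.inr rfl, he⟩

theorem small_shift {ε A z : ℤ} (hε : ε = 1 ∨ ε = -1) (hA : 0 < A)
    (h : z * z * (2 * A + 2) ≤ 1 + 2 * ε * (A * z)) : z = 0 := by
  by_contra hne
  have hzz : 1 ≤ z * z := (Int.one_le_abs (mul_ne_zero hne hne)).trans_eq (abs_mul_self _)
  have h1 : 2 * ε * z ≤ z * z + 1 := by
    rcases hε with rfl | rfl <;> nlinarith [sq_nonneg (z - 1), sq_nonneg (z + 1)]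
  nlinarith [mul_le_mul_of_nonneg_left h1 hA.le, mul_le_mul_of_nonneg_left hzz hA.le]

variable {ι : Type*} [Fintype ι]

/-- Coherence for slowly growing weights. -/
theorem exists_coherent (m : ι → X → ℤ) (a : ι → ℕ) (deg : X → ℤ) (k K : ℤ)
    (ha : ∀ i, 0 < a i) (hdeg : ∀ χ, 0 < deg χ) [DecidableEq ι]
    (hgram : ∀ i j, ∑ χ, m i χ * m j χ = (if i = j then 1 else 0) + k * (a i * a j))
    (hK : ∀ i, ∑ χ, m i χ * deg χ = a i * K)
    (hseed : 3 ≤ (Finset.univ.filter fun i => a i = 1).card)
    (hgrow : ∀ i, 1 < a i →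
      2 * a i + 2 ≤ ∑ j ∈ Finset.univ.filter (fun j => a j < a i), a j * a j) :
    ∃ (e : ι → X) (c : X → ℤ) (ε x : ℤ), Function.Injective e ∧ (ε = 1 ∨ ε = -1) ∧
      (∀ i χ, m i χ = a i * c χ + if χ = e i then ε else 0) ∧ (∀ i, c (e i) = x * a i) ∧
      ∑ χ, c χ * c χ = k - 2 * ε * x := by
  classical
  obtain ⟨s₁, s₂, s₃, hs₁, hs₂, hs₃, h12, h13, h23⟩ := Finset.two_lt_card_iff.1 hseed
  simp only [Finset.mem_filter, Finset.mem_univ, true_and] at hs₁ hs₂ hs₃
  obtain ⟨e₀, c, ε, hε, hm₀⟩ := exists_seed (ι := {i : ι // a i = 1}) (fun i => m i) deg hdeg k K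
    (fun i j h => by subst h; rw [hgram, if_pos rfl, i.2]; push_cast; ring)
    (fun i j h => by rw [hgram, if_neg (fun e => h (Subtype.ext e)), i.2, j.2]; push_cast; ring)
    (fun i => by rw [hK, i.2]; push_cast; ring)
    (i₁ := ⟨s₁, hs₁⟩) (i₂ := ⟨s₂, hs₂⟩) (i₃ := ⟨s₃, hs₃⟩)
    (fun h => h12 (congrArg Subtype.val h)) (fun h => h13 (congrArg Subtype.val h))
    (fun h => h23 (congrArg Subtype.val h))
  have hεε : ε * ε = 1 := by rcases hε with h | h <;> simp [h]
  -- the defect of the common part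
  obtain ⟨x, hxdef⟩ : ∃ x, x = c (e₀ ⟨s₁, hs₁⟩) := ⟨_, rfl⟩
  have hnorm : ∀ (i : {i : ι // a i = 1}), ∑ χ, c χ * c χ + 2 * ε * c (e₀ i) = k := by
    intro i
    have h := hgram i i
    simp only [if_pos rfl, i.2, hm₀ i] at h
    simp only [add_mul, mul_add, Finset.sum_add_distrib, ite_mul, mul_ite, zero_mul, mul_zero,
      Finset.sum_ite_eq', Finset.mem_univ, if_true] at h
    push_cast at h
    linarith [hεε]
  have hcc : ∑ χ, c χ * c χ = k - 2 * ε * x := by have := hnorm ⟨s₁, hs₁⟩; rw [hxdef]; linarith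
  have hc₀ : ∀ i, c (e₀ i) = x := fun i => by
    have h := hnorm i
    rw [hcc] at h
    rcases hε with h' | h' <;> subst h' <;> linarith
  let Q : ι → X → Prop := fun i μ =>
    (∀ χ, m i χ = a i * c χ + if χ = μ then ε else 0) ∧ c μ = x * a i
  have hinj : ∀ i j μ, Q i μ → Q j μ → i = j := by
    intro i j μ hi hj
    by_contra hij
    have h := hgram i j
    simp only [if_neg hij, hi.1, hj.1] at h
    simp only [add_mul, mul_add, Finset.sum_add_distrib, ite_mul, mul_ite, zero_mul, mul_zero,
      Finset.sum_ite_eq', Finset.mem_univ, if_true] at h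
    have hs : ∑ χ, (a i : ℤ) * c χ * ((a j : ℤ) * c χ) = a i * a j * ∑ χ, c χ * c χ := by
      rw [Finset.mul_sum]
      exact Finset.sum_congr rfl fun χ _ => by ring
    have hx : x * (a i : ℤ) = x * a j := hi.2.symm.trans hj.2
    rw [hs, hcc, hi.2] at h
    have : (1 : ℤ) = 0 := by linear_combination h - hεε - (ε * (a i : ℤ)) * hx
    omega
  have hdegpos : ∀ i, 0 < (a i : ℤ) := fun i => by exact_mod_cast ha i
  have hD1 : ε * deg (e₀ ⟨s₁, hs₁⟩) = K - ∑ χ, c χ * deg χ := by
    have h := hK s₁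
    rw [Finset.sum_congr rfl fun χ _ => by rw [show m s₁ χ = _ from hm₀ ⟨s₁, hs₁⟩ χ, add_mul],
      Finset.sum_add_distrib, hs₁] at h
    simp only [ite_mul, zero_mul, Finset.sum_ite_eq', Finset.mem_univ, if_true] at h
    push_cast at h
    linarith
  have hall : ∀ n : ℕ, ∀ i, a i = n → ∃ μ, Q i μ := by
    intro n
    induction n using Nat.strong_induction_on with
    | _ n ih =>
      intro i hin
      rcases (Nat.one_le_iff_ne_zero.2 (ha i).ne').eq_or_lt' with h1 | h1
      · exact ⟨e₀ ⟨i, h1⟩, fun χ => by rw [h1, Nat.cast_one, one_mul]; exact hm₀ ⟨i, h1⟩ χ,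
          by rw [h1, Nat.cast_one, mul_one]; exact hc₀ ⟨i, h1⟩⟩
      set T := Finset.univ.filter fun j => a j < a i with hT
      have hTQ : ∀ j ∈ T, ∃ μ, Q j μ := fun j hj =>
        ih (a j) (hin ▸ (Finset.mem_filter.1 hj).2) j rfl
      haveI : Nonempty X := ⟨e₀ ⟨s₁, hs₁⟩⟩
      choose! μ hμ using hTQ
      set y := ε * (k * a i - ∑ χ, m i χ * c χ) with hy
      have hyv : ∀ j ∈ T, m i (μ j) = y * a j := by
        intro j hj
        have hij : i ≠ j := fun e => lt_irrefl _ (e ▸ (Finset.mem_filter.1 hj).2 : a j < a j)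
        have h := hgram i j
        rw [if_neg hij, Finset.sum_congr rfl fun χ _ => by rw [(hμ j hj).1 χ, mul_add],
          Finset.sum_add_distrib] at h
        simp only [mul_ite, mul_zero, Finset.sum_ite_eq', Finset.mem_univ, if_true,
          mul_left_comm (m i _) (a j : ℤ), ← Finset.mul_sum] at h
        linear_combination ε * h - m i (μ j) * hεε - (a j : ℤ) * hy
      set z := y - a i * x with hz
      set w : X → ℤ := fun χ => m i χ - a i * c χ with hw
      have hww : ∑ χ, w χ * w χ = 1 + 2 * ε * (a i * z) := by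
        have h := hgram i i
        rw [if_pos rfl] at h
        simp only [hw, sub_mul, mul_sub, Finset.sum_sub_distrib, mul_assoc (a i : ℤ),
          mul_left_comm (m i _) (a i : ℤ), mul_left_comm (c _) (a i : ℤ), ← Finset.mul_sum,
          mul_comm (c _) (m i _), h, hcc]
        linear_combination (-2 * (a i : ℤ) * ε) * hz - (2 * (a i : ℤ) * ε) * hy
          - (2 * (a i : ℤ) * (k * a i - ∑ χ, m i χ * c χ)) * hεε
      have hμinj : Set.InjOn μ T := fun j hj j' hj' e => hinj j j' _ (hμ j hj) (e ▸ hμ j' hj')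
      have hlow : z * z * ∑ j ∈ T, (a j : ℤ) * a j ≤ ∑ χ, w χ * w χ := by
        rw [Finset.mul_sum]
        calc ∑ j ∈ T, z * z * ((a j : ℤ) * a j) = ∑ j ∈ T, w (μ j) * w (μ j) := by
              refine Finset.sum_congr rfl fun j hj => ?_
              simp only [hw, hyv j hj, (hμ j hj).2, hz]
              ring
          _ = ∑ χ ∈ T.image μ, w χ * w χ := (Finset.sum_image (f := fun χ => w χ * w χ) hμinj).symm
          _ ≤ _ := Finset.sum_le_sum_of_subset_of_nonneg (Finset.subset_univ _)
              fun χ _ _ => mul_self_nonneg _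
      have hT2 : 2 * (a i : ℤ) + 2 ≤ ∑ j ∈ T, (a j : ℤ) * a j := by exact_mod_cast hgrow i h1
      have hz0 : z = 0 := small_shift hε (hdegpos i)
        (hww ▸ (mul_le_mul_of_nonneg_left hT2 (mul_self_nonneg _)).trans hlow)
      rw [hz0, mul_zero, mul_zero, add_zero] at hww
      obtain ⟨ν, s, hs, hν⟩ := unit_of_norm_one w hww
      have hdegw : s * deg ν = a i * (K - ∑ χ, c χ * deg χ) := by
        have h1' : ∑ χ, w χ * deg χ = s * deg ν := by simp [hν]
        rw [← h1']
        simp only [hw, sub_mul, Finset.sum_sub_distrib, hK, mul_assoc, ← Finset.mul_sum]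
        ring
      rw [← hD1] at hdegw
      have hsε : s = ε := by
        have h5 : 0 < (a i : ℤ) * deg (e₀ ⟨s₁, hs₁⟩) := mul_pos (hdegpos i) (hdeg _)
        have h6 := hdeg ν
        rcases hs with rfl | rfl <;> rcases hε with h' | h' <;> subst h' <;>
          first | rfl | (exfalso; linarith [hdegw, h5, h6])
      subst hsε
      refine ⟨ν, fun χ => by rw [← hν χ, hw]; ring, ?_⟩
      have h7 : ∑ χ, w χ * c χ = s * c ν := by simp [hν]
      have h8 : ∑ χ, w χ * c χ = ∑ χ, m i χ * c χ - a i * (k - 2 * s * x) := by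
        simp only [hw, sub_mul, Finset.sum_sub_distrib, mul_assoc, ← Finset.mul_sum, hcc]
      linear_combination s * h8 - s * h7 + hy + (2 * (a i : ℤ) * x - c ν) * hεε + hz - hz0
  choose e he using fun i => hall (a i) i rfl
  exact ⟨e, c, ε, x, fun i j hij => hinj i j _ (he i) (hij ▸ he j), hε, fun i => (he i).1,
    fun i => (he i).2, hcc⟩

end Cfsg.Agent.Zassenhaus
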