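import Cfsg.Agent.Zassenhaus.FieldModel
import Cfsg.Agent.Zassenhaus.IndexTwo
import Mathlib.GroupTheory.FixedPointFree

/-!
A group acting regularly on the nontrivial elements of an elementary abelian group of odd rank
over an odd prime, with an involutory automorphism fixing at most two elements, is abelian.
-/

set_option autoImplicit false
set_option linter.style.haveILetI false

namespace Cfsg.Agent.Zassenhaus

open Subgroup

/-- An involution of a finite field of odd degree over a prime field is trivial. -/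
theorem ringInvolution_eq_id {K : Type*} [Field K] [Fintype K] {p f : ℕ} (hp : p.Prime)
    (hp2 : p ≠ 2) (hf : Odd f) (hK : Fintype.card K = p ^ f) (g : K →+* K)
    (hgg : ∀ x, g (g x) = x) : ∀ x, g x = x := by
  classical
  by_contra! hne
  obtain ⟨x₀, hx₀⟩ := hne
  have h2 : (2 : K) ≠ 0 := fun h => by
    haveI := Fact.mk hp
    haveI : CharP K p := by
      obtain ⟨q, hq⟩ := CharP.exists K
      haveI := hq
      have hqp : q.Prime := CharP.char_is_prime K q
      have h1 := FiniteField.cast_card_eq_zero K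
      rw [hK, CharP.cast_eq_zero_iff K q] at h1
      exact (Nat.prime_dvd_prime_iff_eq hqp hp).1 (hqp.dvd_of_dvd_pow h1) ▸ hq
    have h1 : ((2 : ℕ) : K) = 0 := by exact_mod_cast h
    rw [CharP.cast_eq_zero_iff K p] at h1
    exact hp2 ((Nat.prime_dvd_prime_iff_eq hp Nat.prime_two).1 h1)
  let S : AddSubgroup K :=
    { carrier := {x | g x = x}
      zero_mem' := map_zero g
      add_mem' := fun {x y} hx hy => by
        show g (x + y) = x + y
        rw [map_add, show g x = x from hx, show g y = y from hy]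
      neg_mem' := fun {x} hx => by
        show g (-x) = -x
        rw [map_neg, show g x = x from hx] }
  set a := x₀ - g x₀ with ha
  have ha0 : a ≠ 0 := sub_ne_zero.2 (Ne.symm hx₀)
  have hga : g a = -a := by rw [ha, map_sub, hgg]; ring
  let φ : S × S → K := fun q => (q.1 : K) + a * q.2
  have hφ : Function.Bijective φ := by
    refine ⟨fun q r e => ?_, fun x => ?_⟩
    · have e1 : (q.1 : K) + a * q.2 = r.1 + a * r.2 := e
      have e2 := congrArg g e1
      rw [map_add, map_add, map_mul, map_mul, hga, show g (q.1 : K) = q.1 from q.1.2,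
        show g (q.2 : K) = q.2 from q.2.2, show g (r.1 : K) = r.1 from r.1.2,
        show g (r.2 : K) = r.2 from r.2.2] at e2
      have h1 : (2 : K) * ((q.1 : K) - r.1) = 0 := by linear_combination e1 + e2
      have h1' := sub_eq_zero.1 ((mul_eq_zero.1 h1).resolve_left h2)
      have h3 : (2 : K) * a * ((q.2 : K) - r.2) = 0 := by linear_combination e1 - e2
      exact Prod.ext (Subtype.ext h1')
        (Subtype.ext (sub_eq_zero.1 ((mul_eq_zero.1 h3).resolve_left (mul_ne_zero h2 ha0))))
    · refine ⟨(⟨(x + g x) / 2, ?_⟩, ⟨(x - g x) / (2 * a), ?_⟩), ?_⟩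
      · show g ((x + g x) / 2) = (x + g x) / 2
        rw [map_div₀, map_add, hgg, map_ofNat, add_comm]
      · show g ((x - g x) / (2 * a)) = (x - g x) / (2 * a)
        rw [map_div₀, map_sub, hgg, map_mul, map_ofNat, hga, mul_neg, div_neg, ← neg_div, neg_sub]
      · show (x + g x) / 2 + a * ((x - g x) / (2 * a)) = x
        field_simp
        ring
  have hcard := Nat.card_eq_of_bijective φ hφ
  rw [Nat.card_prod, Nat.card_eq_fintype_card (α := K), hK] at hcard
  have hdvd : Nat.card S ∣ p ^ f := by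
    rw [← hK, ← Nat.card_eq_fintype_card]
    exact AddSubgroup.card_addSubgroup_dvd_card S
  obtain ⟨i, -, hi⟩ := (Nat.dvd_prime_pow hp).1 hdvd
  rw [hi, ← pow_add] at hcard
  have := Nat.pow_right_injective hp.two_le hcard
  obtain ⟨j, hj⟩ := hf
  omega

/-- The determinant of minus the identity. -/
theorem det_of_neg {k V : Type*} [Field k] [AddCommGroup V] [Module k V] [FiniteDimensional k V]
    (T : V →ₗ[k] V) (h : ∀ v, T v = -v) :
    LinearMap.det T = (-1) ^ Module.finrank k V := by
  classical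
  have e : T = (-1 : k) • LinearMap.id := LinearMap.ext fun v => by
    rw [h, LinearMap.smul_apply, LinearMap.id_apply, neg_smul, one_smul]
  rw [e, LinearMap.det_smul, LinearMap.det_id, mul_one]

variable {F H : Type*} [CommGroup F] [Finite F] [Group H] [Finite H]

/-- The regular group is abelian. -/
theorem comm_of_odd_rank {p f : ℕ} [hp : Fact p.Prime] (hp2 : p ≠ 2) (hf : Odd f)
    (hF : Nat.card F = p ^ f) (hexp : ∀ u : F, u ^ p = 1) (ψ : H →* MulAut F)
    (hfpf : ∀ h : H, h ≠ 1 → ∀ u : F, ψ h u = u → u = 1) (hd : Nat.card H + 1 = Nat.card F)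
    (τ : MulAut H) (hinv : ∀ x, τ (τ x) = x) (hfix : Nat.card {x : H // τ x = x} ≤ 2) :
    ∀ a b : H, a * b = b * a := by
  classical
  have hpx : ∀ u : Additive F, p • u = 0 := fun u =>
    Additive.toMul.injective (by rw [toMul_nsmul, hexp, toMul_zero])
  letI hmod := AddCommGroup.zmodModule (n := p) hpx
  haveI : Fintype (Additive F) := Fintype.ofFinite _
  have hrank : Module.finrank (ZMod p) (Additive F) = f := by
    have h := Module.card_eq_pow_finrank (K := ZMod p) (V := Additive F)
    rw [ZMod.card, ← Nat.card_eq_fintype_card,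
      Nat.card_congr (Additive.toMul : Additive F ≃ F), hF] at h
    exact (Nat.pow_right_injective hp.out.two_le h).symm
  let L : H → (Additive F →ₗ[ZMod p] Additive F) := fun h =>
    (MonoidHom.toAdditive (ψ h).toMonoidHom).toZModLinearMap p
  have hL1 : L 1 = LinearMap.id := LinearMap.ext fun u => by
    show ((MonoidHom.toAdditive (ψ 1).toMonoidHom).toZModLinearMap p) u = u
    rw [AddMonoidHom.coe_toZModLinearMap, map_one]; rfl
  have hLmul : ∀ h k, L (h * k) = (L h).comp (L k) := fun h k => LinearMap.ext fun u => by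
    rw [LinearMap.comp_apply]
    simp only [L, AddMonoidHom.coe_toZModLinearMap, map_mul]
    rfl
  let D : H →* (ZMod p)ˣ := MonoidHom.toHomUnits
    { toFun := fun h => LinearMap.det (L h)
      map_one' := by rw [hL1, LinearMap.det_id]
      map_mul' := fun h k => by rw [hLmul, LinearMap.det_comp] }
  have hDneg : ∀ z : H, orderOf z = 2 → (D z : ZMod p) = -1 := by
    intro z hz1
    have hzinv : ∀ u : F, ψ z u = u⁻¹ := fun u => by
      have hz1' : z ≠ 1 := fun e => by rw [e, orderOf_one] at hz1; omega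
      have hzz : ψ z (ψ z u) = u := by
        rw [← MulAut.mul_apply, ← map_mul, ← pow_two, ← hz1, pow_orderOf_eq_one, map_one]; rfl
      have := hfpf z hz1' (u * ψ z u) (by rw [map_mul, hzz, mul_comm])
      exact eq_inv_of_mul_eq_one_right this
    have hLz : ∀ u : Additive F, DFunLike.coe (L z) u = -u := fun u => by
      show Additive.ofMul (ψ z u.toMul) = -u
      rw [hzinv]; rfl
    exact (det_of_neg (L z) hLz).trans (by rw [hrank, hf.neg_one_pow])
  set m := ordCompl[2] (Nat.card H) with hm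
  have hmodd : Odd m := by
    rw [← Nat.not_even_iff_odd, even_iff_two_dvd]
    exact Nat.not_dvd_ordCompl Nat.prime_two Nat.card_pos.ne'
  let Dm : H →* (ZMod p)ˣ := (powMonoidHom m).comp D
  set M := Dm.ker with hMdef
  have hMmem : ∀ h, h ∈ M ↔ h ^ m = 1 := by
    intro h
    refine ⟨fun hh => orderOf_dvd_iff_pow_eq_one.1 ?_, fun hh => ?_⟩
    · refine (Nat.Coprime.dvd_of_dvd_mul_left ?_
        ((_root_.orderOf_dvd_natCard h).trans
          (dvd_of_eq (Nat.ordProj_mul_ordCompl_eq_self (Nat.card H) 2).symm)))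
      refine Nat.Coprime.pow_right _ ((Nat.prime_two.coprime_iff_not_dvd.2 fun h2 => ?_).symm)
      obtain ⟨z, hz, hz1⟩ : ∃ z ∈ M, orderOf z = 2 :=
        ⟨h ^ (orderOf h / 2), M.pow_mem hh _, orderOf_pow_orderOf_div (orderOf_pos h).ne' h2⟩
      have hDz : (D z : ZMod p) = -1 := hDneg z hz1
      have h1 : ((D z : ZMod p)) ^ m = 1 := by
        rw [← Units.val_pow_eq_pow_val]
        exact congrArg Units.val (MonoidHom.mem_ker.1 hz)
      rw [hDz, hmodd.neg_one_pow] at h1
      have h2' : ((2 : ℕ) : ZMod p) = 0 := by push_cast; linear_combination -h1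
      rw [ZMod.natCast_eq_zero_iff] at h2'
      exact hp2 ((Nat.prime_dvd_prime_iff_eq hp.out Nat.prime_two).1 h2')
    · show D h ^ m = 1
      rw [← map_pow, hh, map_one]
  -- the automorphism inverts `M`
  let φ : M →* M :=
    { toFun := fun x => ⟨τ x, (hMmem _).2 (by rw [← map_pow, (hMmem _).1 x.2, map_one])⟩
      map_one' := Subtype.ext (map_one τ)
      map_mul' := fun x y => Subtype.ext (map_mul τ _ _) }
  have hφ : MonoidHom.FixedPointFree φ := by
    intro x hx
    have hx' : τ (x : H) = x := congrArg Subtype.val hx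
    let T : Subgroup H :=
      { carrier := {y | τ y = y}
        one_mem' := map_one τ
        mul_mem' := fun {y z} hy hz => by
          show τ (y * z) = y * z
          rw [map_mul, show τ y = y from hy, show τ z = z from hz]
        inv_mem' := fun {y} hy => by
          show τ y⁻¹ = y⁻¹
          rw [map_inv, show τ y = y from hy] }
    have h1 : orderOf (x : H) ∣ Nat.card T := T.orderOf_dvd_natCard hx'
    have h2 : orderOf (x : H) ∣ m := orderOf_dvd_iff_pow_eq_one.2 ((hMmem _).1 x.2)
    have h3 : orderOf (x : H) ≤ 2 := (Nat.le_of_dvd Nat.card_pos h1).trans hfix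
    have h4 : orderOf (x : H) = 1 := by
      have := orderOf_pos (x : H)
      by_contra hne
      have : orderOf (x : H) = 2 := by omega
      exact absurd (hmodd.of_dvd_nat (this ▸ h2)) (by decide)
    exact Subtype.ext (orderOf_eq_one_iff.1 h4)
  have hφ2 : Function.Involutive φ := fun x => Subtype.ext (hinv _)
  have hMinv : ∀ x ∈ M, τ x = x⁻¹ := fun x hx =>
    congrArg Subtype.val (congrFun (hφ.coe_eq_inv_of_involutive hφ2) ⟨x, hx⟩)
  -- the centraliser of `M`
  let α : H →* MulAut M := MulAut.conjNormal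
  have hα : ∀ x, α (τ x) = α x := fun x => MulEquiv.ext fun y => Subtype.ext (by
    show τ x * y * (τ x)⁻¹ = x * y * x⁻¹
    have h1 : τ (x * (y : H)⁻¹ * x⁻¹) = x * y * x⁻¹ := by
      rw [hMinv _ ((inferInstance : M.Normal).conj_mem _ (M.inv_mem y.2) x)]
      group
    rw [map_mul, map_mul, map_inv, map_inv, hMinv _ y.2, inv_inv] at h1
    exact h1)
  have hCi : α.ker.index ≤ 2 := by
    rw [Subgroup.index_ker]
    exact card_range_le_two τ hfix α hα
  have hCcomm : ∀ a b : α.ker, a * b = b * a := by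
    have : IsCyclic (ZMod p)ˣ := inferInstance
    refine commutative_of_cyclic_center_quotient (Dm.comp α.ker.subtype) fun c hc => ?_
    refine mem_center_iff.2 fun y => Subtype.ext ?_
    have hy := congrArg Subtype.val (DFunLike.congr_fun (MonoidHom.mem_ker.1 y.2) (⟨c, hc⟩ : M))
    have hy' : (y : H) * (c : H) * (y : H)⁻¹ = c := hy
    exact mul_inv_eq_iff_eq_mul.1 hy'
  intro a b
  rcases Nat.lt_or_ge α.ker.index 2 with h1 | h2
  · have hpos : α.ker.index ≠ 0 := Subgroup.index_ne_zero_of_finite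
    have htop : α.ker = ⊤ := Subgroup.index_eq_one.1 (by omega)
    exact congrArg Subtype.val (hCcomm ⟨a, htop ▸ mem_top a⟩ ⟨b, htop ▸ mem_top b⟩)
  exfalso
  have hC2 : α.ker.index = 2 := le_antisymm hCi h2
  have hCcard := α.ker.card_mul_index
  rw [hC2] at hCcard
  obtain ⟨K, _, _, _, e, μ, hK, -, hμ, hsq, -, -, -⟩ :=
    exists_field_model (IsPGroup.of_card (p := p) (n := f) hF) (ψ.comp α.ker.subtype)
      (fun c hc u hu => hfpf c (fun e => hc (Subtype.ext e)) u hu) hCcomm (by omega)
  obtain ⟨h, hh⟩ : ∃ h, h ∉ α.ker := by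
    by_contra! hall
    rw [show α.ker = ⊤ from eq_top_iff.2 fun x _ => hall x, Subgroup.index_top] at hC2
    omega
  have hμ' : ∀ (c : α.ker) (u : F), e (Additive.ofMul (ψ (c : H) u)) = μ c * e (Additive.ofMul u) :=
    fun c u => hμ c u
  let G0 : K →+ K := e.toAddMonoidHom.comp
    ((MonoidHom.toAdditive (ψ h).toMonoidHom).comp e.symm.toAddMonoidHom)
  have hG0 : ∀ u : F, G0 (e (Additive.ofMul u)) = e (Additive.ofMul (ψ h u)) := fun u => by
    show e ((MonoidHom.toAdditive (ψ h).toMonoidHom) (e.symm (e (Additive.ofMul u)))) = _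
    rw [e.symm_apply_apply]; rfl
  have hcn : ∀ c : α.ker, h * (c : H) * h⁻¹ ∈ α.ker := fun c =>
    (inferInstance : α.ker.Normal).conj_mem _ c.2 h
  have hG0mul : ∀ (c : α.ker) (y : K), G0 (μ c * y) = μ ⟨_, hcn c⟩ * G0 y := by
    intro c y
    obtain ⟨u, rfl⟩ : ∃ u : F, e (Additive.ofMul u) = y :=
      ⟨(e.symm y).toMul, by rw [ofMul_toMul, e.apply_symm_apply]⟩
    rw [← hμ', hG0, hG0, ← hμ']
    show _ = e (Additive.ofMul (ψ (h * (c : H) * h⁻¹) (ψ h u)))
    rw [← MulAut.mul_apply, ← MulAut.mul_apply, ← map_mul, ← map_mul, inv_mul_cancel_right]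
  have hG01 : G0 1 ≠ 0 := by
    intro h0
    obtain ⟨u, hu⟩ : ∃ u : F, e (Additive.ofMul u) = 1 :=
      ⟨(e.symm 1).toMul, by rw [ofMul_toMul, e.apply_symm_apply]⟩
    rw [← hu, hG0, ← map_zero e, e.injective.eq_iff, ofMul_eq_zero, MulEquiv.map_eq_one_iff] at h0
    rw [h0, ofMul_one, map_zero] at hu
    exact zero_ne_one hu
  let g : K → K := fun y => G0 y / G0 1
  have hgadd : ∀ x y, g (x + y) = g x + g y := fun x y => by
    simp only [g, map_add, add_div]
  have hgμ : ∀ c : α.ker, g (μ c) = μ ⟨_, hcn c⟩ := fun c => by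
    have h1 := hG0mul c 1
    rw [mul_one] at h1
    simp only [g, h1, mul_div_assoc, div_self hG01, mul_one]
  have hgsq : ∀ s y : K, IsSquare s → g (s * y) = g s * g y := by
    intro s y hs
    by_cases hs0 : s = 0
    · simp [g, hs0]
    obtain ⟨c, rfl⟩ := (hsq s hs0).1 hs
    rw [hgμ]
    simp only [g, hG0mul, mul_div_assoc]
  have hsum : ∀ x : K, ∃ s t : K, IsSquare s ∧ IsSquare t ∧ x = s + t := by
    intro x
    have hodd : Fintype.card K % 2 = 1 := by
      rw [hK, hF, ← Nat.odd_iff]
      exact (hp.out.odd_of_ne_two hp2).pow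
    obtain ⟨u, v, huv⟩ := FiniteField.exists_root_sum_quadratic
      (f := (Polynomial.X ^ 2 : Polynomial K)) (g := Polynomial.X ^ 2 - Polynomial.C x)
      (Polynomial.degree_X_pow 2) (Polynomial.degree_X_pow_sub_C (by decide) _) hodd
    refine ⟨u * u, v * v, ⟨u, rfl⟩, ⟨v, rfl⟩, ?_⟩
    simp only [Polynomial.eval_pow, Polynomial.eval_X, Polynomial.eval_sub, Polynomial.eval_C] at huv
    linear_combination -huv
  let gr : K →+* K :=
    { toFun := g
      map_zero' := by simp [g]
      map_one' := div_self hG01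
      map_add' := hgadd
      map_mul' := fun x y => by
        obtain ⟨s, t, hs, ht, rfl⟩ := hsum x
        rw [add_mul, hgadd, hgsq s y hs, hgsq t y ht, hgadd, add_mul] }
  have hgg : ∀ x, gr (gr x) = x := by
    intro x
    have hs' : ∀ s : K, IsSquare s → gr (gr s) = s := by
      intro s hs
      by_cases hs0 : s = 0
      · rw [hs0, map_zero, map_zero]
      obtain ⟨c, rfl⟩ := (hsq s hs0).1 hs
      show g (g (μ c)) = μ c
      rw [hgμ, hgμ]
      congr 1
      refine Subtype.ext ?_
      show h * (h * (c : H) * h⁻¹) * h⁻¹ = c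
      have hh2 : h * h ∈ α.ker := by
        rw [Subgroup.mul_mem_iff_of_index_two hC2]
      have h3 : h * h * (c : H) = (c : H) * (h * h) := congrArg Subtype.val (hCcomm ⟨_, hh2⟩ c)
      calc h * (h * (c : H) * h⁻¹) * h⁻¹ = h * h * c * (h * h)⁻¹ := by group
        _ = c := by rw [h3, mul_inv_cancel_right]
    obtain ⟨s, t, hs, ht, rfl⟩ := hsum x
    rw [map_add, map_add, hs' s hs, hs' t ht]
  have hid := ringInvolution_eq_id hp.out hp2 hf (hK.trans hF) gr hgg
  refine hh (MonoidHom.mem_ker.2 (MulEquiv.ext fun y => Subtype.ext ?_))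
  have hyC : (y : H) ∈ α.ker := MonoidHom.mem_ker.2 (MulEquiv.ext fun z => Subtype.ext (by
    show (y : H) * z * (y : H)⁻¹ = z
    have := congrArg Subtype.val (hφ.commute_all_of_involutive hφ2 y z).eq
    rw [show (y : H) * z = z * y from this, mul_inv_cancel_right]))
  have h5 := hid (μ ⟨y, hyC⟩)
  rw [show gr (μ ⟨y, hyC⟩) = g (μ ⟨y, hyC⟩) from rfl, hgμ] at h5
  obtain ⟨u, hu1⟩ : ∃ u : F, u ≠ 1 := by
    haveI : Nontrivial F := Finite.one_lt_card_iff_nontrivial.1 (by
      have := Nat.card_pos (α := H); omega)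
    exact exists_ne 1
  show h * (y : H) * h⁻¹ = y
  have h6 : ψ (h * (y : H) * h⁻¹) u = ψ (y : H) u := by
    have e1 := hμ' ⟨_, hcn ⟨y, hyC⟩⟩ u
    have e2 := hμ' ⟨y, hyC⟩ u
    rw [h5, ← e2] at e1
    exact Additive.ofMul.injective (e.injective e1)
  by_contra hne
  refine hu1 (hfpf ((y : H)⁻¹ * (h * (y : H) * h⁻¹)) (fun e' => hne (inv_mul_eq_one.1 e').symm) u ?_)
  rw [map_mul, MulAut.mul_apply, h6, ← MulAut.mul_apply, ← map_mul, inv_mul_cancel, map_one]
  rfl

end Cfsg.Agent.Zassenhaus
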