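import Cfsg.Agent.Zassenhaus.AbelianCount

/-!
A Zassenhaus group with abelian kernel of order `n` and inverting swappers: `n ≤ 2 d + 1`.
-/

set_option autoImplicit false
set_option linter.unusedSectionVars false

namespace Cfsg.Agent.Zassenhaus

open Subgroup MulAction
open scoped ComplexConjugate

universe u v

theorem exists_unit_vector {ι : Type*} [Fintype ι] [DecidableEq ι] (m : ι → ℕ) (s : Finset ι)
    (h : ∑ i ∈ s, m i * m i = 1) : ∃ j ∈ s, ∀ i ∈ s, m i = if i = j then 1 else 0 := by
  obtain ⟨j, hj, hj0⟩ := Finset.exists_ne_zero_of_sum_ne_zero (s := s) (f := fun i => m i * m i)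
    (by rw [h]; exact one_ne_zero)
  refine ⟨j, hj, fun i hi => ?_⟩
  have hj1 : m j * m j ≤ 1 := h ▸ Finset.single_le_sum (f := fun i => m i * m i) (fun _ _ => Nat.zero_le _) hj
  have hjj : m j = 1 := by
    have h0 : m j ≠ 0 := fun e => hj0 (by simp [e])
    nlinarith [Nat.pos_of_ne_zero h0]
  split_ifs with hij
  · rw [hij, hjj]
  · have h2 : m j * m j + m i * m i ≤ 1 := by
      rw [← h, ← Finset.sum_pair (f := fun i => m i * m i) (Ne.symm hij)]
      exact Finset.sum_le_sum_of_subset (by
        intro x hx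
        rcases Finset.mem_insert.1 hx with rfl | hx
        · exact hj
        · rw [Finset.mem_singleton.1 hx]; exact hi)
    rw [hjj] at h2
    have : m i * m i = 0 := by omega
    exact mul_self_eq_zero.1 this

theorem classInner_conj_conj {H : Type*} [Group H] [Fintype H] (f g : H → ℂ) :
    classInner (fun x => conj (f x)) (fun x => conj (g x)) = conj (classInner f g) := by
  simp [classInner]

namespace AbCtx

variable {G : Type u} {Ω : Type v} [Group G] [MulAction G Ω] [Fintype G] [Finite Ω]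
  (X : AbCtx G Ω)

theorem two_mul_bound (hd1 : 1 < Nat.card (twoPt G X.a X.b)) :
    Nat.card X.F ≤ 2 * Nat.card (twoPt G X.a X.b) + 1 := by
  classical
  by_contra hcon
  push Not at hcon
  have := Fintype.ofFinite X.L
  set n := Nat.card X.F with hn
  set d := Nat.card (twoPt G X.a X.b) with hd
  have hN : n + 1 = Nat.card Ω := X.card_F
  have hL : Nat.card X.L = n * d := X.card_L
  let P : IrrCharacter X.L → G → ℂ := fun θ => indFun X.L (θ : X.L → ℂ)
  have hPchar : ∀ θ, IsCharacter G (P θ) := fun θ =>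
    Char.isCharacter_indFun X.L (Char.IsIrr.isCharacter θ.2)
  choose m hm using fun (θ : IrrCharacter X.L) (χ : IrrCharacter G) =>
    Char.classInner_isCharacter_eq_natCast (hPchar θ) (Char.IsIrr.isCharacter χ.2)
  choose dG hdG0 hdG using fun χ : IrrCharacter G => Char.IsIrr.degree χ.2
  choose dL hdL0 hdL using fun θ : IrrCharacter X.L => Char.IsIrr.degree θ.2
  have hdLlin : ∀ θ, X.IsLin θ → dL θ = 1 := fun θ h => by
    have := (hdL θ).symm.trans (X.lin_one h); exact_mod_cast this
  have hdLnon : ∀ θ, ¬X.IsLin θ → dL θ = d := fun θ h => by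
    have := (hdL θ).symm.trans (X.nonlin_one h); exact_mod_cast this
  have hPcls : ∀ θ, IsClassFunction G (P θ) := fun θ => Char.isClassFunction_indFun X.L _
  have hm' : ∀ (θ : IrrCharacter X.L) (χ : IrrCharacter G), classInner (fun l : X.L => (χ : G → ℂ) l) (θ : X.L → ℂ) = m θ χ := fun θ χ => by
    rw [← Char.classInner_indFun_right X.L _ (Char.isClassFunction_of_isIrr χ.2),
      ← Char.classInner_conj_symm, show classInner (indFun X.L (θ : X.L → ℂ)) (χ : G → ℂ) = _
        from hm θ χ]
    simp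
  have hN_def : ∀ (θ η : IrrCharacter X.L), classInner (P θ) (P η) = ((∑ χ, m θ χ * m η χ : ℕ) : ℂ) := fun θ η => by
    rw [Char.classInner_eq_sum (hPcls θ)]
    push_cast
    refine Finset.sum_congr rfl fun χ _ => ?_
    rw [hm, ← Char.classInner_conj_symm (φ := P η), hm]
    simp
  have hNnon : ∀ θ η, ¬X.IsLin η →
      ∑ χ, m θ χ * m η χ = (if θ = η then 1 else 0) + dL θ := by
    intro θ η hη
    have hres : (fun l : X.L => P η l) = (η : X.L → ℂ) +
        fun l => if l = 1 then (Nat.card X.L : ℂ) else 0 := by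
      funext l
      by_cases hl1 : l = 1
      · subst hl1
        simp only [Pi.add_apply, if_pos, P, Subgroup.coe_one, X.ind_one, ← hN, X.nonlin_one hη, hL]
        push_cast
        ring
      by_cases hlK : l ∈ X.K
      · simp only [Pi.add_apply, if_neg hl1, add_zero, P]
        exact X.ind_ker _ (Char.isClassFunction_of_isIrr η.2) hlK hl1
      · obtain ⟨h, h1, h2⟩ := X.ind_off _ (Char.isClassFunction_of_isIrr η.2) hlK
        simp only [Pi.add_apply, if_neg hl1, add_zero, P, h2]
        rw [Char.IsChar.inv_eq_conj (Char.IsIrr.isCharacter η.2), ← h1, X.nonlin_off hη hlK]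
        simp
    have h := hN_def θ η
    rw [show classInner (P θ) (P η) = classInner (θ : X.L → ℂ) (fun l : X.L => P η l) from
      Char.classInner_indFun_left X.L _ (hPcls η), hres, Char.classInner_add_right,
      Char.classInner_irrChar] at h
    have h3 : classInner (θ : X.L → ℂ) (fun l => if l = 1 then (Nat.card X.L : ℂ) else 0) = dL θ := by
      rw [classInner, Finset.sum_eq_single (1 : X.L) (fun l _ hl => by simp [hl]) (by simp),
        if_pos rfl, map_natCast, hdL, mul_comm (dL θ : ℂ), ← mul_assoc,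
        inv_mul_cancel₀ Char.card_ne_zero, one_mul]
    rw [h3] at h
    split_ifs at h ⊢ with he <;> exact_mod_cast h.symm
  have hNlin : ∀ θ η, X.IsLin θ → X.IsLin η →
      ∑ χ, m θ χ * m η χ = (if θ = η then 1 else 0) + (if θ = Char.conjIrr η then 1 else 0) := by
    intro θ η hθ hη
    obtain ⟨f, hf⟩ := X.lin_hom hη
    have hK1 : ∀ k : X.L, k ∈ X.K → (η : X.L → ℂ) k = 1 := fun k hk => (hη k hk).trans (X.lin_one hη)
    have hres : (fun l : X.L => P η l) = (η : X.L → ℂ) + (Char.conjIrr η : X.L → ℂ) -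
        (fun l => if l ∈ X.K then (1 : ℂ) else 0) + fun l => if l = 1 then (n : ℂ) else 0 := by
      funext l
      by_cases hl1 : l = 1
      · subst hl1
        simp only [Pi.add_apply, Pi.sub_apply, P, Subgroup.coe_one, X.ind_one, ← hN,
          Char.conjIrr_apply, hK1 1 X.K.one_mem, if_pos X.K.one_mem, if_pos, map_one]
        push_cast
        ring
      by_cases hlK : l ∈ X.K
      · simp only [Pi.add_apply, Pi.sub_apply, P, if_pos hlK, if_neg hl1,
          Char.conjIrr_apply, X.ind_ker _ (Char.isClassFunction_of_isIrr η.2) hlK hl1, hK1 l hlK,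
          map_one]
        ring
      · obtain ⟨h, h1, h2⟩ := X.ind_off _ (Char.isClassFunction_of_isIrr η.2) hlK
        simp only [Pi.add_apply, Pi.sub_apply, P, if_neg hlK, if_neg hl1, h2, Char.conjIrr_apply,
          Char.IsChar.inv_eq_conj (Char.IsIrr.isCharacter η.2), ← h1]
        ring
    have h := hN_def θ η
    rw [show classInner (P θ) (P η) = classInner (θ : X.L → ℂ) (fun l : X.L => P η l) from
      Char.classInner_indFun_left X.L _ (hPcls η), hres, Char.classInner_add_right,
      Char.classInner_sub_right, Char.classInner_add_right,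
      Char.classInner_irrChar, Char.classInner_irrChar] at h
    have h3 : classInner (θ : X.L → ℂ) (fun l => if l = 1 then (n : ℂ) else 0) =
        classInner (θ : X.L → ℂ) (fun l => if l ∈ X.K then (1 : ℂ) else 0) := by
      rw [classInner, classInner, Finset.sum_eq_single (1 : X.L) (fun l _ hl => by simp [hl]) (by simp),
        if_pos rfl, map_natCast, X.lin_one hθ, one_mul]
      congr 1
      rw [show n = Nat.card X.K from X.card_K.symm, Nat.card_eq_fintype_card, Fintype.card_subtype,
        ← Finset.sum_boole]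
      refine Finset.sum_congr rfl fun l _ => ?_
      by_cases hl : l ∈ X.K
      · simp [hl, hθ l hl, X.lin_one hθ]
      · simp [hl]
    rw [h3, sub_add_cancel] at h
    split_ifs at h ⊢ <;> exact_mod_cast h.symm
  -- degrees
  have hdeg : ∀ θ, (n + 1) * dL θ = ∑ χ, m θ χ * dG χ := fun θ => by
    have h := congrFun (Char.classFun_expansion (hPcls θ)) 1
    simp only [Finset.sum_apply, Pi.smul_apply, smul_eq_mul, hm, hdG, P, X.ind_one, ← hN, hdL] at h
    exact_mod_cast h
  have hdegres : ∀ χ, dG χ = ∑ θ, m θ χ * dL θ := fun χ => by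
    have h := congrFun (Char.classFun_expansion (G := X.L)
      (f := fun l : X.L => (χ : G → ℂ) l) fun x y => by
        simpa using Char.isClassFunction_of_isIrr χ.2 (x : G) (y : G)) 1
    simp only [Finset.sum_apply, Pi.smul_apply, smul_eq_mul, hm', hdL, Subgroup.coe_one, hdG] at h
    exact_mod_cast h
  -- the trivial character
  let oneL : IrrCharacter X.L := ⟨fun _ => 1, Char.isIrrCharacter_one⟩
  let oneG : IrrCharacter G := ⟨fun _ => 1, Char.isIrrCharacter_one⟩
  have honeLin : X.IsLin oneL := fun _ _ => rfl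
  have hconj1 : Char.conjIrr oneL = oneL := Subtype.ext (funext fun g => by simp [oneL])
  have hm1G : ∀ θ, m θ oneG = if θ = oneL then 1 else 0 := fun θ => by
    have h := hm' θ oneG
    rw [show (fun l : X.L => (oneG : G → ℂ) l) = (oneL : X.L → ℂ) from rfl,
      Char.classInner_irrChar] at h
    by_cases he : θ = oneL
    · subst he; simpa using h.symm
    · rw [if_neg he]; rw [if_neg (Ne.symm he)] at h; exact_mod_cast h.symm
  obtain ⟨St, hStne, hSt⟩ : ∃ St, St ≠ oneG ∧
      ∀ χ, m oneL χ = (if χ = oneG then 1 else 0) + (if χ = St then 1 else 0) := by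
    have h2 := hNlin oneL oneL honeLin honeLin
    rw [hconj1, if_pos rfl, ← Finset.add_sum_erase _ _ (Finset.mem_univ oneG), hm1G, if_pos rfl,
      one_mul, Nat.add_left_cancel_iff] at h2
    obtain ⟨St, hSt1, hSt2⟩ := exists_unit_vector _ _ h2
    refine ⟨St, Finset.ne_of_mem_erase hSt1, fun χ => ?_⟩
    by_cases hχ : χ = oneG
    · subst hχ
      rw [hm1G, if_pos rfl, if_pos rfl, if_neg (Ne.symm (Finset.ne_of_mem_erase hSt1))]
    · rw [hSt2 χ (Finset.mem_erase.2 ⟨hχ, Finset.mem_univ _⟩), if_neg hχ, zero_add]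
  -- the nontrivial linear characters
  have hlinreal : ∀ θ, X.IsLin θ → Char.conjIrr θ = θ → θ = oneL := by
    intro θ hθ hreal
    obtain ⟨f, hf⟩ := X.lin_hom hθ
    refine Subtype.ext (funext fun l => ?_)
    have h1 : (f l : ℂ) * f l = 1 := by
      have h2 := congrArg (fun ψ : IrrCharacter X.L => (ψ : X.L → ℂ) l) hreal
      simp only [Char.conjIrr_apply] at h2
      rw [← Char.IsChar.inv_eq_conj (Char.IsIrr.isCharacter θ.2), hf] at h2
      simp only [map_inv, Units.val_inv_eq_inv_val] at h2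
      nth_rw 1 [← h2]
      exact inv_mul_cancel₀ (f l).ne_zero
    have hd' : (f l : ℂ) ^ d = 1 := by
      have h2 := hθ _ (X.K.pow_index_mem l)
      rw [X.index_K, hf] at h2
      simp only [map_pow, map_one, Units.val_pow_eq_pow_val, Units.val_one] at h2
      exact h2
    obtain ⟨j, hj⟩ := X.odd
    rw [hd, hj, pow_succ, pow_mul, pow_two, h1, one_pow, one_mul] at hd'
    rw [hf]
    exact hd'
  have hI : ∀ θ, X.IsLin θ → θ ≠ oneL → ∃ I, ∀ χ, m θ χ = if χ = I then 1 else 0 := by
    intro θ hθ hne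
    have h := hNlin θ θ hθ hθ
    rw [if_pos rfl, if_neg fun e => hne (hlinreal θ hθ e.symm), add_zero] at h
    obtain ⟨I, -, hI⟩ := exists_unit_vector _ _ h
    exact ⟨I, fun χ => hI χ (Finset.mem_univ _)⟩
  have : Nonempty (IrrCharacter G) := ⟨oneG⟩
  choose! I hI using hI
  let L1 : Finset (IrrCharacter X.L) := Finset.univ.filter fun θ => X.IsLin θ ∧ θ ≠ oneL
  let K1 : Finset (IrrCharacter G) := L1.image I
  set k := K1.card with hk
  have hmemL1 : ∀ θ, θ ∈ L1 ↔ X.IsLin θ ∧ θ ≠ oneL := fun θ => by simp [L1]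
  have hIeq : ∀ θ ∈ L1, ∀ η, X.IsLin η → ∑ χ, m θ χ * m η χ = m η (I θ) := by
    intro θ hθ η _
    obtain ⟨h1, h2⟩ := (hmemL1 θ).1 hθ
    simp [hI θ h1 h2]
  have hdk : d = 2 * k + 1 := by
    have hfib : ∀ χ ∈ K1, (L1.filter fun θ => I θ = χ).card = 2 := by
      intro χ hχ
      obtain ⟨η, hη, rfl⟩ := Finset.mem_image.1 hχ
      obtain ⟨hη1, hη2⟩ := (hmemL1 η).1 hη
      have hcne : Char.conjIrr η ≠ η := fun e => hη2 (hlinreal η hη1 e)
      have : (L1.filter fun θ => I θ = I η) = {η, Char.conjIrr η} := by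
        ext θ
        simp only [Finset.mem_filter, Finset.mem_insert, Finset.mem_singleton]
        constructor
        · rintro ⟨hθ, he⟩
          obtain ⟨hθ1, hθ2⟩ := (hmemL1 θ).1 hθ
          have h := (hIeq θ hθ η hη1).symm.trans (hNlin θ η hθ1 hη1)
          rw [he, hI η hη1 hη2, if_pos rfl] at h
          by_contra hc
          rw [not_or] at hc
          rw [if_neg hc.1, if_neg hc.2] at h
          omega
        · rintro (rfl | rfl)
          · exact ⟨hη, rfl⟩
          have hc1 : X.IsLin (Char.conjIrr η) := fun k' hk' => by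
            rw [Char.conjIrr_apply, Char.conjIrr_apply, hη1 k' hk']
          have hc2 : Char.conjIrr η ≠ oneL := fun e => hη2 (by
            rw [← Char.conjIrr_conjIrr η, e, hconj1])
          have hcL : Char.conjIrr η ∈ L1 := (hmemL1 _).2 ⟨hc1, hc2⟩
          refine ⟨hcL, ?_⟩
          have h := (hIeq _ hcL η hη1).symm.trans (hNlin _ η hc1 hη1)
          rw [hI η hη1 hη2, if_neg hcne, if_pos rfl, zero_add] at h
          by_contra hc
          rw [if_neg hc] at h
          omega
      rw [this, Finset.card_pair (Ne.symm hcne)]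
    have h1 : L1.card = k * 2 := by
      rw [Finset.card_eq_sum_card_image I L1, Finset.sum_const_nat hfib]
    have h2 : (Finset.univ.filter fun θ => X.IsLin θ).card = L1.card + 1 := by
      rw [← Finset.card_erase_add_one (s := Finset.univ.filter fun θ => X.IsLin θ) (a := oneL)
        (by simpa using honeLin)]
      congr 2
      ext θ
      simp [L1, and_comm]
    have h3 : d = (Finset.univ.filter fun θ => X.IsLin θ).card := by
      rw [hd, ← X.card_lin, Nat.card_eq_fintype_card, Fintype.card_subtype]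
    omega
  have hI1 : ∀ θ ∈ L1, I θ ≠ oneG ∧ I θ ≠ St := by
    intro θ hθ
    obtain ⟨h1, h2⟩ := (hmemL1 θ).1 hθ
    have h := (hIeq θ hθ oneL honeLin).symm.trans (hNlin θ oneL h1 honeLin)
    rw [hconj1, if_neg h2, hSt] at h
    constructor <;> intro e <;> rw [e] at h <;> simp at h
  let known : Finset (IrrCharacter G) := insert oneG (insert St K1)
  let rest : Finset (IrrCharacter G) := Finset.univ.filter fun χ => χ ∉ known
  have hK1ne : oneG ∉ K1 ∧ St ∉ K1 := by
    constructor <;> intro h <;> obtain ⟨θ, hθ, e⟩ := Finset.mem_image.1 h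
    · exact (hI1 θ hθ).1 e
    · exact (hI1 θ hθ).2 e
  have hsum_known : ∀ f : IrrCharacter G → ℕ, ∑ χ, f χ = f oneG + f St + ∑ χ ∈ K1, f χ + ∑ χ ∈ rest, f χ := by
    intro f
    rw [← Finset.sum_filter_add_sum_filter_not Finset.univ (fun χ => χ ∈ known)]
    congr 1
    rw [show (Finset.univ.filter fun χ => χ ∈ known) = known by ext; simp, Finset.sum_insert,
      Finset.sum_insert hK1ne.2, add_assoc]
    simp only [Finset.mem_insert, not_or]
    exact ⟨Ne.symm hStne, hK1ne.1⟩
  have hrest : ∀ χ ∈ rest, ∀ θ, X.IsLin θ → m θ χ = 0 := by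
    intro χ hχ θ hθ
    have hχ' : χ ≠ oneG ∧ χ ≠ St ∧ χ ∉ K1 := by simpa [rest, known] using hχ
    by_cases he : θ = oneL
    · subst he
      rw [hSt, if_neg hχ'.1, if_neg hχ'.2.1]
    · rw [hI θ hθ he, if_neg]
      rintro rfl
      exact hχ'.2.2 (Finset.mem_image.2 ⟨θ, (hmemL1 θ).2 ⟨hθ, he⟩, rfl⟩)
  let NL : Finset (IrrCharacter X.L) := Finset.univ.filter fun θ => ¬X.IsLin θ
  have hNL : ∀ θ, θ ∈ NL ↔ ¬X.IsLin θ := fun θ => by simp [NL]
  have hmI : ∀ η ∈ NL, ∀ χ ∈ K1, m η χ = 1 := by
    intro η hη χ hχ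
    obtain ⟨θ, hθ, rfl⟩ := Finset.mem_image.1 hχ
    obtain ⟨h1, h2⟩ := (hmemL1 θ).1 hθ
    have h := hNnon θ η ((hNL η).1 hη)
    rw [if_neg (fun (e : θ = η) => (hNL η).1 hη (e ▸ h1)), zero_add, hdLlin θ h1] at h
    simpa [hI θ h1 h2] using h
  have hmSt : ∀ η ∈ NL, m η oneG = 0 ∧ m η St = 1 := by
    intro η hη
    have h0 : m η oneG = 0 := by
      rw [hm1G, if_neg fun (e : η = oneL) => (hNL η).1 hη (e ▸ honeLin)]
    refine ⟨h0, ?_⟩
    have h := hNnon oneL η ((hNL η).1 hη)
    rw [if_neg (fun (e : oneL = η) => (hNL η).1 hη (e ▸ honeLin)), zero_add, hdLlin _ honeLin] at h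
    simp only [hSt, add_mul, ite_mul, one_mul, zero_mul, Finset.sum_add_distrib, Finset.sum_ite_eq',
      Finset.mem_univ, if_true, h0, zero_add] at h
    exact h
  have hgram : ∀ θ ∈ NL, ∀ η ∈ NL,
      ∑ χ ∈ rest, m θ χ * m η χ = (if θ = η then 1 else 0) + k := by
    intro θ hθ η hη
    have h := hsum_known (fun χ => m θ χ * m η χ)
    rw [hNnon θ η ((hNL η).1 hη), hdLnon θ ((hNL θ).1 hθ), (hmSt θ hθ).1, (hmSt θ hθ).2,
      (hmSt η hη).2, Finset.sum_congr rfl (s₁ := K1) (g := fun _ => 1) fun χ hχ => by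
        rw [hmI θ hθ χ hχ, hmI η hη χ hχ], Finset.sum_const, smul_eq_mul] at h
    omega
  have hdeg_rest : ∀ χ ∈ rest, dG χ = d * ∑ η ∈ NL, m η χ := by
    intro χ hχ
    rw [hdegres, ← Finset.sum_filter_add_sum_filter_not Finset.univ X.IsLin,
      Finset.sum_eq_zero fun θ hθ => by rw [hrest χ hχ θ (Finset.mem_filter.1 hθ).2, zero_mul],
      zero_add, Finset.mul_sum]
    exact Finset.sum_congr rfl fun η hη => by rw [hdLnon η (Finset.mem_filter.1 hη).2, mul_comm]
  have hdegSt : dG St = n := by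
    have h := hdeg oneL
    simp only [hSt, add_mul, ite_mul, one_mul, zero_mul, Finset.sum_add_distrib, Finset.sum_ite_eq',
      Finset.mem_univ, if_true, hdLlin _ honeLin, mul_one] at h
    have h1 : dG oneG = 1 := by
      have := hdG oneG
      simp only [oneG] at this
      exact_mod_cast this.symm
    omega
  have hdegK1 : ∀ χ ∈ K1, dG χ = n + 1 := by
    intro χ hχ
    obtain ⟨θ, hθ, rfl⟩ := Finset.mem_image.1 hχ
    obtain ⟨h1, h2⟩ := (hmemL1 θ).1 hθ
    have h := hdeg θ
    simp only [hdLlin θ h1, mul_one, hI θ h1 h2, ite_mul, one_mul, zero_mul, Finset.sum_ite_eq',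
      Finset.mem_univ, if_true] at h
    exact h.symm
  -- the nonlinear characters of the stabiliser
  have ht : NL.card * d + 1 = n := by
    have h := Char.sum_sq_degree (G := X.L)
    simp only [hdL] at h
    have h' : ∑ θ, dL θ ^ 2 = n * d := by rw [← hL]; exact_mod_cast h
    rw [← Finset.sum_filter_add_sum_filter_not Finset.univ X.IsLin,
      Finset.sum_congr rfl (g := fun _ => 1) (fun θ hθ => by
        rw [hdLlin θ (Finset.mem_filter.1 hθ).2, one_pow]),
      Finset.sum_congr rfl (s₁ := Finset.univ.filter fun θ => ¬X.IsLin θ) (g := fun _ => d ^ 2)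
        (fun θ hθ => by rw [hdLnon θ (Finset.mem_filter.1 hθ).2]),
      Finset.sum_const, Finset.sum_const, smul_eq_mul, smul_eq_mul, mul_one, ← Fintype.card_subtype,
      ← Nat.card_eq_fintype_card, X.card_lin, ← hd] at h'
    exact Nat.eq_of_mul_eq_mul_right (show 0 < d by omega)
      (by rw [← h', show NL.card = (Finset.univ.filter fun θ => ¬X.IsLin θ).card from rfl]; ring)
  -- real characters
  have hmconj : ∀ θ χ, m (Char.conjIrr θ) (Char.conjIrr χ) = m θ χ := fun θ χ => by
    have h := hm' (Char.conjIrr θ) (Char.conjIrr χ)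
    simp only [Char.conjIrr_apply] at h
    rw [show ((Char.conjIrr θ : IrrCharacter X.L) : X.L → ℂ) = fun l => conj ((θ : X.L → ℂ) l)
      from rfl, classInner_conj_conj (fun l : X.L => (χ : G → ℂ) l) (θ : X.L → ℂ), hm'] at h
    simp at h
    exact h.symm
  let RR := rest.filter fun χ => Char.conjIrr χ = χ
  let NR := rest.filter fun χ => ¬Char.conjIrr χ = χ
  have hsplit : ∀ f : IrrCharacter G → ℕ, ∑ χ ∈ rest, f χ = ∑ χ ∈ RR, f χ + ∑ χ ∈ NR, f χ := fun f =>
    (Finset.sum_filter_add_sum_filter_not rest _ f).symm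
  have hconjNL : ∀ η ∈ NL, Char.conjIrr η ∈ NL := fun η hη => (hNL _).2 fun h => (hNL η).1 hη
    fun k' hk' => by
      have := congrArg conj (h k' hk')
      simpa using this
  have hRRsym : ∀ η, ∀ χ ∈ RR, m (Char.conjIrr η) χ = m η χ := fun η χ hχ => by
    rw [← hmconj η χ, (Finset.mem_filter.1 hχ).2]
  -- upper bound for each
  have hA : ∀ η ∈ NL, ∑ χ ∈ RR, m η χ ≤ ∑ χ ∈ RR, m η χ * m η χ := fun η _ =>
    Finset.sum_le_sum fun χ _ => Nat.le_mul_self _
  have hB : ∀ η ∈ NL, ∑ χ ∈ RR, m η χ * m η χ ≤ k + (if Char.conjIrr η = η then 1 else 0) := by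
    intro η hη
    have h := hgram η hη (Char.conjIrr η) (hconjNL η hη)
    rw [hsplit, Finset.sum_congr rfl (g := fun χ => m η χ * m η χ) fun χ hχ => by
      rw [hRRsym η χ hχ]] at h
    have e : (if η = Char.conjIrr η then 1 else 0) = (if Char.conjIrr η = η then 1 else 0 : ℕ) := by
      simp [eq_comm]
    omega
  -- lower bound for the total
  set ε : ℕ := if Even n then 1 else 0 with hε
  have hlow : NL.card * k + ε ≤ ∑ η ∈ NL, ∑ χ ∈ RR, m η χ := by
    have hfs : Nat.card {s : G // s * s = 1} ≤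
        ∑ χ : IrrCharacter G, if Char.conjIrr χ = χ then dG χ else 0 := by
      have h := congrArg Complex.re (Char.card_sqrt_eq_sum (1 : G))
      simp only [Complex.natCast_re, Complex.re_sum, hdG, Complex.mul_re, Complex.natCast_im,
        mul_zero, sub_zero] at h
      have h2 : ((Nat.card {s : G // s * s = 1} : ℕ) : ℝ) ≤
          ((∑ χ : IrrCharacter G, if Char.conjIrr χ = χ then dG χ else 0 : ℕ) : ℝ) := by
        rw [h]
        push_cast
        refine Finset.sum_le_sum fun χ _ => ?_
        rcases Char.fsInd_irr χ with ⟨h1, h2⟩ | ⟨h1 | h1, h2⟩ <;> simp [h1, h2]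
      exact_mod_cast h2
    rw [hsum_known] at hfs
    have hrr : ∑ χ ∈ rest, (if Char.conjIrr χ = χ then dG χ else 0) =
        d * ∑ η ∈ NL, ∑ χ ∈ RR, m η χ := by
      rw [← Finset.sum_filter, Finset.sum_congr rfl fun χ hχ =>
        hdeg_rest χ (Finset.mem_filter.1 hχ).1, ← Finset.mul_sum, Finset.sum_comm]
    have hkn : ∑ χ ∈ K1, (if Char.conjIrr χ = χ then dG χ else 0) ≤ k * (n + 1) := by
      refine le_trans (Finset.sum_le_card_nsmul _ _ (n + 1) fun χ hχ => ?_) (by rw [smul_eq_mul])
      split_ifs <;> simp [hdegK1 χ hχ]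
    have h1 : dG oneG = 1 := by
      have := hdG oneG
      simp only [oneG] at this
      exact_mod_cast this.symm
    have h2 := X.le_card_sqrt_one
    rw [← hn, ← hd, show (if Even n then d else 0) = d * ε by rw [hε]; split_ifs <;> simp] at h2
    have h3 : (if Char.conjIrr oneG = oneG then dG oneG else 0) ≤ 1 := by split_ifs <;> omega
    have h4 : (if Char.conjIrr St = St then dG St else 0) ≤ n := by split_ifs <;> omega
    rw [hrr] at hfs
    have h5 : n * d = n + k * (n + 1) + d * (NL.card * k) := by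
      rw [← ht, hdk]; ring
    have h6 : d * (NL.card * k + ε) ≤ d * ∑ η ∈ NL, ∑ χ ∈ RR, m η χ := by
      rw [mul_add]; omega
    exact Nat.le_of_mul_le_mul_left h6 (by omega)
  have hreal : (NL.filter fun η => Char.conjIrr η = η).card ≤ ε := by
    refine le_trans (le_of_eq ?_) X.card_real_nonlin
    rw [Nat.card_eq_fintype_card, Fintype.card_subtype, Finset.filter_filter]
    congr 1
    ext η
    simp [and_comm]
  have heq : ∀ η ∈ NL, ∑ χ ∈ RR, m η χ = k + (if Char.conjIrr η = η then 1 else 0) := by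
    refine (Finset.sum_eq_sum_iff_of_le fun η hη => (hA η hη).trans (hB η hη)).1 ?_
    refine le_antisymm (Finset.sum_le_sum fun η hη => (hA η hη).trans (hB η hη)) ?_
    rw [Finset.sum_add_distrib, Finset.sum_const, smul_eq_mul, Finset.sum_boole]
    simp only [Nat.cast_id]
    omega
  have hNR : ∀ η ∈ NL, ∑ χ ∈ NR, m η χ * m η χ = if Char.conjIrr η = η then 0 else 1 := by
    intro η hη
    have h := hgram η hη η hη
    have := heq η hη
    have := hA η hη
    have := hB η hη
    rw [hsplit, if_pos rfl] at h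
    split_ifs at * <;> omega
  -- a character that is not real
  obtain ⟨ξ, hξ, hξr⟩ : ∃ ξ ∈ NL, Char.conjIrr ξ ≠ ξ := by
    by_contra! hall
    rw [Finset.filter_true_of_mem hall] at hreal
    have hε1 : ε ≤ 1 := by rw [hε]; split_ifs <;> omega
    have : NL.card * d ≤ 1 * d := Nat.mul_le_mul_right _ (hreal.trans hε1)
    omega
  have h1 := hNR ξ hξ
  rw [if_neg hξr] at h1
  obtain ⟨ρ, hρ, hρu⟩ := exists_unit_vector _ _ h1
  have hρ1 : m ξ ρ = 1 := by rw [hρu ρ hρ, if_pos rfl]
  have hρrest : ρ ∈ rest := (Finset.mem_filter.1 hρ).1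
  have hcross : ∀ η ∈ NL, ∑ χ ∈ RR, m η χ * m ξ χ + ∑ χ ∈ NR, m η χ * m (Char.conjIrr ξ) χ =
      (if η = Char.conjIrr ξ then 1 else 0) + k := fun η hη => by
    rw [← hgram η hη _ (hconjNL ξ hξ), hsplit]
    congr 1
    exact Finset.sum_congr rfl fun χ hχ => by rw [hRRsym ξ χ hχ]
  have hconjρ : m (Char.conjIrr ξ) ρ = 0 := by
    have h := hcross ξ hξ
    have e := heq ξ hξ
    have := hA ξ hξ
    have := hB ξ hξ
    rw [if_neg hξr] at e this
    rw [if_neg (Ne.symm hξr)] at h
    have h0 : ∑ χ ∈ NR, m ξ χ * m (Char.conjIrr ξ) χ = 0 := by omega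
    have := Finset.sum_eq_zero_iff.1 h0 ρ hρ
    rwa [hρ1, one_mul] at this
  have hQ : ∀ η ∈ NL, η ≠ ξ → m η ρ = 0 := by
    intro η hη hne
    by_contra hne0
    have hr : Char.conjIrr η ≠ η := fun e => by
      have h := hNR η hη
      rw [if_pos e] at h
      exact hne0 (mul_self_eq_zero.1 (Finset.sum_eq_zero_iff.1 h ρ hρ))
    have h2 := hNR η hη
    rw [if_neg hr] at h2
    obtain ⟨ρ', hρ', hu'⟩ := exists_unit_vector _ _ h2
    have hρρ : ρ' = ρ := by
      by_contra hc
      exact hne0 (by rw [hu' ρ hρ, if_neg (Ne.symm hc)])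
    subst hρρ
    have h3 := hgram η hη ξ hξ
    rw [if_neg hne, hsplit, Finset.sum_congr rfl (s₁ := NR) (g := fun χ => if χ = ρ' then 1 else 0)
      (fun χ hχ => by rw [hu' χ hχ, hρu χ hχ]; split_ifs <;> simp), Finset.sum_ite_eq',
      if_pos hρ] at h3
    have h4 := hcross η hη
    rw [if_neg (fun e => hne0 (by rw [e]; exact hconjρ)), Finset.sum_congr rfl (s₁ := NR)
      (g := fun _ => 0) (fun χ hχ => by
        rw [hu' χ hχ]
        split_ifs with hc
        · rw [hc, hconjρ, mul_zero]
        · rw [zero_mul]), Finset.sum_const_zero] at h4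
    omega
  -- the square of the small character
  have hres : (fun l : X.L => (ρ : G → ℂ) l) = (ξ : X.L → ℂ) := by
    refine (Char.classFun_expansion (G := X.L) (f := fun l : X.L => (ρ : G → ℂ) l) fun x y => by
      simpa using Char.isClassFunction_of_isIrr ρ.2 (x : G) (y : G)).trans ?_
    simp only [hm']
    rw [Finset.sum_eq_single ξ ?_ (by simp), hρ1, Nat.cast_one, one_smul]
    intro θ _ hθ
    by_cases hlin : X.IsLin θ
    · rw [hrest ρ hρrest θ hlin, Nat.cast_zero, zero_smul]
    · rw [hQ θ ((hNL θ).2 hlin) hθ, Nat.cast_zero, zero_smul]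
  have hρd : dG ρ = d := by
    have h := congrFun hres 1
    simp only [Subgroup.coe_one, hdG, X.nonlin_one ((hNL ξ).1 hξ)] at h
    exact_mod_cast h
  let W : G → ℂ := (ρ : G → ℂ) * fun g => conj ((ρ : G → ℂ) g)
  have hW : IsCharacter G W := Char.isCharacter_mul (Char.IsIrr.isCharacter ρ.2)
    (Char.isCharacter_conj (Char.IsIrr.isCharacter ρ.2))
  choose w hw using fun χ : IrrCharacter G =>
    Char.classInner_isCharacter_eq_natCast hW (Char.IsIrr.isCharacter χ.2)
  have hWcl : IsClassFunction G W := Char.isClassFunction_of_isCharacter hW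
  have hw1 : w oneG = 1 := by
    have h := hw oneG
    have h2 : classInner W (oneG : G → ℂ) = classInner (ρ : G → ℂ) (ρ : G → ℂ) := by
      simp [classInner, W, oneG]
    rw [h2, Char.classInner_irr_self ρ.2] at h
    exact_mod_cast h.symm
  have hwI : ∀ χ ∈ K1, w χ = 1 := by
    intro χ hχ
    obtain ⟨θ, hθ, rfl⟩ := Finset.mem_image.1 hχ
    obtain ⟨h1, h2⟩ := (hmemL1 θ).1 hθ
    have h3 : classInner W (P θ) = (w (I θ) : ℂ) := by
      rw [Char.classInner_eq_sum hWcl, Finset.sum_eq_single (I θ) (fun χ _ hχ => by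
        rw [← Char.classInner_conj_symm (φ := P θ), hm, hI θ h1 h2, if_neg hχ]; simp) (by simp),
        ← Char.classInner_conj_symm (φ := P θ), hm, hI θ h1 h2, if_pos rfl, hw]
      simp
    rw [Char.classInner_indFun_right X.L _ hWcl] at h3
    have h4 : classInner (fun l : X.L => W l) (θ : X.L → ℂ) =
        classInner (ξ : X.L → ℂ) (ξ : X.L → ℂ) := by
      simp only [classInner]
      congr 1
      refine Finset.sum_congr rfl fun l _ => ?_
      have hl := congrFun hres l
      simp only [W, Pi.mul_apply]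
      rw [hl]
      by_cases hlK : l ∈ X.K
      · rw [h1 l hlK, X.lin_one h1, map_one, mul_one]
      · rw [X.nonlin_off ((hNL ξ).1 hξ) hlK, zero_mul, zero_mul]
    rw [h4, Char.classInner_irr_self ξ.2] at h3
    exact_mod_cast h3.symm
  have hdW : d * d = ∑ χ, w χ * dG χ := by
    have h := congrFun (Char.classFun_expansion hWcl) 1
    simp only [Finset.sum_apply, Pi.smul_apply, smul_eq_mul, hw, hdG, W, Pi.mul_apply, map_natCast,
      hρd] at h
    exact_mod_cast h
  have hfinal : 1 + k * (n + 1) ≤ d * d := by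
    rw [hdW]
    refine le_trans (le_of_eq ?_) (Finset.sum_le_sum_of_subset (Finset.subset_univ (insert oneG K1)))
    have h1 : dG oneG = 1 := by
      have := hdG oneG
      simp only [oneG] at this
      exact_mod_cast this.symm
    rw [Finset.sum_insert hK1ne.1, hw1, h1, Finset.sum_congr rfl (g := fun _ => n + 1)
      (fun χ hχ => by rw [hwI χ hχ, hdegK1 χ hχ, one_mul]), Finset.sum_const, smul_eq_mul]
  -- arithmetic
  have hbig : 2 * (2 * k + 1) + 2 ≤ n := by rw [← hdk]; omega
  have : k * (2 * (2 * k + 1) + 2 + 1) ≤ k * (n + 1) := Nat.mul_le_mul_left _ (by omega)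
  rw [hdk] at hfinal
  nlinarith

end AbCtx

end Cfsg.Agent.Zassenhaus
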