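import Cfsg.Agent.Zassenhaus.AbelianSetup
import Mathlib.GroupTheory.PGroup

/-!
Counting in a Zassenhaus group with inverting swappers: involutions, real characters of a point
stabiliser.
-/

set_option autoImplicit false
set_option linter.unusedSectionVars false

namespace Cfsg.Agent.Zassenhaus

open Subgroup MulAction
open scoped ComplexConjugate

universe u v

namespace AbCtx

variable {G : Type u} {Ω : Type v} [Group G] [MulAction G Ω] [Finite G] [Finite Ω]
  (X : AbCtx G Ω)
include X

/-- An element of the stabiliser with square in the kernel is in the kernel. -/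
theorem mem_K_of_sq {g : X.L} (h : g * g ∈ X.K) : g ∈ X.K := by
  obtain ⟨k, hk⟩ := X.odd_index
  have h2 := X.K.pow_mem h k
  rw [← pow_two, ← pow_mul] at h2
  have h1 := X.K.pow_index_mem g
  rw [hk, pow_succ] at h1
  exact (X.K.mul_mem_cancel_left h2).1 h1

theorem inv_fix_le {g : G} (hg : g * g = 1) (hg1 : g ≠ 1) {x : Ω} (hx : g • x = x) :
    ∀ y, g • y = y → y = x := by
  intro y hy
  by_contra hxy
  obtain ⟨k, hka, hkb⟩ := X.C.two (Ne.symm hxy) X.hab
  have hmem : k * g * k⁻¹ ∈ twoPt G X.a X.b := by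
    constructor
    · show (k * g * k⁻¹) • X.a = X.a
      rw [← hka, mul_smul, mul_smul, inv_smul_smul, hx]
    · show (k * g * k⁻¹) • X.b = X.b
      rw [← hkb, mul_smul, mul_smul, inv_smul_smul, hy]
  have h2 : orderOf (⟨_, hmem⟩ : twoPt G X.a X.b) ∣ 2 :=
    orderOf_dvd_of_pow_eq_one (Subtype.ext (by
      show (k * g * k⁻¹) ^ 2 = 1
      rw [conj_pow, pow_two, hg, mul_one, mul_inv_cancel]))
  rcases (Nat.dvd_prime Nat.prime_two).1 h2 with h3 | h3
  · exact hg1 (conj_eq_one_iff.1 (congrArg Subtype.val (orderOf_eq_one_iff.1 h3)))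
  · have h4 := X.odd.of_dvd_nat (orderOf_dvd_natCard (⟨_, hmem⟩ : twoPt G X.a X.b))
    rw [h3] at h4
    exact absurd h4 (by decide)

/-- The number of involutions, counted by the pairs they swap. -/
theorem card_inv_eq [Fintype G] [Fintype Ω] [DecidableEq G] [DecidableEq Ω] :
    ∑ g ∈ Finset.univ.filter (fun g : G => g * g = 1 ∧ g ≠ 1),
      (Finset.univ.filter fun x : Ω => g • x ≠ x).card =
    Nat.card Ω * Nat.card X.F * Nat.card (twoPt G X.a X.b) := by
  let P : Finset (Ω × Ω) := Finset.univ.filter fun q => q.1 ≠ q.2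
  let I : Finset G := Finset.univ.filter fun g => g * g = 1 ∧ g ≠ 1
  have hP : P.card = Nat.card Ω * Nat.card X.F := by
    have e : P = (Finset.univ : Finset Ω).offDiag := by ext ⟨x, y⟩; simp [P]
    rw [e, Finset.offDiag_card, Finset.card_univ, ← Nat.card_eq_fintype_card, ← X.card_F]
    exact Nat.sub_eq_of_eq_add (by ring)
  have hfib : ∀ q ∈ P, (I.filter fun g => g • q.1 = q.2).card = Nat.card (twoPt G X.a X.b) := by
    rintro ⟨x, y⟩ hq
    have hxy : x ≠ y := (Finset.mem_filter.1 hq).2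
    obtain ⟨k, hk1, hk2⟩ := X.C.two X.hab hxy
    obtain ⟨s, hsa, hsb⟩ := X.C.two X.hab (Ne.symm X.hab)
    have := Fintype.ofFinite (twoPt G X.a X.b)
    rw [Nat.card_eq_fintype_card, ← Finset.card_univ]
    refine (Finset.card_bij (fun (h : twoPt G X.a X.b) _ => k * (s * h) * k⁻¹) ?_ ?_ ?_).symm
    · intro h _
      have h1 : (s * (h : G)) • X.a = X.b := by rw [mul_smul, h.2.1, hsa]
      have h2 : (s * (h : G)) • X.b = X.a := by rw [mul_smul, h.2.2, hsb]
      refine Finset.mem_filter.2 ⟨Finset.mem_filter.2 ⟨Finset.mem_univ _, ?_, fun e => ?_⟩, ?_⟩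
      · rw [← pow_two, conj_pow, pow_two, X.swap_sq h1 h2, mul_one, mul_inv_cancel]
      · rw [conj_eq_one_iff] at e
        rw [e, one_smul] at h1
        exact X.hab h1
      · show (k * (s * h) * k⁻¹) • x = y
        rw [← hk1, mul_smul, mul_smul, inv_smul_smul, h1, hk2]
    · intro h _ h' _ e
      exact Subtype.ext (mul_left_cancel (mul_left_cancel (mul_right_cancel e)))
    · intro g hg
      obtain ⟨hgI, hgx⟩ := Finset.mem_filter.1 hg
      have hgx' : g • x = y := hgx
      have hgy : g • y = x := by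
        rw [← hgx', ← mul_smul, (Finset.mem_filter.1 hgI).2.1, one_smul]
      refine ⟨⟨s⁻¹ * (k⁻¹ * g * k), ?_, ?_⟩, Finset.mem_univ _, by group⟩
      · show (s⁻¹ * (k⁻¹ * g * k)) • X.a = X.a
        rw [mul_smul, mul_smul, mul_smul, hk1, hgx', inv_smul_eq_iff.2 hk2.symm,
          inv_smul_eq_iff, hsa]
      · show (s⁻¹ * (k⁻¹ * g * k)) • X.b = X.b
        rw [mul_smul, mul_smul, mul_smul, hk2, hgy, inv_smul_eq_iff.2 hk1.symm,
          inv_smul_eq_iff, hsb]
  have hmoved : ∀ g ∈ I, (P.filter fun q => g • q.1 = q.2).card =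
      (Finset.univ.filter fun x : Ω => g • x ≠ x).card := by
    intro g _
    refine Finset.card_bij (fun q _ => q.1) ?_ ?_ ?_
    · rintro ⟨x, y⟩ hq
      obtain ⟨hP', e⟩ := Finset.mem_filter.1 hq
      exact Finset.mem_filter.2 ⟨Finset.mem_univ _, fun e' =>
        (Finset.mem_filter.1 hP').2 (e'.symm.trans e)⟩
    · rintro ⟨x, y⟩ hq ⟨x', y'⟩ hq' (rfl : x = x')
      exact Prod.ext rfl ((Finset.mem_filter.1 hq).2.symm.trans (Finset.mem_filter.1 hq').2)
    · intro x hx
      exact ⟨(x, g • x), Finset.mem_filter.2 ⟨Finset.mem_filter.2 ⟨Finset.mem_univ _,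
        fun e => (Finset.mem_filter.1 hx).2 e.symm⟩, rfl⟩, rfl⟩
  calc _ = ∑ g ∈ I, (P.filter fun q => g • q.1 = q.2).card :=
        Finset.sum_congr rfl fun g hg => (hmoved g hg).symm
    _ = ∑ q ∈ P, (I.filter fun g => g • q.1 = q.2).card :=
        Finset.sum_card_bipartiteAbove_eq_sum_card_bipartiteBelow
          (r := fun (g : G) (q : Ω × Ω) => g • q.1 = q.2) (s := I) (t := P)
    _ = P.card * Nat.card (twoPt G X.a X.b) := Finset.sum_const_nat hfib
    _ = _ := by rw [hP]

theorem exists_fix_of_even [Fintype Ω] (hev : Even (Nat.card X.F)) {g : G} (hg : g * g = 1) :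
    ∃ x : Ω, g • x = x := by
  have : Fact (Nat.Prime 2) := ⟨Nat.prime_two⟩
  by_contra! h
  have hP : IsPGroup 2 (zpowers g) := fun x => ⟨1, by
    obtain ⟨x, i, rfl⟩ := x
    exact Subtype.ext (by
      show (g ^ i) ^ 2 = 1
      rw [← zpow_natCast, ← zpow_mul, mul_comm, zpow_mul, zpow_natCast, pow_two, hg, one_zpow])⟩
  have h1 := hP.card_modEq_card_fixedPoints Ω
  have : IsEmpty (MulAction.fixedPoints (zpowers g) Ω) :=
    ⟨fun x => h x.1 (x.2 ⟨g, mem_zpowers g⟩)⟩
  rw [Nat.card_of_isEmpty (α := MulAction.fixedPoints (zpowers g) Ω), Nat.ModEq, ← X.card_F] at h1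
  obtain ⟨j, hj⟩ := hev
  omega

/-- At least `n d` involutions, `(n + 1) d` if `n` is even. -/
theorem le_card_sqrt_one :
    1 + Nat.card X.F * Nat.card (twoPt G X.a X.b) +
        (if Even (Nat.card X.F) then Nat.card (twoPt G X.a X.b) else 0) ≤
      Nat.card {s : G // s * s = 1} := by
  classical
  have := Fintype.ofFinite G
  have := Fintype.ofFinite Ω
  have hsum := X.card_inv_eq
  set I := Finset.univ.filter (fun g : G => g * g = 1 ∧ g ≠ 1) with hI
  have hI1 : (Finset.univ.filter fun g : G => g * g = 1).card = I.card + 1 := by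
    rw [← Finset.card_erase_add_one (s := Finset.univ.filter fun g : G => g * g = 1) (a := 1)
      (by simp)]
    congr 2
    ext g
    simp [hI, and_comm]
  rw [Nat.card_eq_fintype_card (α := {s : G // s * s = 1}), Fintype.card_subtype, hI1]
  set n := Nat.card X.F
  set d := Nat.card (twoPt G X.a X.b)
  have hn : 0 < n := Nat.card_pos
  have hN : n + 1 = Nat.card Ω := X.card_F
  split_ifs with hev
  · have hle : ∀ g ∈ I, (Finset.univ.filter fun x : Ω => g • x ≠ x).card ≤ n := by
      intro g hg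
      obtain ⟨x, hx⟩ := X.exists_fix_of_even hev (Finset.mem_filter.1 hg).2.1
      have h := Finset.card_le_card (t := Finset.univ.erase x)
        (s := Finset.univ.filter fun x : Ω => g • x ≠ x) fun y hy =>
          Finset.mem_erase.2 ⟨fun e => (Finset.mem_filter.1 hy).2 (e ▸ hx), Finset.mem_univ _⟩
      rw [Finset.card_erase_of_mem (Finset.mem_univ _), Finset.card_univ,
        ← Nat.card_eq_fintype_card, ← hN] at h
      omega
    have h1 := Finset.sum_le_card_nsmul I _ n hle
    rw [hsum, smul_eq_mul, ← hN, Nat.mul_right_comm] at h1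
    have h2 : (n + 1) * d ≤ I.card := Nat.le_of_mul_le_mul_right h1 hn
    rw [add_mul, one_mul] at h2
    omega
  · have hle : ∀ g ∈ I, (Finset.univ.filter fun x : Ω => g • x ≠ x).card ≤ n + 1 := fun g _ => by
      rw [hN, Nat.card_eq_fintype_card]
      exact Finset.card_le_univ _
    have h1 := Finset.sum_le_card_nsmul I _ (n + 1) hle
    rw [hsum, smul_eq_mul, ← hN, mul_assoc, mul_comm] at h1
    have h2 : n * d ≤ I.card := Nat.le_of_mul_le_mul_right h1 (Nat.succ_pos n)
    omega

/-- In even degree of the kernel there are exactly `d` involutions in the kernel. -/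
theorem card_inv_kernel (hev : Even (Nat.card X.F)) :
    Nat.card {u : X.F // u * u = 1 ∧ u ≠ 1} = Nat.card (twoPt G X.a X.b) := by
  classical
  have := Fintype.ofFinite G
  have := Fintype.ofFinite Ω
  have hsum := X.card_inv_eq
  set I := Finset.univ.filter (fun g : G => g * g = 1 ∧ g ≠ 1) with hI
  let i : Ω → Finset G := fun x => I.filter fun g => g • x = x
  have hi : ∀ x, (i x).card = (i X.a).card := by
    intro x
    obtain ⟨k, hk⟩ : ∃ k : G, k • X.a = x := by
      by_cases hx : X.a = x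
      · exact ⟨1, by rw [one_smul, hx]⟩
      · obtain ⟨k, hk, -⟩ := X.C.two X.hab (Ne.symm hx)
        exact ⟨k, hk⟩
    refine (Finset.card_bij (fun g _ => k * g * k⁻¹) ?_ ?_ ?_).symm
    · intro g hg
      simp only [i, hI, Finset.mem_filter, Finset.mem_univ, true_and] at hg ⊢
      refine ⟨⟨?_, fun e => hg.1.2 (conj_eq_one_iff.1 e)⟩, ?_⟩
      · rw [← pow_two, conj_pow, pow_two, hg.1.1, mul_one, mul_inv_cancel]
      · rw [← hk, mul_smul, mul_smul, inv_smul_smul, hg.2]
    · exact fun g _ h _ e => mul_left_cancel (mul_right_cancel e)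
    · intro g hg
      simp only [i, hI, Finset.mem_filter, Finset.mem_univ, true_and] at hg ⊢
      refine ⟨k⁻¹ * g * k, ⟨⟨?_, fun e => hg.1.2 ?_⟩, ?_⟩, by group⟩
      · have : k⁻¹ * g * k * (k⁻¹ * g * k) = k⁻¹ * (g * g) * k := by group
        rw [this, hg.1.1]; group
      · calc g = k * (k⁻¹ * g * k) * k⁻¹ := by group
          _ = 1 := by rw [e]; group
      · rw [mul_smul, mul_smul, hk, hg.2, inv_smul_eq_iff, hk]
  have hone : ∀ g ∈ I, (Finset.univ.filter fun x : Ω => g • x = x).card = 1 := by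
    intro g hg
    obtain ⟨-, h1, h2⟩ := Finset.mem_filter.1 hg
    obtain ⟨x, hx⟩ := X.exists_fix_of_even hev h1
    exact Finset.card_eq_one.2 ⟨x, Finset.ext fun y =>
      ⟨fun hy => Finset.mem_singleton.2 (X.inv_fix_le h1 h2 hx y (Finset.mem_filter.1 hy).2),
        fun hy => by rw [Finset.mem_singleton.1 hy]; simp [hx]⟩⟩
  have hIcard : I.card = Nat.card Ω * (i X.a).card := by
    calc I.card = ∑ g ∈ I, (Finset.univ.filter fun x : Ω => g • x = x).card := by
          rw [Finset.sum_congr rfl hone, Finset.card_eq_sum_ones]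
      _ = ∑ x : Ω, (i x).card :=
          Finset.sum_card_bipartiteAbove_eq_sum_card_bipartiteBelow
            (r := fun (g : G) (x : Ω) => g • x = x) (s := I) (t := Finset.univ)
      _ = _ := by rw [Finset.sum_const_nat fun x _ => hi x, Finset.card_univ, Nat.card_eq_fintype_card]
  have hmoved : ∀ g ∈ I, (Finset.univ.filter fun x : Ω => g • x ≠ x).card = Nat.card X.F := by
    intro g hg
    have h1 := Finset.card_filter_add_card_filter_not (s := (Finset.univ : Finset Ω))
      (fun z => g • z = z)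
    rw [hone g hg, Finset.card_univ, ← Nat.card_eq_fintype_card, ← X.card_F] at h1
    exact Nat.add_left_cancel (h1.trans (add_comm _ _))
  rw [Finset.sum_congr rfl hmoved, Finset.sum_const, smul_eq_mul, hIcard, mul_assoc, mul_assoc] at hsum
  have h3 := Nat.eq_of_mul_eq_mul_left (by rw [← X.card_F]; omega) hsum
  rw [mul_comm] at h3
  rw [← Nat.eq_of_mul_eq_mul_left Nat.card_pos h3, Nat.card_eq_fintype_card]
  refine (Fintype.card_of_bijective (f := fun u : {u : X.F // u * u = 1 ∧ u ≠ 1} =>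
    (⟨(u.1 : G), Finset.mem_filter.2 ⟨Finset.mem_filter.2 ⟨Finset.mem_univ _,
      congrArg Subtype.val u.2.1, fun e => u.2.2 (Subtype.ext e)⟩, X.ker.fix _ u.1.2⟩⟩ : i X.a))
    ⟨fun u w e => Subtype.ext (Subtype.ext (congrArg Subtype.val e :)), fun g => ?_⟩).trans
      (Fintype.card_coe _)
  obtain ⟨hgI, hga⟩ := Finset.mem_filter.1 g.2
  obtain ⟨-, hg2, hg1⟩ := Finset.mem_filter.1 hgI
  have hgK : (⟨(g : G), hga⟩ : X.L) ∈ X.K := X.mem_K_of_sq (by
    show ((g : G) * g) ∈ X.F
    rw [hg2]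
    exact X.F.one_mem)
  exact ⟨⟨⟨g, hgK⟩, Subtype.ext hg2, fun e => hg1 (congrArg Subtype.val e)⟩, rfl⟩

/-- A real class of the stabiliser is trivial or an involution of the kernel. -/
theorem real_class {g : X.L} (h : IsConj g⁻¹ g) : g ∈ X.K ∧ g * g = 1 := by
  obtain ⟨y, hy⟩ := isConj_iff.1 h
  have h1 : g * g ∈ X.K := by
    rw [← QuotientGroup.eq_one_iff, QuotientGroup.mk_mul]
    have h2 : (QuotientGroup.mk g : X.L ⧸ X.K)⁻¹ = QuotientGroup.mk g := by
      conv_rhs => rw [← hy, QuotientGroup.mk_mul, QuotientGroup.mk_mul, QuotientGroup.mk_inv,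
        X.quotient_comm, ← mul_assoc, QuotientGroup.mk_inv, inv_mul_cancel, one_mul]
    nth_rw 1 [← h2]
    exact inv_mul_cancel _
  have hgK := X.mem_K_of_sq h1
  refine ⟨hgK, ?_⟩
  by_cases hg1 : g = 1
  · rw [hg1, one_mul]
  have hy2 : y * y ∈ X.K := X.centralizer_le g hgK hg1 (Subgroup.mem_centralizer_singleton_iff.2 (by
    have h4 : y * g * y⁻¹ = g⁻¹ := by
      have := congrArg (·⁻¹) hy
      simpa [mul_assoc] using this
    have h3 : y * y * g * (y * y)⁻¹ = g := by
      calc y * y * g * (y * y)⁻¹ = y * (y * g * y⁻¹) * y⁻¹ := by group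
        _ = g := by rw [h4, hy]
    exact mul_inv_eq_iff_eq_mul.1 h3))
  have hyK := X.mem_K_of_sq hy2
  have hcomm : y * g⁻¹ = g⁻¹ * y :=
    Subtype.ext (X.fcomm _ hyK _ (X.F.inv_mem hgK))
  rw [hcomm, mul_inv_cancel_right] at hy
  exact inv_eq_iff_mul_eq_one.1 hy

/-- At most one nonlinear real character of the stabiliser, none if `n` is odd. -/
theorem card_real_nonlin :
    Nat.card {χ : IrrCharacter X.L // Char.conjIrr χ = χ ∧ ¬X.IsLin χ} ≤
      if Even (Nat.card X.F) then 1 else 0 := by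
  classical
  have := Fintype.ofFinite X.L
  let τ : ConjClasses X.L → ConjClasses X.L :=
    Quotient.map' (fun g : X.L => g⁻¹) fun x y h => by
      obtain ⟨c, hc⟩ := isConj_iff.1 h
      exact isConj_iff.2 ⟨c, by rw [← hc]; group⟩
  have hbr := Char.brauer_permutation (G := X.L) Char.conjIrr τ fun χ g g' hg => by
    have h1 : IsConj g⁻¹ g' := ConjClasses.mk_eq_mk_iff_isConj.1 hg
    rw [Char.conjIrr_apply, ← Char.IsChar.inv_eq_conj (Char.IsIrr.isCharacter χ.2),
      Char.classFun_isConj (Char.isClassFunction_of_isIrr χ.2) h1]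
  -- the trivial character is real
  have h1 : Nat.card {χ : IrrCharacter X.L // Char.conjIrr χ = χ ∧ ¬X.IsLin χ} + 1 ≤
      Nat.card {χ : IrrCharacter X.L // Char.conjIrr χ = χ} := by
    let one : IrrCharacter X.L := ⟨fun _ => 1, Char.isIrrCharacter_one⟩
    have hone : Char.conjIrr one = one := Subtype.ext (funext fun g => by simp [one])
    rw [← Finite.card_option]
    refine Nat.card_le_card_of_injective
      (fun o => o.elim ⟨one, hone⟩ fun χ => ⟨χ.1, χ.2.1⟩) ?_
    rintro (_ | χ) (_ | ψ) e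
    · rfl
    · exact absurd (congrArg Subtype.val e).symm (fun e' => ψ.2.2 (e' ▸ fun k _ => rfl))
    · exact absurd (congrArg Subtype.val e) (fun e' => χ.2.2 (e' ▸ fun k _ => rfl))
    · exact congrArg some (Subtype.ext (congrArg Subtype.val e :))
  rw [hbr] at h1
  have hfix : ∀ C, τ C = C → ∃ g : X.L, ConjClasses.mk g = C ∧ g ∈ X.K ∧ g * g = 1 := by
    intro C hC
    obtain ⟨g, rfl⟩ := ConjClasses.mk_surjective C
    exact ⟨g, rfl, X.real_class (ConjClasses.mk_eq_mk_iff_isConj.1 hC)⟩
  split_ifs with hev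
  · have hinv := X.card_inv_kernel hev
    have htrans : ∀ g g' : X.L, g ∈ X.K → g * g = 1 → g ≠ 1 → g' ∈ X.K → g' * g' = 1 → g' ≠ 1 →
        IsConj g g' := by
      intro g g' hg hg2 hg1 hg' hg2' hg1'
      let S := {u : X.F // u * u = 1 ∧ u ≠ 1}
      let φ : twoPt G X.a X.b → S := fun h => ⟨X.ker.act h ⟨g, hg⟩, by
        rw [← map_mul, show (⟨(g : G), hg⟩ : X.F) * ⟨(g : G), hg⟩ = 1 from
          Subtype.ext (congrArg Subtype.val hg2 :), map_one], fun e =>
        hg1 (Subtype.ext (congrArg Subtype.val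
          ((X.ker.act h).injective (e.trans (map_one _).symm)) :))⟩
      have hφ : Function.Bijective φ := (Nat.bijective_iff_injective_and_card φ).2 ⟨fun h k e => by
        by_contra hne
        refine hg1 ?_
        have e1 : X.ker.act h ⟨g, hg⟩ = X.ker.act k ⟨g, hg⟩ := congrArg Subtype.val e
        have e2 := (X.ker.act_fpf X.C X.hab (k⁻¹ * h)
          (fun e' => hne (inv_mul_eq_one.1 e').symm) ⟨g, hg⟩
          (by rw [map_mul, MulAut.mul_apply, e1, ← MulAut.mul_apply, ← map_mul, inv_mul_cancel,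
            map_one]; rfl))
        exact Subtype.ext (congrArg (fun u : X.F => (u : G)) e2), hinv.symm⟩
      obtain ⟨h, hh⟩ := hφ.2 ⟨⟨g', hg'⟩, Subtype.ext (congrArg Subtype.val hg2' :),
        fun e => hg1' (Subtype.ext (congrArg Subtype.val e :))⟩
      refine isConj_iff.2 ⟨⟨h, h.2.1⟩, Subtype.ext ?_⟩
      exact congrArg (fun s : S => (s.1 : G)) hh
    have h2 : Nat.card {C : ConjClasses X.L // τ C = C} ≤ Nat.card Bool := by
      refine Nat.card_le_card_of_injective (fun C => decide (C.1 = ConjClasses.mk 1)) fun C C' e => ?_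
      obtain ⟨g, hg, hgK, hg2⟩ := hfix C.1 C.2
      obtain ⟨g', hg', hgK', hg2'⟩ := hfix C'.1 C'.2
      apply Subtype.ext
      have e' : (C.1 = ConjClasses.mk 1) ↔ (C'.1 = ConjClasses.mk 1) := decide_eq_decide.1 e
      by_cases h : C.1 = ConjClasses.mk 1
      · rw [h, e'.1 h]
      · rw [← hg, ← hg'] at *
        exact ConjClasses.mk_eq_mk_iff_isConj.2 (htrans g g' hgK hg2 (fun e => h (by rw [e]))
          hgK' hg2' (fun e => (fun h' => h (e'.2 h')) (by rw [e])))
    rw [Nat.card_eq_fintype_card (α := Bool), Fintype.card_bool] at h2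
    omega
  · have h2 : Nat.card {C : ConjClasses X.L // τ C = C} ≤ Nat.card Unit := by
      refine Nat.card_le_card_of_injective (fun _ => ()) fun C C' _ => ?_
      have hone : ∀ g : X.L, g ∈ X.K → g * g = 1 → g = 1 := by
        intro g hg hg2
        by_contra hg1
        apply hev
        rw [← X.card_K, even_iff_two_dvd]
        have h3 : orderOf (⟨g, hg⟩ : X.K) = 2 := orderOf_eq_prime (Subtype.ext (by
          simpa [pow_two] using hg2)) fun e => hg1 (congrArg Subtype.val e)
        rw [← h3]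
        exact orderOf_dvd_natCard _
      obtain ⟨g, hg, hgK, hg2⟩ := hfix C.1 C.2
      obtain ⟨g', hg', hgK', hg2'⟩ := hfix C'.1 C'.2
      exact Subtype.ext (by rw [← hg, ← hg', hone g hgK hg2, hone g' hgK' hg2'])
    rw [Nat.card_unique (α := Unit)] at h2
    omega

end AbCtx

end Cfsg.Agent.Zassenhaus
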