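import Cfsg.Agent.Zassenhaus.Basic
import Cfsg.Agent.Char.FS
import Cfsg.Agent.Char.Linear
import Cfsg.Agent.Char.Induced
import Cfsg.Agent.Coherence.FrobKernel
import Cfsg.Agent.S1528

/-!
A Zassenhaus group with abelian kernel and inverting swappers: the point stabiliser, its
characters and their inductions.
-/

set_option autoImplicit false
set_option linter.unusedSectionVars false

namespace Cfsg.Agent.Zassenhaus

open Subgroup MulAction
open scoped ComplexConjugate

universe u v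

/-- Abelian kernel, odd abelian two-point stabiliser inverted by every swapper. -/
structure AbCtx (G : Type u) (Ω : Type v) [Group G] [MulAction G Ω] where
  a : Ω
  b : Ω
  F : Subgroup G
  C : ZCtx G Ω
  h3 : 3 ≤ Nat.card Ω
  hab : a ≠ b
  ker : IsKernel F a
  fcomm : ∀ x ∈ F, ∀ y ∈ F, x * y = y * x
  ecomm : ∀ x ∈ twoPt G a b, ∀ y ∈ twoPt G a b, x * y = y * x
  inv : ∀ s : G, s • a = b → s • b = a → ∀ h ∈ twoPt G a b, s * h * s⁻¹ = h⁻¹
  odd : Odd (Nat.card (twoPt G a b))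

namespace AbCtx

variable {G : Type u} {Ω : Type v} [Group G] [MulAction G Ω] (X : AbCtx G Ω)

/-- The point stabiliser. -/
abbrev L : Subgroup G := stabilizer G X.a

/-- The kernel inside it. -/
abbrev K : Subgroup X.L := X.F.subgroupOf X.L

instance normal_K : X.K.Normal :=
  ⟨fun u hu g => X.ker.norm (g : G) g.2 _ hu⟩

theorem mem_F {u : G} (hu : u • X.a = X.a) (hfix : ∀ c : Ω, u • c = c → c = X.a) [Finite G] :
    u ∈ X.F := by
  classical
  by_contra hcon
  -- `u = v h` with `h` fixing `b`; the map `c ↦ [v, h]`-translate has a fixed point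
  obtain ⟨v, hv, -⟩ := X.ker.reg X.b (u • X.b) (Ne.symm X.hab) (fun e => X.hab
    (MulAction.injective u (hu.trans e.symm)))
  set h := (v : G)⁻¹ * u with hh
  have hhE : h ∈ twoPt G X.a X.b := by
    refine ⟨?_, ?_⟩
    · show ((v : G)⁻¹ * u) • X.a = X.a
      rw [mul_smul, hu, inv_smul_eq_iff, X.ker.fix v v.2]
    · show ((v : G)⁻¹ * u) • X.b = X.b
      rw [mul_smul, inv_smul_eq_iff, hv]
  have hh1 : h ≠ 1 := fun e => hcon (by
    rw [show u = (v : G) * h by rw [hh, mul_inv_cancel_left], e, mul_one]; exact v.2)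
  have hbij : Function.Bijective (fun w : X.F => w⁻¹ * X.ker.act ⟨h, hhE⟩ w) := by
    refine (Finite.injective_iff_bijective).1 fun x y hxy => ?_
    have h1 : X.ker.act ⟨h, hhE⟩ (x * y⁻¹) = x * y⁻¹ := by
      have h2 : x⁻¹ * X.ker.act ⟨h, hhE⟩ x = y⁻¹ * X.ker.act ⟨h, hhE⟩ y := hxy
      rw [map_mul, map_inv, show X.ker.act ⟨h, hhE⟩ x = x * (y⁻¹ * X.ker.act ⟨h, hhE⟩ y) by
        rw [← h2, mul_inv_cancel_left]]
      simp [mul_assoc]
    exact mul_inv_eq_one.1 (X.ker.act_fpf X.C X.hab _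
      (fun e => hh1 (congrArg Subtype.val e)) _ h1)
  obtain ⟨w, hw⟩ := hbij.2 v⁻¹
  have hw' : (w : G)⁻¹ * (h * w * h⁻¹) = (v : G)⁻¹ := by
    have := congrArg Subtype.val hw
    simpa [X.ker.act_coe] using this
  have hfixw : u • ((w : G) • X.b) = (w : G) • X.b := by
    have e1 : h * (w : G) = (w : G) * (v : G)⁻¹ * h := by rw [← hw']; group
    have e2 : (v : G) * h = u := by rw [hh, mul_inv_cancel_left]
    have e3 : u * (w : G) = (w : G) * h :=
      calc u * (w : G) = (v : G) * (h * w) := by rw [← mul_assoc, e2]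
        _ = (v : G) * w * (v : G)⁻¹ * h := by rw [e1]; group
        _ = (w : G) * v * (v : G)⁻¹ * h := by rw [X.fcomm v v.2 w w.2]
        _ = (w : G) * h := by rw [mul_inv_cancel_right]
    rw [← mul_smul, e3, mul_smul, hhE.2]
  exact X.ker.smul_ne w.2 (Ne.symm X.hab) (hfix _ hfixw)

/-- An element of the stabiliser outside the kernel fixes exactly one more point. -/
theorem exists_fix [Finite G] {l : G} (hl : l • X.a = X.a) (hlF : l ∉ X.F) :
    ∃ c : Ω, c ≠ X.a ∧ l • c = c ∧ ∀ x, l • x = x → x = X.a ∨ x = c := by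
  obtain ⟨c, hc, hca⟩ : ∃ c, l • c = c ∧ c ≠ X.a := by
    by_contra! h
    exact hlF (X.mem_F hl h)
  refine ⟨c, hca, hc, fun x hx => ?_⟩
  by_contra! h
  exact hlF (X.C.three l X.a c x hca.symm h.2.symm h.1.symm hl hc hx ▸ X.F.one_mem)

theorem fix_eq {u : G} (hu : u ∈ X.F) (hu1 : u ≠ 1) {c : Ω} (hc : u • c = c) : c = X.a :=
  by_contra fun h => hu1 (X.ker.eq_one_of_fix hu h hc)

theorem centralizer_le [Finite G] :
    ∀ k ∈ X.K, k ≠ 1 → Subgroup.centralizer ({k} : Set X.L) ≤ X.K := by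
  intro k hk hk1 x hx
  by_contra hxK
  obtain ⟨c, hca, hxc, hall⟩ := X.exists_fix x.2 (fun h => hxK h)
  have hcomm : (k : G) * x = (x : G) * k := by
    have := Subgroup.mem_centralizer_singleton_iff.1 hx
    exact congrArg Subtype.val this.symm
  rcases hall ((k : G) • c) (by rw [← mul_smul, ← hcomm, mul_smul, hxc]) with h | h
  · exact X.ker.smul_ne hk hca h
  · exact hk1 (Subtype.ext (X.ker.eq_one_of_fix hk hca h))

variable [Finite G] [Finite Ω]

theorem card_K : Nat.card X.K = Nat.card X.F :=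
  Nat.card_congr (Subgroup.subgroupOfEquivOfLe (fun u hu => X.ker.fix u hu)).toEquiv

/-- Every coset of the kernel meets the two-point stabiliser once. -/
theorem index_K : X.K.index = Nat.card (twoPt G X.a X.b) := by
  refine (Nat.card_congr (Equiv.ofBijective
    (fun h : twoPt G X.a X.b => (QuotientGroup.mk (⟨h, h.2.1⟩ : X.L) : X.L ⧸ X.K))
    ⟨fun h h' e => ?_, fun q => ?_⟩)).symm
  · have e' : (h : G)⁻¹ * h' ∈ X.F :=
      (QuotientGroup.eq (s := X.K) (a := (⟨h, h.2.1⟩ : X.L)) (b := ⟨h', h'.2.1⟩)).1 e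
    have e2 : ((h : G)⁻¹ * h') • X.b = X.b := by rw [mul_smul, h'.2.2, inv_smul_eq_iff, h.2.2]
    exact Subtype.ext (inv_mul_eq_one.1 (X.ker.eq_one_of_fix e' (Ne.symm X.hab) e2))
  · obtain ⟨l, rfl⟩ := QuotientGroup.mk_surjective q
    obtain ⟨u, hu, -⟩ := X.ker.reg X.b ((l : G)⁻¹ • X.b) (Ne.symm X.hab) fun e => X.hab (by
      have := inv_smul_eq_iff.1 e
      rw [l.2] at this
      exact this.symm)
    refine ⟨⟨(l : G) * u, ?_, ?_⟩, QuotientGroup.eq.2 ?_⟩
    · show ((l : G) * u) • X.a = X.a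
      rw [mul_smul, X.ker.fix u u.2, l.2]
    · show ((l : G) * u) • X.b = X.b
      rw [mul_smul, hu, smul_inv_smul]
    · show ((l : G) * u)⁻¹ * l ∈ X.F
      rw [mul_inv_rev, inv_mul_cancel_right]
      exact X.F.inv_mem u.2

theorem card_L : Nat.card X.L = Nat.card X.F * Nat.card (twoPt G X.a X.b) := by
  rw [← X.card_K, ← X.index_K, Subgroup.card_mul_index]

/-- The quotient by the kernel is abelian. -/
theorem quotient_comm : ∀ x y : X.L ⧸ X.K, x * y = y * x := by
  have hrep : ∀ q : X.L ⧸ X.K, ∃ h : twoPt G X.a X.b,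
      (QuotientGroup.mk (⟨h, h.2.1⟩ : X.L) : X.L ⧸ X.K) = q := fun q => by
    obtain ⟨l, rfl⟩ := QuotientGroup.mk_surjective q
    obtain ⟨u, hu, -⟩ := X.ker.reg X.b ((l : G)⁻¹ • X.b) (Ne.symm X.hab) fun e => X.hab (by
      have := inv_smul_eq_iff.1 e
      rw [l.2] at this
      exact this.symm)
    refine ⟨⟨(l : G) * u, ?_, ?_⟩, QuotientGroup.eq.2 ?_⟩
    · show ((l : G) * u) • X.a = X.a
      rw [mul_smul, X.ker.fix u u.2, l.2]
    · show ((l : G) * u) • X.b = X.b
      rw [mul_smul, hu, smul_inv_smul]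
    · show ((l : G) * u)⁻¹ * l ∈ X.F
      rw [mul_inv_rev, inv_mul_cancel_right]
      exact X.F.inv_mem u.2
  intro x y
  obtain ⟨h, rfl⟩ := hrep x
  obtain ⟨k, rfl⟩ := hrep y
  rw [← QuotientGroup.mk_mul, ← QuotientGroup.mk_mul]
  exact congrArg _ (Subtype.ext (X.ecomm _ h.2 _ k.2))

theorem odd_index : Odd X.K.index := X.index_K ▸ X.odd

theorem card_F : Nat.card X.F + 1 = Nat.card Ω := X.ker.card_eq X.hab

theorem card_G : Nat.card G = Nat.card Ω * Nat.card X.L := by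
  have : MulAction.IsPretransitive G Ω := ⟨fun x y => by
    by_cases hxy : x = y
    · exact ⟨1, by rw [one_smul, hxy]⟩
    · obtain ⟨g, hg, -⟩ := X.C.two hxy (Ne.symm hxy)
      exact ⟨g, hg⟩⟩
  rw [← MulAction.index_stabilizer_of_transitive G X.a, mul_comm, Subgroup.card_mul_index]

/-- An element swapping the two points is an involution. -/
theorem swap_sq {s : G} (hsa : s • X.a = X.b) (hsb : s • X.b = X.a) : s * s = 1 := by
  have hmem : s * s ∈ twoPt G X.a X.b :=
    ⟨by show (s * s) • X.a = X.a; rw [mul_smul, hsa, hsb],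
      by show (s * s) • X.b = X.b; rw [mul_smul, hsb, hsa]⟩
  have h1 := X.inv s hsa hsb _ hmem
  rw [show s * (s * s) * s⁻¹ = s * s by group, eq_inv_iff_mul_eq_one] at h1
  have h2 : orderOf (⟨s * s, hmem⟩ : twoPt G X.a X.b) ∣ 2 :=
    orderOf_dvd_of_pow_eq_one (Subtype.ext (by simpa [pow_two] using h1))
  rcases (Nat.dvd_prime Nat.prime_two).1 h2 with h3 | h3
  · exact congrArg Subtype.val (orderOf_eq_one_iff.1 h3)
  · have h4 := X.odd.of_dvd_nat (orderOf_dvd_natCard (⟨s * s, hmem⟩ : twoPt G X.a X.b))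
    rw [h3] at h4
    exact absurd h4 (by decide)

section Induced

variable [Fintype G]

/-- The characters of the stabiliser trivial on the kernel. -/
def IsLin (χ : IrrCharacter X.L) : Prop := ∀ k ∈ X.K, (χ : X.L → ℂ) k = (χ : X.L → ℂ) 1

theorem lin_hom {χ : IrrCharacter X.L} (h : X.IsLin χ) :
    ∃ f : X.L →* ℂˣ, (χ : X.L → ℂ) = fun l => (f l : ℂ) := by
  obtain ⟨φ, hφ, he⟩ := Char.IsIrr.exists_quotient X.K χ.2 h
  refine Char.IsChar.exists_hom (Char.IsIrr.isCharacter χ.2) ?_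
  rw [he]
  exact Char.IsIrr.degree_one_of_comm hφ X.quotient_comm

theorem lin_one {χ : IrrCharacter X.L} (h : X.IsLin χ) : (χ : X.L → ℂ) 1 = 1 := by
  obtain ⟨f, hf⟩ := X.lin_hom h
  simp [hf]

theorem nonlin_off {χ : IrrCharacter X.L} (h : ¬X.IsLin χ) {x : X.L} (hx : x ∉ X.K) :
    (χ : X.L → ℂ) x = 0 := by
  have := Fintype.ofFinite X.L
  rcases Coherence.FrobKernel.irr_cases X.centralizer_le χ.2 with h' | h'
  · exact absurd h' h
  · exact h' x hx

theorem nonlin_one {χ : IrrCharacter X.L} (h : ¬X.IsLin χ) :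
    (χ : X.L → ℂ) 1 = (Nat.card (twoPt G X.a X.b) : ℂ) := by
  classical
  have := Fintype.ofFinite X.L
  have := Fintype.ofFinite X.K
  obtain ⟨φ, hφ, he⟩ := Cfsg.Agent.S1528.result X.K X.centralizer_le _ χ.2 (by
    simpa [IsLin] using h)
  rw [he, Char.indFun_apply_one, Char.IsIrr.degree_one_of_comm hφ (fun x y =>
    Subtype.ext (Subtype.ext (X.fcomm _ x.2 _ y.2))), mul_one, X.index_K]

theorem card_lin :
    Nat.card {χ : IrrCharacter X.L // X.IsLin χ} = Nat.card (twoPt G X.a X.b) := by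
  show Nat.card {χ : IrrCharacter X.L // ∀ k ∈ X.K, (χ : X.L → ℂ) k = (χ : X.L → ℂ) 1} = _
  rw [← Nat.card_congr (Char.quotientEquiv X.K), Char.card_irrCharacter,
    Char.card_conjClasses_eq_card_iff.2 X.quotient_comm, ← Subgroup.index_eq_card, X.index_K]

/-- The value of an induced function at an element of the kernel. -/
theorem ind_ker (θ : X.L → ℂ) (hθ : IsClassFunction X.L θ) {u : X.L} (hu : u ∈ X.K)
    (hu1 : u ≠ 1) : indFun X.L θ u = θ u := by
  classical
  have := Fintype.ofFinite X.L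
  rw [Char.indFun_apply,
    ← Finset.sum_subset (Finset.subset_univ (Finset.univ.filter fun x : G => x ∈ X.L))]
  · rw [Finset.sum_congr rfl (g := fun _ => θ u), Finset.sum_const, nsmul_eq_mul, ← mul_assoc,
      show (Finset.univ.filter fun x : G => x ∈ X.L).card = Nat.card X.L by
        rw [Nat.card_eq_fintype_card, ← Fintype.card_subtype],
      inv_mul_cancel₀ Char.card_ne_zero, one_mul]
    intro x hx
    have hxL := (Finset.mem_filter.1 hx).2
    rw [Char.extendByZero_of_mem _ _ (X.L.mul_mem (X.L.mul_mem (X.L.inv_mem hxL) u.2) hxL)]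
    have := hθ u ⟨x⁻¹, X.L.inv_mem hxL⟩
    refine Eq.trans ?_ this
    congr 1
    exact Subtype.ext (by simp)
  · intro x _ hx
    refine Char.extendByZero_of_not_mem _ _ fun h => hx (Finset.mem_filter.2 ⟨Finset.mem_univ _, ?_⟩)
    have h1 : (u : G) • x • X.a = x • X.a := by
      have := mem_stabilizer_iff.1 h
      rw [mul_smul, mul_smul, inv_smul_eq_iff] at this
      exact this
    exact mem_stabilizer_iff.2 (X.fix_eq hu (fun e => hu1 (Subtype.ext e)) h1)

/-- The value of an induced function at an element of the stabiliser outside the kernel. -/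
theorem ind_off (θ : X.L → ℂ) (hθ : IsClassFunction X.L θ) {l : X.L} (hl : l ∉ X.K) :
    ∃ h : twoPt G X.a X.b, θ l = θ ⟨h, h.2.1⟩ ∧
      indFun X.L θ l = θ l + θ (⟨h, h.2.1⟩ : X.L)⁻¹ := by
  classical
  have := Fintype.ofFinite X.L
  obtain ⟨c, hca, hlc, hall⟩ := X.exists_fix l.2 (fun h => hl h)
  obtain ⟨v, hv, -⟩ := X.ker.reg X.b c (Ne.symm X.hab) hca
  set h : G := (v : G)⁻¹ * l * v with hh
  have hhE : h ∈ twoPt G X.a X.b := by
    refine ⟨?_, ?_⟩
    · show ((v : G)⁻¹ * l * v) • X.a = X.a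
      rw [mul_smul, mul_smul, X.ker.fix v v.2, l.2, inv_smul_eq_iff, X.ker.fix v v.2]
    · show ((v : G)⁻¹ * l * v) • X.b = X.b
      rw [mul_smul, mul_smul, hv, hlc, inv_smul_eq_iff, hv]
  obtain ⟨s, hsa, hsb⟩ := X.C.two X.hab (Ne.symm X.hab)
  have hlh : θ l = θ ⟨h, hhE.1⟩ := by
    refine Eq.trans ?_ (hθ ⟨h, hhE.1⟩ ⟨(v : G), X.ker.fix v v.2⟩)
    congr 1
    exact Subtype.ext (by simp [hh, mul_assoc])
  refine ⟨⟨h, hhE⟩, hlh, ?_⟩
  set x₀ : G := (v : G) * s with hx₀
  have hx₀a : x₀ • X.a = c := by rw [hx₀, mul_smul, hsa, hv]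
  let A : Finset G := Finset.univ.filter fun x => x • X.a = X.a
  let B : Finset G := Finset.univ.filter fun x => x • X.a = c
  have hAB : Disjoint A B := Finset.disjoint_left.2 fun x hx hx' =>
    hca ((Finset.mem_filter.1 hx').2.symm.trans (Finset.mem_filter.1 hx).2)
  have hcardA : A.card = Nat.card X.L := by
    rw [Nat.card_eq_fintype_card, Fintype.card_subtype]
    rfl
  have hcardB : B.card = Nat.card X.L := by
    rw [← hcardA]
    refine (Finset.card_bij (fun x _ => x₀ * x) ?_ ?_ ?_).symm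
    · exact fun x hx => Finset.mem_filter.2 ⟨Finset.mem_univ _, by
        rw [mul_smul, (Finset.mem_filter.1 hx).2, hx₀a]⟩
    · exact fun x _ y _ e => mul_left_cancel e
    · exact fun y hy => ⟨x₀⁻¹ * y, Finset.mem_filter.2 ⟨Finset.mem_univ _, by
        rw [mul_smul, (Finset.mem_filter.1 hy).2, inv_smul_eq_iff, hx₀a]⟩, mul_inv_cancel_left _ _⟩
  have hzero : ∀ x ∉ A ∪ B, extendByZero X.L θ (x⁻¹ * (l : G) * x) = 0 := by
    intro x hx
    refine Char.extendByZero_of_not_mem _ _ fun hm => hx ?_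
    have h1 := mem_stabilizer_iff.1 hm
    rw [mul_smul, mul_smul, inv_smul_eq_iff] at h1
    rcases hall _ h1 with e | e
    · exact Finset.mem_union_left _ (Finset.mem_filter.2 ⟨Finset.mem_univ _, e⟩)
    · exact Finset.mem_union_right _ (Finset.mem_filter.2 ⟨Finset.mem_univ _, e⟩)
  rw [Char.indFun_apply, ← Finset.sum_subset (Finset.subset_univ (A ∪ B)) (fun x _ hx => hzero x hx),
    Finset.sum_union hAB, Finset.sum_congr rfl (g := fun _ => θ l),
    Finset.sum_congr rfl (s₁ := B) (g := fun _ => θ (⟨h, hhE.1⟩ : X.L)⁻¹),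
    Finset.sum_const, Finset.sum_const, hcardA, hcardB, nsmul_eq_mul, nsmul_eq_mul, ← mul_add,
    ← mul_assoc, inv_mul_cancel₀ Char.card_ne_zero, one_mul]
  · intro x hx
    have hxB := (Finset.mem_filter.1 hx).2
    have hy : x₀⁻¹ * x ∈ X.L := mem_stabilizer_iff.2 (by
      rw [mul_smul, hxB, inv_smul_eq_iff, hx₀a])
    have hconj : x₀⁻¹ * (l : G) * x₀ = h⁻¹ := by
      have hs := X.inv s⁻¹ (inv_smul_eq_iff.2 hsb.symm) (inv_smul_eq_iff.2 hsa.symm) h hhE
      rw [inv_inv] at hs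
      rw [← hs, hx₀, hh]
      group
    have hmem : x⁻¹ * (l : G) * x ∈ X.L := by
      rw [show x⁻¹ * (l : G) * x = (x₀⁻¹ * x)⁻¹ * (x₀⁻¹ * (l : G) * x₀) * (x₀⁻¹ * x) by group,
        hconj]
      exact X.L.mul_mem (X.L.mul_mem (X.L.inv_mem hy) (X.L.inv_mem hhE.1)) hy
    rw [Char.extendByZero_of_mem _ _ hmem]
    refine Eq.trans ?_ (hθ (⟨h, hhE.1⟩ : X.L)⁻¹ ⟨x₀⁻¹ * x, hy⟩⁻¹)
    congr 1
    refine Subtype.ext ?_
    simp only [Subgroup.coe_mul, Subgroup.coe_inv, inv_inv]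
    rw [← hconj]
    group
  · intro x hx
    have hxL : x ∈ X.L := mem_stabilizer_iff.2 (Finset.mem_filter.1 hx).2
    rw [Char.extendByZero_of_mem _ _ (X.L.mul_mem (X.L.mul_mem (X.L.inv_mem hxL) l.2) hxL)]
    refine Eq.trans ?_ (hθ l ⟨x⁻¹, X.L.inv_mem hxL⟩)
    congr 1
    exact Subtype.ext (by simp)

theorem ind_one (θ : X.L → ℂ) :
    indFun X.L θ 1 = (Nat.card Ω : ℂ) * θ 1 := by
  classical
  have : MulAction.IsPretransitive G Ω := ⟨fun x y => by
    by_cases hxy : x = y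
    · exact ⟨1, by rw [one_smul, hxy]⟩
    · obtain ⟨g, hg, -⟩ := X.C.two hxy (Ne.symm hxy)
      exact ⟨g, hg⟩⟩
  rw [Char.indFun_apply_one, MulAction.index_stabilizer_of_transitive G X.a]

end Induced

end AbCtx

end Cfsg.Agent.Zassenhaus
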