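import Cfsg.Agent.Zassenhaus.NilSetup
import Cfsg.Agent.Zassenhaus.IntRows

/-!
Coherence for a Zassenhaus group with nilpotent kernel whose degrees grow slowly: `n ≤ 2 d + 1`.
-/

set_option autoImplicit false
set_option linter.unusedSectionVars false

namespace Cfsg.Agent.Zassenhaus

open Subgroup MulAction
open scoped ComplexConjugate

universe u v

/-- The degree of an irreducible character. -/
noncomputable def cdeg {H : Type*} [Group H] [Finite H] (χ : IrrCharacter H) : ℕ :=
  (Char.IsIrr.degree χ.2).choose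

theorem cdeg_spec {H : Type*} [Group H] [Finite H] (χ : IrrCharacter H) :
    0 < cdeg χ ∧ (χ : H → ℂ) 1 = (cdeg χ : ℂ) :=
  (Char.IsIrr.degree χ.2).choose_spec

theorem cdeg_eq {H : Type*} [Group H] [Finite H] {χ : IrrCharacter H} {n : ℕ}
    (h : (χ : H → ℂ) 1 = (n : ℂ)) : cdeg χ = n := by
  exact_mod_cast (cdeg_spec χ).2.symm.trans h

namespace NCtx

variable {G : Type u} {Ω : Type v} [Group G] [MulAction G Ω] [Fintype G] [Finite Ω]
  (X : NCtx G Ω)

theorem K_ne_top (hd1 : 1 < Nat.card (twoPt G X.a X.b)) : X.K ≠ ⊤ := fun e => by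
  have := X.index_K
  rw [e, Subgroup.index_top] at this
  omega

theorem ind_irr [Fintype X.L] {φ : IrrCharacter X.K} (h : (φ : X.K → ℂ) ≠ fun _ => 1) :
    IsIrrCharacter X.L (indFun X.K (φ : X.K → ℂ)) :=
  Coherence.FrobKernel.irr_ind X.centralizer_le φ.2 h

theorem ind_not_lin [Fintype X.L] (hd1 : 1 < Nat.card (twoPt G X.a X.b)) {χ : IrrCharacter X.L}
    {φ : X.K → ℂ} (he : (χ : X.L → ℂ) = indFun X.K φ) : ¬X.IsLin χ := fun h => by
  obtain ⟨f, hf⟩ := X.lin_hom h
  obtain ⟨x, hx⟩ : ∃ x, x ∉ X.K := by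
    by_contra! hall
    exact X.K_ne_top hd1 (eq_top_iff.2 fun x _ => hall x)
  have h1 := congrFun he x
  rw [Char.indFun_apply_of_normal X.K φ hx, hf] at h1
  exact (f x).ne_zero h1

set_option maxHeartbeats 1000000 in
/-- Slowly growing degrees in the kernel give `n ≤ 2 d + 1`. -/
theorem two_mul_bound_of_grow (hd1 : 1 < Nat.card (twoPt G X.a X.b))
    (hseed : 3 * Nat.card (twoPt G X.a X.b) + 1 ≤ (commutator X.K).index)
    (hbig : Nat.card (twoPt G X.a X.b) * (Nat.card (twoPt G X.a X.b) + 5) + 2 ≤ 2 * Nat.card X.F)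
    (hgrow : ∀ ψ : IrrCharacter X.K, 1 < cdeg ψ →
      (2 * cdeg ψ + 2) * Nat.card (twoPt G X.a X.b) + 1 ≤
        ∑ ψ' ∈ Finset.univ.filter (fun ψ' : IrrCharacter X.K => cdeg ψ' < cdeg ψ),
          cdeg ψ' * cdeg ψ') :
    Nat.card X.F ≤ 2 * Nat.card (twoPt G X.a X.b) + 1 := by
  classical
  by_contra hcon
  push Not at hcon
  have := Fintype.ofFinite X.L
  set n := Nat.card X.F with hn
  set d := Nat.card (twoPt G X.a X.b) with hd
  have hN : n + 1 = Nat.card Ω := X.card_F
  have hL : Nat.card X.L = n * d := X.card_L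
  let P : IrrCharacter X.L → G → ℂ := fun θ => indFun X.L (θ : X.L → ℂ)
  have hPchar : ∀ θ, IsCharacter G (P θ) := fun θ =>
    Char.isCharacter_indFun X.L (Char.IsIrr.isCharacter θ.2)
  choose m hm using fun (θ : IrrCharacter X.L) (χ : IrrCharacter G) =>
    Char.classInner_isCharacter_eq_natCast (hPchar θ) (Char.IsIrr.isCharacter χ.2)
  choose dG hdG0 hdG using fun χ : IrrCharacter G => Char.IsIrr.degree χ.2
  choose dL hdL0 hdL using fun θ : IrrCharacter X.L => Char.IsIrr.degree θ.2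
  have hdLlin : ∀ θ, X.IsLin θ → dL θ = 1 := fun θ h => by
    have := (hdL θ).symm.trans (X.lin_one h); exact_mod_cast this
  haveI : Nonempty (IrrCharacter X.K) := ⟨⟨fun _ => 1, Char.isIrrCharacter_one⟩⟩
  choose! φ hφ1 hφind hφdeg using fun (θ : IrrCharacter X.L) (h : ¬X.IsLin θ) => X.exists_ind h
  set a : IrrCharacter X.L → ℕ := fun θ => cdeg (φ θ) with ha
  have hdLnon : ∀ θ, ¬X.IsLin θ → dL θ = d * a θ := fun θ h => by
    have := (hdL θ).symm.trans (hφdeg θ h)
    rw [(cdeg_spec (φ θ)).2] at this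
    exact_mod_cast this
  have hPcls : ∀ θ, IsClassFunction G (P θ) := fun θ => Char.isClassFunction_indFun X.L _
  have hm' : ∀ (θ : IrrCharacter X.L) (χ : IrrCharacter G), classInner (fun l : X.L => (χ : G → ℂ) l) (θ : X.L → ℂ) = m θ χ := fun θ χ => by
    rw [← Char.classInner_indFun_right X.L _ (Char.isClassFunction_of_isIrr χ.2),
      ← Char.classInner_conj_symm, show classInner (indFun X.L (θ : X.L → ℂ)) (χ : G → ℂ) = _
        from hm θ χ]
    simp
  have hN_def : ∀ (θ η : IrrCharacter X.L), classInner (P θ) (P η) = ((∑ χ, m θ χ * m η χ : ℕ) : ℂ) := fun θ η => by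
    rw [Char.classInner_eq_sum (hPcls θ)]
    push_cast
    refine Finset.sum_congr rfl fun χ _ => ?_
    rw [hm, ← Char.classInner_conj_symm (φ := P η), hm]
    simp
  have hNnon : ∀ θ η, ¬X.IsLin η →
      ∑ χ, m θ χ * m η χ = (if θ = η then 1 else 0) + dL θ * a η := by
    intro θ η hη
    have hres : (fun l : X.L => P η l) = (η : X.L → ℂ) +
        fun l => if l = 1 then ((Nat.card X.L * a η : ℕ) : ℂ) else 0 := by
      funext l
      by_cases hl1 : l = 1
      · subst hl1
        simp only [Pi.add_apply, if_pos, P, Subgroup.coe_one, X.ind_one, ← hN, hdL, hdLnon η hη, hL]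
        push_cast
        ring
      by_cases hlK : l ∈ X.K
      · simp only [Pi.add_apply, if_neg hl1, add_zero, P]
        exact X.ind_ker _ (Char.isClassFunction_of_isIrr η.2) hlK hl1
      · obtain ⟨h, h1, h2⟩ := X.ind_off _ (Char.isClassFunction_of_isIrr η.2) hlK
        simp only [Pi.add_apply, if_neg hl1, add_zero, P, h2]
        rw [Char.IsChar.inv_eq_conj (Char.IsIrr.isCharacter η.2), ← h1, X.nonlin_off hη hlK]
        simp
    have h := hN_def θ η
    rw [show classInner (P θ) (P η) = classInner (θ : X.L → ℂ) (fun l : X.L => P η l) from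
      Char.classInner_indFun_left X.L _ (hPcls η), hres, Char.classInner_add_right,
      Char.classInner_irrChar] at h
    have h3 : classInner (θ : X.L → ℂ)
        (fun l => if l = 1 then ((Nat.card X.L * a η : ℕ) : ℂ) else 0) = ((dL θ * a η : ℕ) : ℂ) := by
      rw [classInner, Finset.sum_eq_single (1 : X.L) (fun l _ hl => by simp [hl]) (by simp),
        if_pos rfl, map_natCast, hdL, Nat.cast_mul, Nat.cast_mul, ← mul_assoc, ← mul_assoc,
        mul_comm _ (dL θ : ℂ), mul_assoc (dL θ : ℂ), inv_mul_cancel₀ Char.card_ne_zero, mul_one]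
    rw [h3] at h
    split_ifs at h ⊢ with he <;> exact_mod_cast h.symm
  have hNlin : ∀ θ η, X.IsLin θ → X.IsLin η →
      ∑ χ, m θ χ * m η χ = (if θ = η then 1 else 0) + (if θ = Char.conjIrr η then 1 else 0) := by
    intro θ η hθ hη
    obtain ⟨f, hf⟩ := X.lin_hom hη
    have hK1 : ∀ k : X.L, k ∈ X.K → (η : X.L → ℂ) k = 1 := fun k hk => (hη k hk).trans (X.lin_one hη)
    have hres : (fun l : X.L => P η l) = (η : X.L → ℂ) + (Char.conjIrr η : X.L → ℂ) -
        (fun l => if l ∈ X.K then (1 : ℂ) else 0) + fun l => if l = 1 then (n : ℂ) else 0 := by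
      funext l
      by_cases hl1 : l = 1
      · subst hl1
        simp only [Pi.add_apply, Pi.sub_apply, P, Subgroup.coe_one, X.ind_one, ← hN,
          Char.conjIrr_apply, hK1 1 X.K.one_mem, if_pos X.K.one_mem, if_pos, map_one]
        push_cast
        ring
      by_cases hlK : l ∈ X.K
      · simp only [Pi.add_apply, Pi.sub_apply, P, if_pos hlK, if_neg hl1,
          Char.conjIrr_apply, X.ind_ker _ (Char.isClassFunction_of_isIrr η.2) hlK hl1, hK1 l hlK,
          map_one]
        ring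
      · obtain ⟨h, h1, h2⟩ := X.ind_off _ (Char.isClassFunction_of_isIrr η.2) hlK
        simp only [Pi.add_apply, Pi.sub_apply, P, if_neg hlK, if_neg hl1, h2, Char.conjIrr_apply,
          Char.IsChar.inv_eq_conj (Char.IsIrr.isCharacter η.2), ← h1]
        ring
    have h := hN_def θ η
    rw [show classInner (P θ) (P η) = classInner (θ : X.L → ℂ) (fun l : X.L => P η l) from
      Char.classInner_indFun_left X.L _ (hPcls η), hres, Char.classInner_add_right,
      Char.classInner_sub_right, Char.classInner_add_right,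
      Char.classInner_irrChar, Char.classInner_irrChar] at h
    have h3 : classInner (θ : X.L → ℂ) (fun l => if l = 1 then (n : ℂ) else 0) =
        classInner (θ : X.L → ℂ) (fun l => if l ∈ X.K then (1 : ℂ) else 0) := by
      rw [classInner, classInner, Finset.sum_eq_single (1 : X.L) (fun l _ hl => by simp [hl]) (by simp),
        if_pos rfl, map_natCast, X.lin_one hθ, one_mul]
      congr 1
      rw [show n = Nat.card X.K from X.card_K.symm, Nat.card_eq_fintype_card, Fintype.card_subtype,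
        ← Finset.sum_boole]
      refine Finset.sum_congr rfl fun l _ => ?_
      by_cases hl : l ∈ X.K
      · simp [hl, hθ l hl, X.lin_one hθ]
      · simp [hl]
    rw [h3, sub_add_cancel] at h
    split_ifs at h ⊢ <;> exact_mod_cast h.symm
  -- degrees
  have hdeg : ∀ θ, (n + 1) * dL θ = ∑ χ, m θ χ * dG χ := fun θ => by
    have h := congrFun (Char.classFun_expansion (hPcls θ)) 1
    simp only [Finset.sum_apply, Pi.smul_apply, smul_eq_mul, hm, hdG, P, X.ind_one, ← hN, hdL] at h
    exact_mod_cast h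
  have hdegres : ∀ χ, dG χ = ∑ θ, m θ χ * dL θ := fun χ => by
    have h := congrFun (Char.classFun_expansion (G := X.L)
      (f := fun l : X.L => (χ : G → ℂ) l) fun x y => by
        simpa using Char.isClassFunction_of_isIrr χ.2 (x : G) (y : G)) 1
    simp only [Finset.sum_apply, Pi.smul_apply, smul_eq_mul, hm', hdL, Subgroup.coe_one, hdG] at h
    exact_mod_cast h
  -- the trivial character
  let oneL : IrrCharacter X.L := ⟨fun _ => 1, Char.isIrrCharacter_one⟩
  let oneG : IrrCharacter G := ⟨fun _ => 1, Char.isIrrCharacter_one⟩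
  have honeLin : X.IsLin oneL := fun _ _ => rfl
  have hconj1 : Char.conjIrr oneL = oneL := Subtype.ext (funext fun g => by simp [oneL])
  have hm1G : ∀ θ, m θ oneG = if θ = oneL then 1 else 0 := fun θ => by
    have h := hm' θ oneG
    rw [show (fun l : X.L => (oneG : G → ℂ) l) = (oneL : X.L → ℂ) from rfl,
      Char.classInner_irrChar] at h
    by_cases he : θ = oneL
    · subst he; simpa using h.symm
    · rw [if_neg he]; rw [if_neg (Ne.symm he)] at h; exact_mod_cast h.symm
  obtain ⟨St, hStne, hSt⟩ : ∃ St, St ≠ oneG ∧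
      ∀ χ, m oneL χ = (if χ = oneG then 1 else 0) + (if χ = St then 1 else 0) := by
    have h2 := hNlin oneL oneL honeLin honeLin
    rw [hconj1, if_pos rfl, ← Finset.add_sum_erase _ _ (Finset.mem_univ oneG), hm1G, if_pos rfl,
      one_mul, Nat.add_left_cancel_iff] at h2
    obtain ⟨St, hSt1, hSt2⟩ := exists_unit_vector _ _ h2
    refine ⟨St, Finset.ne_of_mem_erase hSt1, fun χ => ?_⟩
    by_cases hχ : χ = oneG
    · subst hχ
      rw [hm1G, if_pos rfl, if_pos rfl, if_neg (Ne.symm (Finset.ne_of_mem_erase hSt1))]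
    · rw [hSt2 χ (Finset.mem_erase.2 ⟨hχ, Finset.mem_univ _⟩), if_neg hχ, zero_add]
  -- the nontrivial linear characters
  have hlinreal : ∀ θ, X.IsLin θ → Char.conjIrr θ = θ → θ = oneL := by
    intro θ hθ hreal
    obtain ⟨f, hf⟩ := X.lin_hom hθ
    refine Subtype.ext (funext fun l => ?_)
    have h1 : (f l : ℂ) * f l = 1 := by
      have h2 := congrArg (fun ψ : IrrCharacter X.L => (ψ : X.L → ℂ) l) hreal
      simp only [Char.conjIrr_apply] at h2
      rw [← Char.IsChar.inv_eq_conj (Char.IsIrr.isCharacter θ.2), hf] at h2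
      simp only [map_inv, Units.val_inv_eq_inv_val] at h2
      nth_rw 1 [← h2]
      exact inv_mul_cancel₀ (f l).ne_zero
    have hd' : (f l : ℂ) ^ d = 1 := by
      have h2 := hθ _ (X.K.pow_index_mem l)
      rw [X.index_K, hf] at h2
      simp only [map_pow, map_one, Units.val_pow_eq_pow_val, Units.val_one] at h2
      exact h2
    obtain ⟨j, hj⟩ := X.odd
    rw [hd, hj, pow_succ, pow_mul, pow_two, h1, one_pow, one_mul] at hd'
    rw [hf]
    exact hd'
  have hI : ∀ θ, X.IsLin θ → θ ≠ oneL → ∃ I, ∀ χ, m θ χ = if χ = I then 1 else 0 := by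
    intro θ hθ hne
    have h := hNlin θ θ hθ hθ
    rw [if_pos rfl, if_neg fun e => hne (hlinreal θ hθ e.symm), add_zero] at h
    obtain ⟨I, -, hI⟩ := exists_unit_vector _ _ h
    exact ⟨I, fun χ => hI χ (Finset.mem_univ _)⟩
  have : Nonempty (IrrCharacter G) := ⟨oneG⟩
  choose! I hI using hI
  let L1 : Finset (IrrCharacter X.L) := Finset.univ.filter fun θ => X.IsLin θ ∧ θ ≠ oneL
  let K1 : Finset (IrrCharacter G) := L1.image I
  set k := K1.card with hk
  have hmemL1 : ∀ θ, θ ∈ L1 ↔ X.IsLin θ ∧ θ ≠ oneL := fun θ => by simp [L1]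
  have hIeq : ∀ θ ∈ L1, ∀ η, X.IsLin η → ∑ χ, m θ χ * m η χ = m η (I θ) := by
    intro θ hθ η _
    obtain ⟨h1, h2⟩ := (hmemL1 θ).1 hθ
    simp [hI θ h1 h2]
  have hdk : d = 2 * k + 1 := by
    have hfib : ∀ χ ∈ K1, (L1.filter fun θ => I θ = χ).card = 2 := by
      intro χ hχ
      obtain ⟨η, hη, rfl⟩ := Finset.mem_image.1 hχ
      obtain ⟨hη1, hη2⟩ := (hmemL1 η).1 hη
      have hcne : Char.conjIrr η ≠ η := fun e => hη2 (hlinreal η hη1 e)
      have : (L1.filter fun θ => I θ = I η) = {η, Char.conjIrr η} := by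
        ext θ
        simp only [Finset.mem_filter, Finset.mem_insert, Finset.mem_singleton]
        constructor
        · rintro ⟨hθ, he⟩
          obtain ⟨hθ1, hθ2⟩ := (hmemL1 θ).1 hθ
          have h := (hIeq θ hθ η hη1).symm.trans (hNlin θ η hθ1 hη1)
          rw [he, hI η hη1 hη2, if_pos rfl] at h
          by_contra hc
          rw [not_or] at hc
          rw [if_neg hc.1, if_neg hc.2] at h
          omega
        · rintro (rfl | rfl)
          · exact ⟨hη, rfl⟩
          have hc1 : X.IsLin (Char.conjIrr η) := fun k' hk' => by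
            rw [Char.conjIrr_apply, Char.conjIrr_apply, hη1 k' hk']
          have hc2 : Char.conjIrr η ≠ oneL := fun e => hη2 (by
            rw [← Char.conjIrr_conjIrr η, e, hconj1])
          have hcL : Char.conjIrr η ∈ L1 := (hmemL1 _).2 ⟨hc1, hc2⟩
          refine ⟨hcL, ?_⟩
          have h := (hIeq _ hcL η hη1).symm.trans (hNlin _ η hc1 hη1)
          rw [hI η hη1 hη2, if_neg hcne, if_pos rfl, zero_add] at h
          by_contra hc
          rw [if_neg hc] at h
          omega
      rw [this, Finset.card_pair (Ne.symm hcne)]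
    have h1 : L1.card = k * 2 := by
      rw [Finset.card_eq_sum_card_image I L1, Finset.sum_const_nat hfib]
    have h2 : (Finset.univ.filter fun θ => X.IsLin θ).card = L1.card + 1 := by
      rw [← Finset.card_erase_add_one (s := Finset.univ.filter fun θ => X.IsLin θ) (a := oneL)
        (by simpa using honeLin)]
      congr 2
      ext θ
      simp [L1, and_comm]
    have h3 : d = (Finset.univ.filter fun θ => X.IsLin θ).card := by
      rw [hd, ← X.card_lin, Nat.card_eq_fintype_card, Fintype.card_subtype]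
    omega
  have hI1 : ∀ θ ∈ L1, I θ ≠ oneG ∧ I θ ≠ St := by
    intro θ hθ
    obtain ⟨h1, h2⟩ := (hmemL1 θ).1 hθ
    have h := (hIeq θ hθ oneL honeLin).symm.trans (hNlin θ oneL h1 honeLin)
    rw [hconj1, if_neg h2, hSt] at h
    constructor <;> intro e <;> rw [e] at h <;> simp at h
  let known : Finset (IrrCharacter G) := insert oneG (insert St K1)
  let rest : Finset (IrrCharacter G) := Finset.univ.filter fun χ => χ ∉ known
  have hK1ne : oneG ∉ K1 ∧ St ∉ K1 := by
    constructor <;> intro h <;> obtain ⟨θ, hθ, e⟩ := Finset.mem_image.1 h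
    · exact (hI1 θ hθ).1 e
    · exact (hI1 θ hθ).2 e
  have hsum_known : ∀ f : IrrCharacter G → ℕ, ∑ χ, f χ = f oneG + f St + ∑ χ ∈ K1, f χ + ∑ χ ∈ rest, f χ := by
    intro f
    rw [← Finset.sum_filter_add_sum_filter_not Finset.univ (fun χ => χ ∈ known)]
    congr 1
    rw [show (Finset.univ.filter fun χ => χ ∈ known) = known by ext; simp, Finset.sum_insert,
      Finset.sum_insert hK1ne.2, add_assoc]
    simp only [Finset.mem_insert, not_or]
    exact ⟨Ne.symm hStne, hK1ne.1⟩
  have hrest : ∀ χ ∈ rest, ∀ θ, X.IsLin θ → m θ χ = 0 := by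
    intro χ hχ θ hθ
    have hχ' : χ ≠ oneG ∧ χ ≠ St ∧ χ ∉ K1 := by simpa [rest, known] using hχ
    by_cases he : θ = oneL
    · subst he
      rw [hSt, if_neg hχ'.1, if_neg hχ'.2.1]
    · rw [hI θ hθ he, if_neg]
      rintro rfl
      exact hχ'.2.2 (Finset.mem_image.2 ⟨θ, (hmemL1 θ).2 ⟨hθ, he⟩, rfl⟩)
  let NL : Finset (IrrCharacter X.L) := Finset.univ.filter fun θ => ¬X.IsLin θ
  have hNL : ∀ θ, θ ∈ NL ↔ ¬X.IsLin θ := fun θ => by simp [NL]
  have hmI : ∀ η ∈ NL, ∀ χ ∈ K1, m η χ = a η := by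
    intro η hη χ hχ
    obtain ⟨θ, hθ, rfl⟩ := Finset.mem_image.1 hχ
    obtain ⟨h1, h2⟩ := (hmemL1 θ).1 hθ
    have h := hNnon θ η ((hNL η).1 hη)
    rw [if_neg (fun (e : θ = η) => (hNL η).1 hη (e ▸ h1)), zero_add, hdLlin θ h1, one_mul] at h
    simpa [hI θ h1 h2] using h
  have hmSt : ∀ η ∈ NL, m η oneG = 0 ∧ m η St = a η := by
    intro η hη
    have h0 : m η oneG = 0 := by
      rw [hm1G, if_neg fun (e : η = oneL) => (hNL η).1 hη (e ▸ honeLin)]
    refine ⟨h0, ?_⟩
    have h := hNnon oneL η ((hNL η).1 hη)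
    rw [if_neg (fun (e : oneL = η) => (hNL η).1 hη (e ▸ honeLin)), zero_add, hdLlin _ honeLin,
      one_mul] at h
    simp only [hSt, add_mul, ite_mul, one_mul, zero_mul, Finset.sum_add_distrib, Finset.sum_ite_eq',
      Finset.mem_univ, if_true, h0, zero_add] at h
    exact h
  have hgram : ∀ θ ∈ NL, ∀ η ∈ NL,
      ∑ χ ∈ rest, m θ χ * m η χ = (if θ = η then 1 else 0) + k * (a θ * a η) := by
    intro θ hθ η hη
    have h := hsum_known (fun χ => m θ χ * m η χ)
    rw [hNnon θ η ((hNL η).1 hη), hdLnon θ ((hNL θ).1 hθ), (hmSt θ hθ).1, (hmSt θ hθ).2,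
      (hmSt η hη).2, Finset.sum_congr rfl (s₁ := K1) (g := fun _ => a θ * a η) fun χ hχ => by
        rw [hmI θ hθ χ hχ, hmI η hη χ hχ], Finset.sum_const, smul_eq_mul, ← hk, zero_mul, zero_add,
      show d * a θ * a η = a θ * a η + (k * (a θ * a η) + k * (a θ * a η)) by rw [hdk]; ring] at h
    omega
  have hdegSt : dG St = n := by
    have h := hdeg oneL
    simp only [hSt, add_mul, ite_mul, one_mul, zero_mul, Finset.sum_add_distrib, Finset.sum_ite_eq',
      Finset.mem_univ, if_true, hdLlin _ honeLin, mul_one] at h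
    have h1 : dG oneG = 1 := by
      have := hdG oneG
      simp only [oneG] at this
      exact_mod_cast this.symm
    omega
  have hdegK1 : ∀ χ ∈ K1, dG χ = n + 1 := by
    intro χ hχ
    obtain ⟨θ, hθ, rfl⟩ := Finset.mem_image.1 hχ
    obtain ⟨h1, h2⟩ := (hmemL1 θ).1 hθ
    have h := hdeg θ
    simp only [hdLlin θ h1, mul_one, hI θ h1 h2, ite_mul, one_mul, zero_mul, Finset.sum_ite_eq',
      Finset.mem_univ, if_true] at h
    exact h.symm
  -- the nonlinear characters of the stabiliser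
  have ht : (∑ θ ∈ NL, a θ * a θ) * d + 1 = n := by
    have h := Char.sum_sq_degree (G := X.L)
    simp only [hdL] at h
    have h' : ∑ θ, dL θ ^ 2 = n * d := by rw [← hL]; exact_mod_cast h
    rw [← Finset.sum_filter_add_sum_filter_not Finset.univ X.IsLin,
      Finset.sum_congr rfl (g := fun _ => 1) (fun θ hθ => by
        rw [hdLlin θ (Finset.mem_filter.1 hθ).2, one_pow]),
      Finset.sum_congr rfl (s₁ := Finset.univ.filter fun θ => ¬X.IsLin θ)
        (g := fun θ => d ^ 2 * (a θ * a θ))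
        (fun θ hθ => by rw [hdLnon θ (Finset.mem_filter.1 hθ).2]; ring),
      ← Finset.mul_sum, Finset.sum_const, smul_eq_mul, mul_one, ← Fintype.card_subtype,
      ← Nat.card_eq_fintype_card, X.card_lin, ← hd] at h'
    exact Nat.eq_of_mul_eq_mul_right (show 0 < d by omega)
      (by rw [← h', show NL = (Finset.univ.filter fun θ => ¬X.IsLin θ) from rfl]; ring)
  -- the weights of one degree
  have ha0 : ∀ θ, 0 < a θ := fun θ => (cdeg_spec (φ θ)).1
  have hfib : ∀ c : ℕ, ∑ ψ ∈ Finset.univ.filter (fun ψ : IrrCharacter X.K => cdeg ψ < c),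
      cdeg ψ * cdeg ψ ≤ 1 + d * ∑ θ ∈ NL.filter (fun θ => a θ < c), a θ * a θ := by
    intro c
    let one : IrrCharacter X.K := ⟨fun _ => 1, Char.isIrrCharacter_one⟩
    let S := (Finset.univ.filter fun ψ : IrrCharacter X.K => cdeg ψ < c).erase one
    let Ind : IrrCharacter X.K → IrrCharacter X.L := fun ψ =>
      if h : (ψ : X.K → ℂ) = fun _ => 1 then oneL else ⟨_, X.ind_irr h⟩
    have hS : ∀ ψ ∈ S, (Ind ψ : X.L → ℂ) = indFun X.K (ψ : X.K → ℂ) ∧ Ind ψ ∈ NL ∧
        a (Ind ψ) = cdeg ψ := by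
      intro ψ hψ
      have hne : ¬(ψ : X.K → ℂ) = fun _ => 1 := fun e => Finset.ne_of_mem_erase hψ (Subtype.ext e)
      have e : (Ind ψ : X.L → ℂ) = indFun X.K (ψ : X.K → ℂ) := by simp only [Ind, dif_neg hne]
      have hnl := X.ind_not_lin hd1 e
      refine ⟨e, (hNL _).2 hnl, Nat.eq_of_mul_eq_mul_left (show 0 < d by omega) ?_⟩
      have h := (hdL (Ind ψ)).symm
      rw [e, Char.indFun_apply_one, X.index_K, (cdeg_spec ψ).2, ← hd, hdLnon _ hnl] at h
      exact_mod_cast h
    have hS1 : ∑ ψ ∈ Finset.univ.filter (fun ψ : IrrCharacter X.K => cdeg ψ < c),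
        cdeg ψ * cdeg ψ ≤ 1 + ∑ ψ ∈ S, cdeg ψ * cdeg ψ := by
      by_cases h1 : one ∈ Finset.univ.filter fun ψ : IrrCharacter X.K => cdeg ψ < c
      · rw [← Finset.add_sum_erase _ _ h1, show cdeg one = 1 from cdeg_eq (by simp [one])]
      · simp only [S, Finset.erase_eq_of_notMem h1]
        omega
    refine hS1.trans (Nat.add_le_add_left ?_ 1)
    rw [← Finset.sum_fiberwise_of_maps_to (g := Ind) (t := NL.filter fun θ => a θ < c) fun ψ hψ =>
      Finset.mem_filter.2 ⟨(hS ψ hψ).2.1, by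
        rw [(hS ψ hψ).2.2]; exact (Finset.mem_filter.1 (Finset.mem_of_mem_erase hψ)).2⟩,
      Finset.mul_sum]
    refine Finset.sum_le_sum fun θ hθ => ?_
    obtain ⟨hθNL, -⟩ := Finset.mem_filter.1 hθ
    have hsumdeg : ∑ ψ ∈ S.filter (fun ψ => Ind ψ = θ), cdeg ψ ≤ d * a θ := by
      have hchar : IsCharacter X.K (fun l : X.K => (θ : X.L → ℂ) l) :=
        Char.isCharacter_comp X.K.subtype (Char.IsIrr.isCharacter θ.2)
      choose r hr using fun ψ : IrrCharacter X.K =>
        Char.classInner_isCharacter_eq_natCast hchar (Char.IsIrr.isCharacter ψ.2)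
      have h := congrFun (Char.classFun_expansion (Char.isClassFunction_of_isCharacter hchar)) 1
      simp only [Finset.sum_apply, Pi.smul_apply, smul_eq_mul, hr,
        Subgroup.coe_one, hdL, hdLnon θ ((hNL θ).1 hθNL)] at h
      simp only [(cdeg_spec _).2] at h
      have h' : d * a θ = ∑ ψ, r ψ * cdeg ψ := by exact_mod_cast h
      rw [h']
      refine le_trans (le_of_eq (Finset.sum_congr rfl fun ψ hψ => ?_))
        (Finset.sum_le_sum_of_subset (Finset.subset_univ _))
      obtain ⟨hψS, hψθ⟩ := Finset.mem_filter.1 hψ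
      have h1 : classInner (θ : X.L → ℂ) (indFun X.K (ψ : X.K → ℂ)) = 1 := by
        rw [← (hS ψ hψS).1, hψθ, Char.classInner_irr_self θ.2]
      rw [Char.classInner_indFun_right X.K _ (Char.isClassFunction_of_isIrr θ.2), hr] at h1
      rw [show r ψ = 1 from by exact_mod_cast h1, one_mul]
    calc ∑ ψ ∈ S.filter (fun ψ => Ind ψ = θ), cdeg ψ * cdeg ψ
        = (∑ ψ ∈ S.filter (fun ψ => Ind ψ = θ), cdeg ψ) * a θ := by
          rw [Finset.sum_mul]
          refine Finset.sum_congr rfl fun ψ hψ => ?_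
          obtain ⟨hψS, hψθ⟩ := Finset.mem_filter.1 hψ
          rw [← hψθ, (hS ψ hψS).2.2]
      _ ≤ d * a θ * a θ := Nat.mul_le_mul_right _ hsumdeg
      _ = d * (a θ * a θ) := mul_assoc _ _ _
  -- coherence
  let ι := {θ : IrrCharacter X.L // ¬X.IsLin θ}
  have hsub : ∀ (p : IrrCharacter X.L → Prop) [DecidablePred p] (f : IrrCharacter X.L → ℕ),
      ∑ i ∈ (Finset.univ : Finset ι).filter (fun i => p i.1), f i.1 =
        ∑ θ ∈ NL.filter p, f θ := fun p _ f =>
    Finset.sum_bij (fun i _ => i.1)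
      (fun i hi => Finset.mem_filter.2 ⟨(hNL _).2 i.2, (Finset.mem_filter.1 hi).2⟩)
      (fun i _ j _ e => Subtype.ext e)
      (fun θ hθ => ⟨⟨θ, (hNL θ).1 (Finset.mem_filter.1 hθ).1⟩,
        Finset.mem_filter.2 ⟨Finset.mem_univ _, (Finset.mem_filter.1 hθ).2⟩, rfl⟩)
      fun _ _ => rfl
  have hseed' : 3 ≤ ((Finset.univ : Finset ι).filter fun i => a i.1 = 1).card := by
    have h := hfib 2
    have e1 : ∀ {s : Finset (IrrCharacter X.K)}, (∀ ψ ∈ s, cdeg ψ < 2) →
        ∑ ψ ∈ s, cdeg ψ * cdeg ψ = s.card := fun {s} hs => by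
      rw [Finset.card_eq_sum_ones]
      refine Finset.sum_congr rfl fun ψ hψ => ?_
      rw [show cdeg ψ = 1 by have := hs ψ hψ; have := (cdeg_spec ψ).1; omega]
    rw [e1 fun ψ hψ => (Finset.mem_filter.1 hψ).2] at h
    have h1 : (Finset.univ.filter fun ψ : IrrCharacter X.K => cdeg ψ < 2).card =
        (commutator X.K).index := by
      rw [← Char.card_linear, Nat.card_eq_fintype_card, Fintype.card_subtype]
      refine congrArg Finset.card (Finset.filter_congr fun ψ _ => ?_)
      rw [(cdeg_spec ψ).2, Nat.cast_eq_one]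
      have := (cdeg_spec ψ).1
      omega
    have e3 : ∑ i ∈ (Finset.univ : Finset ι).filter (fun i => a i.1 < 2), a i.1 * a i.1 =
        ∑ θ ∈ NL.filter (fun θ => a θ < 2), a θ * a θ :=
      hsub (fun θ => a θ < 2) (fun θ => a θ * a θ)
    rw [h1, ← e3,
      Finset.sum_congr rfl (g := fun _ => 1) (fun i hi => by
        have := ha0 i.1
        have := (Finset.mem_filter.1 hi).2
        rw [show a i.1 = 1 by omega]),
      Finset.sum_const, smul_eq_mul, mul_one,
      Finset.filter_congr (q := fun i : ι => a i.1 = 1) fun i _ => by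
        have := ha0 i.1
        omega] at h
    by_contra hc
    push Not at hc
    have := Nat.mul_le_mul_left d (Nat.le_of_lt_succ hc)
    omega
  have hgrow' : ∀ i : ι, 1 < a i.1 → 2 * a i.1 + 2 ≤
      ∑ j ∈ (Finset.univ : Finset ι).filter (fun j => a j.1 < a i.1), a j.1 * a j.1 := by
    intro i hi
    have h1 : (2 * a i.1 + 2) * d + 1 ≤
        ∑ ψ ∈ Finset.univ.filter (fun ψ : IrrCharacter X.K => cdeg ψ < a i.1),
          cdeg ψ * cdeg ψ := hgrow (φ i.1) hi
    have h2 := hfib (a i.1)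
    have e3 : ∑ j ∈ (Finset.univ : Finset ι).filter (fun j => a j.1 < a i.1), a j.1 * a j.1 =
        ∑ θ ∈ NL.filter (fun θ => a θ < a i.1), a θ * a θ :=
      hsub (fun θ => a θ < a i.1) (fun θ => a θ * a θ)
    rw [e3]
    refine Nat.le_of_mul_le_mul_left ?_ (show 0 < d by omega)
    have e : (2 * a i.1 + 2) * d = d * (2 * a i.1 + 2) := mul_comm _ _
    omega
  have hsum_rest : ∀ f : IrrCharacter G → ℕ,
      ∑ χ : rest, f χ = ∑ χ ∈ rest, f χ := fun f => Finset.sum_coe_sort rest f
  obtain ⟨e, c, ε, x, hinj, hε, hme, hce, hcc⟩ := exists_coherent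
    (fun (i : ι) (χ : rest) => (m i.1 χ.1 : ℤ)) (fun i => a i.1) (fun χ : rest => (dG χ.1 : ℤ))
    (k : ℤ) ((k * (n + 1) + 1 : ℕ) : ℤ) (fun i => ha0 i.1) (fun χ => by exact_mod_cast hdG0 χ.1)
    (fun i j => by
      have h := hgram i.1 ((hNL _).2 i.2) j.1 ((hNL _).2 j.2)
      rw [← hsum_rest] at h
      rw [show (if i = j then (1 : ℤ) else 0) = ((if i.1 = j.1 then 1 else 0 : ℕ) : ℤ) by
        split_ifs with h1 h2 h3 <;> first | rfl | exact absurd (congrArg Subtype.val h1) h2 |
          exact absurd (Subtype.ext h3) h1]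
      exact_mod_cast h)
    (fun i => by
      have h := hsum_known (fun χ => m i.1 χ * dG χ)
      have hi := (hNL i.1).2 i.2
      rw [← hdeg, hdLnon i.1 i.2, (hmSt i.1 hi).1, (hmSt i.1 hi).2, hdegSt,
        Finset.sum_congr rfl (s₁ := K1) (g := fun _ => a i.1 * (n + 1)) fun χ hχ => by
          rw [hmI i.1 hi χ hχ, hdegK1 χ hχ], Finset.sum_const, smul_eq_mul, ← hk, zero_mul, zero_add,
        show (n + 1) * (d * a i.1) = a i.1 * n + k * (a i.1 * (n + 1)) + a i.1 * (k * (n + 1) + 1)
          by rw [hdk]; ring, ← hsum_rest] at h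
      have h' : ∑ χ : rest, m i.1 χ.1 * dG χ.1 = a i.1 * (k * (n + 1) + 1) := by omega
      exact_mod_cast h')
    hseed' hgrow'
  have hA3 : k + 3 ≤ ∑ θ ∈ NL, a θ * a θ := by
    refine Nat.le_of_mul_le_mul_right ?_ (show 0 < 2 * d by omega)
    have e1 : (k + 3) * (2 * d) = d * (d + 5) := by rw [hdk]; ring
    have e2 : (∑ θ ∈ NL, a θ * a θ) * (2 * d) = 2 * ((∑ θ ∈ NL, a θ * a θ) * d) := by ring
    omega
  have hAc : x * x * ∑ i : ι, (a i.1 : ℤ) * a i.1 ≤ ∑ χ, c χ * c χ := by
    rw [Finset.mul_sum]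
    calc ∑ i : ι, x * x * ((a i.1 : ℤ) * a i.1) = ∑ i : ι, c (e i) * c (e i) :=
          Finset.sum_congr rfl fun i _ => by rw [hce]; ring
      _ = ∑ χ ∈ Finset.univ.image e, c χ * c χ :=
          (Finset.sum_image (f := fun χ => c χ * c χ) fun _ _ _ _ h => hinj h).symm
      _ ≤ _ := Finset.sum_le_sum_of_subset_of_nonneg (Finset.subset_univ _)
          fun χ _ _ => mul_self_nonneg _
  have hA' : ((k : ℤ) + 3) ≤ ∑ i : ι, (a i.1 : ℤ) * a i.1 := by
    rw [Finset.sum_subtype NL hNL (fun θ => a θ * a θ)] at hA3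
    exact_mod_cast hA3
  have hx : x = 0 := by
    by_contra hne
    have hxx : 1 ≤ x * x := (Int.one_le_abs (mul_ne_zero hne hne)).trans_eq (abs_mul_self _)
    have h4 := (mul_le_mul_of_nonneg_left hA' (mul_self_nonneg x)).trans hAc
    rw [hcc] at h4
    have h5 : (k : ℤ) ≤ k * (x * x) := le_mul_of_one_le_right (by positivity) hxx
    rcases hε with rfl | rfl <;> nlinarith [sq_nonneg (x + 1), sq_nonneg (x - 1)]
  have hε1 : ε = 1 := by
    obtain ⟨i, hi⟩ : ((Finset.univ : Finset ι).filter fun i => a i.1 = 1).Nonempty :=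
      Finset.card_pos.1 (by omega)
    have h := hme i (e i)
    rw [if_pos rfl, hce, hx, zero_mul, mul_zero, zero_add] at h
    rcases hε with h' | h'
    · exact h'
    · rw [h'] at h; exact absurd h (by have := Int.natCast_nonneg (m i.1 (e i).1); omega)
  -- the small character
  obtain ⟨iξ, hiξ⟩ : ((Finset.univ : Finset ι).filter fun i => a i.1 = 1).Nonempty :=
    Finset.card_pos.1 (by omega)
  have haξ : a iξ.1 = 1 := (Finset.mem_filter.1 hiξ).2
  set ξ := iξ.1 with hξdef
  have hξ : ξ ∈ NL := (hNL _).2 iξ.2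
  set ρ : IrrCharacter G := (e iξ).1 with hρdef
  have hρrest : ρ ∈ rest := (e iξ).2
  have hcξ : c (e iξ) = 0 := by rw [hce, hx, zero_mul]
  have hQ : ∀ η ∈ NL, η ≠ ξ → m η ρ = 0 := by
    intro η hη hne
    have h := hme ⟨η, (hNL η).1 hη⟩ (e iξ)
    rw [hcξ, mul_zero, zero_add, if_neg fun e' => hne (congrArg Subtype.val (hinj e')).symm] at h
    exact_mod_cast h
  have hρ1 : m ξ ρ = 1 := by
    have h := hme iξ (e iξ)
    rw [hcξ, mul_zero, zero_add, if_pos rfl, hε1] at h
    exact_mod_cast h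
  -- the square of the small character
  have hres : (fun l : X.L => (ρ : G → ℂ) l) = (ξ : X.L → ℂ) := by
    refine (Char.classFun_expansion (G := X.L) (f := fun l : X.L => (ρ : G → ℂ) l) fun x y => by
      simpa using Char.isClassFunction_of_isIrr ρ.2 (x : G) (y : G)).trans ?_
    simp only [hm']
    rw [Finset.sum_eq_single ξ ?_ (by simp), hρ1, Nat.cast_one, one_smul]
    intro θ _ hθ
    by_cases hlin : X.IsLin θ
    · rw [hrest ρ hρrest θ hlin, Nat.cast_zero, zero_smul]
    · rw [hQ θ ((hNL θ).2 hlin) hθ, Nat.cast_zero, zero_smul]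
  have hρd : dG ρ = d := by
    have h := congrFun hres 1
    simp only [Subgroup.coe_one, hdG, hdL, hdLnon ξ ((hNL ξ).1 hξ), haξ, mul_one] at h
    exact_mod_cast h
  let W : G → ℂ := (ρ : G → ℂ) * fun g => conj ((ρ : G → ℂ) g)
  have hW : IsCharacter G W := Char.isCharacter_mul (Char.IsIrr.isCharacter ρ.2)
    (Char.isCharacter_conj (Char.IsIrr.isCharacter ρ.2))
  choose w hw using fun χ : IrrCharacter G =>
    Char.classInner_isCharacter_eq_natCast hW (Char.IsIrr.isCharacter χ.2)
  have hWcl : IsClassFunction G W := Char.isClassFunction_of_isCharacter hW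
  have hw1 : w oneG = 1 := by
    have h := hw oneG
    have h2 : classInner W (oneG : G → ℂ) = classInner (ρ : G → ℂ) (ρ : G → ℂ) := by
      simp [classInner, W, oneG]
    rw [h2, Char.classInner_irr_self ρ.2] at h
    exact_mod_cast h.symm
  have hwI : ∀ χ ∈ K1, w χ = 1 := by
    intro χ hχ
    obtain ⟨θ, hθ, rfl⟩ := Finset.mem_image.1 hχ
    obtain ⟨h1, h2⟩ := (hmemL1 θ).1 hθ
    have h3 : classInner W (P θ) = (w (I θ) : ℂ) := by
      rw [Char.classInner_eq_sum hWcl, Finset.sum_eq_single (I θ) (fun χ _ hχ => by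
        rw [← Char.classInner_conj_symm (φ := P θ), hm, hI θ h1 h2, if_neg hχ]; simp) (by simp),
        ← Char.classInner_conj_symm (φ := P θ), hm, hI θ h1 h2, if_pos rfl, hw]
      simp
    rw [Char.classInner_indFun_right X.L _ hWcl] at h3
    have h4 : classInner (fun l : X.L => W l) (θ : X.L → ℂ) =
        classInner (ξ : X.L → ℂ) (ξ : X.L → ℂ) := by
      simp only [classInner]
      congr 1
      refine Finset.sum_congr rfl fun l _ => ?_
      have hl := congrFun hres l
      simp only [W, Pi.mul_apply]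
      rw [hl]
      by_cases hlK : l ∈ X.K
      · rw [h1 l hlK, X.lin_one h1, map_one, mul_one]
      · rw [X.nonlin_off ((hNL ξ).1 hξ) hlK, zero_mul, zero_mul]
    rw [h4, Char.classInner_irr_self ξ.2] at h3
    exact_mod_cast h3.symm
  have hdW : d * d = ∑ χ, w χ * dG χ := by
    have h := congrFun (Char.classFun_expansion hWcl) 1
    simp only [Finset.sum_apply, Pi.smul_apply, smul_eq_mul, hw, hdG, W, Pi.mul_apply, map_natCast,
      hρd] at h
    exact_mod_cast h
  have hfinal : 1 + k * (n + 1) ≤ d * d := by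
    rw [hdW]
    refine le_trans (le_of_eq ?_) (Finset.sum_le_sum_of_subset (Finset.subset_univ (insert oneG K1)))
    have h1 : dG oneG = 1 := by
      have := hdG oneG
      simp only [oneG] at this
      exact_mod_cast this.symm
    rw [Finset.sum_insert hK1ne.1, hw1, h1, Finset.sum_congr rfl (g := fun _ => n + 1)
      (fun χ hχ => by rw [hwI χ hχ, hdegK1 χ hχ, one_mul]), Finset.sum_const, smul_eq_mul]
  -- arithmetic
  have hbig : 2 * (2 * k + 1) + 2 ≤ n := by rw [← hdk]; omega
  have : k * (2 * (2 * k + 1) + 2 + 1) ≤ k * (n + 1) := Nat.mul_le_mul_left _ (by omega)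
  rw [hdk] at hfinal
  nlinarith

end NCtx

end Cfsg.Agent.Zassenhaus
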