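import Cfsg.Agent.Zassenhaus.EvenTori
import Cfsg.Agent.Zassenhaus.NilBound
import Cfsg.Agent.Char.Integral

/-!
# Simple Zassenhaus groups with a nonabelian 2-group as kernel: characters of the point stabiliser
-/

set_option autoImplicit false

namespace Cfsg.Agent.Zassenhaus

open Subgroup MulAction
open scoped ComplexConjugate

universe u v

variable {G : Type u} {Ω : Type v} [Group G] [MulAction G Ω]

set_option linter.unusedSectionVars false

namespace NCtx

variable [Fintype G] [Finite Ω] (X : NCtx G Ω)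

/-- The multiplicities of the irreducible characters in those induced from the point stabiliser. -/
noncomputable def mult (θ : IrrCharacter X.L) (χ : IrrCharacter G) : ℕ :=
  (Char.classInner_isCharacter_eq_natCast
    (Char.isCharacter_indFun X.L (Char.IsIrr.isCharacter θ.2)) (Char.IsIrr.isCharacter χ.2)).choose

theorem mult_spec (θ : IrrCharacter X.L) (χ : IrrCharacter G) :
    classInner (indFun X.L (θ : X.L → ℂ)) (χ : G → ℂ) = (X.mult θ χ : ℂ) :=
  (Char.classInner_isCharacter_eq_natCast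
    (Char.isCharacter_indFun X.L (Char.IsIrr.isCharacter θ.2)) (Char.IsIrr.isCharacter χ.2)).choose_spec

theorem mult_res [Fintype X.L] (θ : IrrCharacter X.L) (χ : IrrCharacter G) :
    classInner (fun l : X.L => (χ : G → ℂ) l) (θ : X.L → ℂ) = X.mult θ χ := by
  rw [← Char.classInner_indFun_right X.L _ (Char.isClassFunction_of_isIrr χ.2),
    ← Char.classInner_conj_symm, X.mult_spec]
  simp

theorem ind_expansion (θ : IrrCharacter X.L) (g : G) :
    indFun X.L (θ : X.L → ℂ) g = ∑ χ : IrrCharacter G, (X.mult θ χ : ℂ) * (χ : G → ℂ) g := by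
  have h := congrFun (Char.classFun_expansion (Char.isClassFunction_indFun X.L (θ : X.L → ℂ))) g
  simpa only [Finset.sum_apply, Pi.smul_apply, smul_eq_mul, X.mult_spec] using h

theorem res_expansion [Fintype X.L] (χ : IrrCharacter G) (l : X.L) :
    (χ : G → ℂ) l = ∑ θ : IrrCharacter X.L, (X.mult θ χ : ℂ) * (θ : X.L → ℂ) l := by
  have h := congrFun (Char.classFun_expansion (G := X.L)
    (f := fun l : X.L => (χ : G → ℂ) l) fun x y => by
      simpa using Char.isClassFunction_of_isIrr χ.2 (x : G) (y : G)) l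
  simpa only [Finset.sum_apply, Pi.smul_apply, smul_eq_mul, X.mult_res] using h

theorem gram_eq (θ η : IrrCharacter X.L) :
    classInner (indFun X.L (θ : X.L → ℂ)) (indFun X.L (η : X.L → ℂ)) =
      ((∑ χ, X.mult θ χ * X.mult η χ : ℕ) : ℂ) := by
  rw [Char.classInner_eq_sum (Char.isClassFunction_indFun X.L _)]
  push_cast
  refine Finset.sum_congr rfl fun χ _ => ?_
  rw [X.mult_spec, ← Char.classInner_conj_symm (φ := indFun X.L (η : X.L → ℂ)), X.mult_spec]
  simp

theorem mult_conj (θ : IrrCharacter X.L) (χ : IrrCharacter G) :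
    X.mult (Char.conjIrr θ) (Char.conjIrr χ) = X.mult θ χ := by
  have hP : indFun X.L (Char.conjIrr θ : X.L → ℂ) =
      fun g => conj (indFun X.L (θ : X.L → ℂ) g) := by
    classical
    funext g
    rw [Char.indFun_apply, Char.indFun_apply, map_mul, map_inv₀, map_natCast, map_sum]
    congr 1
    refine Finset.sum_congr rfl fun x _ => ?_
    by_cases hm : x⁻¹ * g * x ∈ X.L
    · rw [Char.extendByZero_of_mem _ _ hm, Char.extendByZero_of_mem _ _ hm, Char.conjIrr_apply]
    · rw [Char.extendByZero_of_not_mem _ _ hm, Char.extendByZero_of_not_mem _ _ hm, map_zero]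
  have h := X.mult_spec (Char.conjIrr θ) (Char.conjIrr χ)
  rw [hP, show classInner (fun g => conj (indFun X.L (θ : X.L → ℂ) g))
      (Char.conjIrr χ : G → ℂ) = conj (classInner (indFun X.L (θ : X.L → ℂ)) (χ : G → ℂ)) by
    simp [classInner, Char.conjIrr_apply, map_sum], X.mult_spec, map_natCast] at h
  exact_mod_cast h.symm

variable [Fintype X.L]

theorem gram_nonlin (θ η : IrrCharacter X.L) (hη : ¬X.IsLin η) {aη : ℕ}
    (ha : cdeg η = Nat.card (twoPt G X.a X.b) * aη) :
    ∑ χ, X.mult θ χ * X.mult η χ = (if θ = η then 1 else 0) + cdeg θ * aη := by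
  classical
  have hres : (fun l : X.L => indFun X.L (η : X.L → ℂ) l) = (η : X.L → ℂ) +
      fun l => if l = 1 then ((Nat.card X.L * aη : ℕ) : ℂ) else 0 := by
    funext l
    by_cases hl1 : l = 1
    · subst hl1
      simp only [Pi.add_apply, if_pos, Subgroup.coe_one, X.ind_one, ← X.card_F,
        (cdeg_spec η).2, ha, X.card_L]
      push_cast
      ring
    by_cases hlK : l ∈ X.K
    · simp only [Pi.add_apply, if_neg hl1, add_zero]
      exact X.ind_ker _ (Char.isClassFunction_of_isIrr η.2) hlK hl1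
    · obtain ⟨h, h1, h2⟩ := X.ind_off _ (Char.isClassFunction_of_isIrr η.2) hlK
      simp only [Pi.add_apply, if_neg hl1, add_zero, h2]
      rw [Char.IsChar.inv_eq_conj (Char.IsIrr.isCharacter η.2), ← h1, X.nonlin_off hη hlK]
      simp
  have h := X.gram_eq θ η
  rw [Char.classInner_indFun_left X.L _ (Char.isClassFunction_indFun X.L _), hres,
    Char.classInner_add_right, Char.classInner_irrChar] at h
  have h3 : classInner (θ : X.L → ℂ)
      (fun l => if l = 1 then ((Nat.card X.L * aη : ℕ) : ℂ) else 0) = ((cdeg θ * aη : ℕ) : ℂ) := by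
    rw [classInner, Finset.sum_eq_single (1 : X.L) (fun l _ hl => by simp [hl]) (by simp),
      if_pos rfl, map_natCast, (cdeg_spec θ).2, Nat.cast_mul, Nat.cast_mul, ← mul_assoc, ← mul_assoc,
      mul_comm _ (cdeg θ : ℂ), mul_assoc (cdeg θ : ℂ), inv_mul_cancel₀ Char.card_ne_zero, mul_one]
  rw [h3] at h
  split_ifs at h ⊢ with he <;> exact_mod_cast h.symm

/-- The norm of a character induced from a linear one is at most 2. -/
theorem norm_lin {θ : IrrCharacter X.L} (hθ : X.IsLin θ) :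
    ∑ χ, X.mult θ χ * X.mult θ χ ≤ 2 := by
  classical
  have hK1 : ∀ k : X.L, k ∈ X.K → (θ : X.L → ℂ) k = 1 := fun k hk =>
    (hθ k hk).trans (X.lin_one hθ)
  set n := Nat.card X.F with hn
  have hres : (fun l : X.L => indFun X.L (θ : X.L → ℂ) l) = (θ : X.L → ℂ) +
      (Char.conjIrr θ : X.L → ℂ) -
      (fun l => if l ∈ X.K then (1 : ℂ) else 0) + fun l => if l = 1 then (n : ℂ) else 0 := by
    funext l
    by_cases hl1 : l = 1
    · subst hl1
      simp only [Pi.add_apply, Pi.sub_apply, Subgroup.coe_one, X.ind_one, ← X.card_F,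
        Char.conjIrr_apply, hK1 1 X.K.one_mem, if_pos X.K.one_mem, if_pos, map_one]
      push_cast
      ring
    by_cases hlK : l ∈ X.K
    · simp only [Pi.add_apply, Pi.sub_apply, if_pos hlK, if_neg hl1,
        Char.conjIrr_apply, X.ind_ker _ (Char.isClassFunction_of_isIrr θ.2) hlK hl1, hK1 l hlK,
        map_one]
      ring
    · obtain ⟨h, h1, h2⟩ := X.ind_off _ (Char.isClassFunction_of_isIrr θ.2) hlK
      simp only [Pi.add_apply, Pi.sub_apply, if_neg hlK, if_neg hl1, h2, Char.conjIrr_apply,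
        Char.IsChar.inv_eq_conj (Char.IsIrr.isCharacter θ.2), ← h1]
      ring
  have h := X.gram_eq θ θ
  rw [Char.classInner_indFun_left X.L _ (Char.isClassFunction_indFun X.L _), hres,
    Char.classInner_add_right, Char.classInner_sub_right, Char.classInner_add_right,
    Char.classInner_irrChar, Char.classInner_irrChar, if_pos rfl] at h
  have h3 : classInner (θ : X.L → ℂ) (fun l => if l = 1 then (n : ℂ) else 0) =
      classInner (θ : X.L → ℂ) (fun l => if l ∈ X.K then (1 : ℂ) else 0) := by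
    rw [classInner, classInner, Finset.sum_eq_single (1 : X.L) (fun l _ hl => by simp [hl]) (by simp),
      if_pos rfl, map_natCast, X.lin_one hθ, one_mul]
    congr 1
    rw [show n = Nat.card X.K from X.card_K.symm, Nat.card_eq_fintype_card, Fintype.card_subtype,
      ← Finset.sum_boole]
    refine Finset.sum_congr rfl fun l _ => ?_
    by_cases hl : l ∈ X.K
    · simp [hl, hθ l hl, X.lin_one hθ]
    · simp [hl]
  rw [h3, sub_add_cancel] at h
  by_cases hc : θ = Char.conjIrr θ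
  · rw [if_pos hc] at h
    norm_num at h
    exact le_of_eq (by exact_mod_cast h.symm)
  · rw [if_neg hc, add_zero] at h
    have : (∑ χ, X.mult θ χ * X.mult θ χ : ℕ) = 1 := by exact_mod_cast h.symm
    omega

theorem cdeg_lin {θ : IrrCharacter X.L} (hθ : X.IsLin θ) : cdeg θ = 1 :=
  cdeg_eq (by simpa using X.lin_one hθ)

/-- Summation over the elements without fixed points. -/
theorem sum_fpf (Y : G → ℂ) (hY : IsClassFunction G Y) (hoff : ∀ l : X.L, l ∉ X.K → Y l = 0)
    [DecidablePred fun g : G => ∀ c : Ω, g • c ≠ c] :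
    ∑ g ∈ Finset.univ.filter (fun g : G => ∀ c : Ω, g • c ≠ c), Y g +
      (Nat.card Ω : ℂ) * ∑ l : X.L, Y l = ∑ g, Y g + (Nat.card X.F : ℂ) * Y 1 := by
  classical
  haveI := Fintype.ofFinite Ω
  have hstab : ∀ c : Ω, ∑ g ∈ Finset.univ.filter (fun g : G => g • c = c), Y g =
      ∑ l : X.L, Y l := by
    intro c
    obtain ⟨k, hk⟩ : ∃ k : G, k • X.a = c := by
      by_cases hca : X.a = c
      · exact ⟨1, by rw [one_smul, hca]⟩
      · obtain ⟨k, hk, -⟩ := X.C.two hca (Ne.symm hca)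
        exact ⟨k, hk⟩
    refine Finset.sum_bij' (fun g hg => (⟨k⁻¹ * g * k, mem_stabilizer_iff.2 (by
        rw [mul_smul, mul_smul, hk, (Finset.mem_filter.1 hg).2, inv_smul_eq_iff, hk])⟩ : X.L))
      (fun l _ => k * (l : G) * k⁻¹) (fun _ _ => Finset.mem_univ _)
      (fun l _ => Finset.mem_filter.2 ⟨Finset.mem_univ _, by
        rw [mul_smul, mul_smul, ← hk, inv_smul_smul, mem_stabilizer_iff.1 l.2]⟩)
      (fun g _ => by group) (fun l _ => Subtype.ext (by group)) fun g _ => ?_
    have := hY g k⁻¹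
    rw [inv_inv] at this
    exact this.symm
  have hall : ∑ g : G, ((Finset.univ.filter fun c : Ω => g • c = c).card : ℂ) * Y g =
      (Nat.card Ω : ℂ) * ∑ l : X.L, Y l := by
    calc ∑ g : G, ((Finset.univ.filter fun c : Ω => g • c = c).card : ℂ) * Y g
        = ∑ g : G, ∑ c : Ω, if g • c = c then Y g else 0 := by
          refine Finset.sum_congr rfl fun g _ => ?_
          rw [← Finset.sum_filter, Finset.sum_const, nsmul_eq_mul]
      _ = ∑ c : Ω, ∑ g : G, if g • c = c then Y g else 0 := Finset.sum_comm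
      _ = (Nat.card Ω : ℂ) * ∑ l : X.L, Y l := by
          rw [Finset.sum_congr rfl fun c _ => by rw [← Finset.sum_filter, hstab c],
            Finset.sum_const, nsmul_eq_mul, Finset.card_univ, Nat.card_eq_fintype_card]
  rw [← hall, Finset.sum_filter, ← Finset.sum_add_distrib,
    ← Fintype.sum_ite_eq' (1 : G) (fun g => (Nat.card X.F : ℂ) * Y g), ← Finset.sum_add_distrib]
  refine Finset.sum_congr rfl fun g _ => ?_
  by_cases hg1 : g = 1
  · subst hg1
    rw [if_neg (fun h => h X.a (one_smul G X.a)), if_pos rfl,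
      Finset.filter_true_of_mem (fun c _ => one_smul G c), Finset.card_univ,
      ← Nat.card_eq_fintype_card, ← X.card_F]
    push_cast
    ring
  rw [if_neg hg1, add_zero]
  by_cases hf : ∀ c : Ω, g • c ≠ c
  · rw [if_pos hf, Finset.filter_false_of_mem (fun c _ => hf c), Finset.card_empty, Nat.cast_zero,
      zero_mul, add_zero]
  rw [if_neg hf, zero_add]
  push Not at hf
  obtain ⟨c, hc⟩ := hf
  by_cases hone : ∀ e, g • e = e → e = c
  · rw [show (Finset.univ.filter fun e : Ω => g • e = e) = {c} by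
      ext e
      simp only [Finset.mem_filter, Finset.mem_univ, true_and, Finset.mem_singleton]
      exact ⟨hone e, fun h => h ▸ hc⟩, Finset.card_singleton, Nat.cast_one, one_mul]
  · push Not at hone
    obtain ⟨e, he, hec⟩ := hone
    obtain ⟨k, hk, hke⟩ := X.C.two (Ne.symm hec) X.hab
    have hl : k * g * k⁻¹ ∈ X.L := mem_stabilizer_iff.2 (by
      rw [← hk, mul_smul, mul_smul, inv_smul_smul, hc])
    have hlK : (⟨_, hl⟩ : X.L) ∉ X.K := fun hK => X.hab (X.fix_eq hK
      (fun h => hg1 (conj_eq_one_iff.1 h)) (c := X.b) (by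
        show (k * g * k⁻¹) • X.b = X.b
        rw [← hke, mul_smul, mul_smul, inv_smul_smul, he])).symm
    have h0 : Y g = 0 := by
      rw [← hY g k]
      exact hoff _ hlK
    rw [h0, mul_zero]

end NCtx

section Center

variable [Finite G] [Fintype Ω] {a b : Ω} {U : Subgroup G} (Xe : EvenCtx G a b U)

/-- The context for the characters. -/
abbrev EvenCtx.toN : NCtx G Ω where
  a := a
  b := b
  F := U
  C := Xe.odd.zctx
  h3 := Xe.odd.three_le
  hab := Xe.odd.ne
  ker := Xe.ker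
  ecomm := fun x hx y hy => by
    haveI := Xe.cyc
    letI := IsCyclic.commGroup (α := twoPt G a b)
    exact congrArg Subtype.val (mul_comm (⟨x, hx⟩ : twoPt G a b) ⟨y, hy⟩)
  inv := Xe.inv
  odd := Xe.odd.odd

/-- The centre of the kernel inside the point stabiliser. -/
abbrev EvenCtx.zL (_ : EvenCtx G a b U) : Subgroup (stabilizer G a) :=
  ((center U).map U.subtype).subgroupOf (stabilizer G a)

theorem EvenCtx.mem_zL {Xe : EvenCtx G a b U} {l : stabilizer G a} :
    l ∈ Xe.zL ↔ ∃ h : (l : G) ∈ U, (⟨l, h⟩ : U) ∈ center U := by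
  simp [EvenCtx.zL, Subgroup.mem_subgroupOf]

instance EvenCtx.normal_zL : Xe.zL.Normal := by
  refine ⟨fun z hz g => ?_⟩
  obtain ⟨hzU, hzc⟩ := EvenCtx.mem_zL.1 hz
  refine EvenCtx.mem_zL.2 ⟨Xe.conj_mem g.2 hzU, mem_center_iff.2 fun u => Subtype.ext ?_⟩
  have hu : (g : G)⁻¹ * (u : G) * g ∈ U := by
    have := Xe.conj_mem (g := (g : G)⁻¹) (inv_smul_eq_iff.2 g.2.symm) u.2
    rwa [inv_inv] at this
  have h : (g : G)⁻¹ * (u : G) * g * (z : G) = (z : G) * ((g : G)⁻¹ * (u : G) * g) :=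
    congrArg Subtype.val (mem_center_iff.1 hzc ⟨_, hu⟩)
  show (u : G) * ((g : G) * z * (g : G)⁻¹) = (g : G) * z * (g : G)⁻¹ * u
  calc (u : G) * ((g : G) * z * (g : G)⁻¹) = g * ((g : G)⁻¹ * u * g * z) * (g : G)⁻¹ := by group
    _ = g * (z * ((g : G)⁻¹ * u * g)) * (g : G)⁻¹ := by rw [h]
    _ = (g : G) * z * (g : G)⁻¹ * u := by group

end Center

namespace EvenCtx

variable [Fintype G] [Fintype Ω] {a b : Ω} {U : Subgroup G} (Xe : EvenCtx G a b U)
include Xe

theorem card_zL : Nat.card Xe.zL = Nat.card (twoPt G a b) + 1 := by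
  rw [← Xe.card_center]
  refine Nat.card_congr ((Subgroup.subgroupOfEquivOfLe ?_).toEquiv.trans
    ((center U).equivMapOfInjective _ U.subtype_injective).symm.toEquiv)
  rintro _ ⟨u, -, rfl⟩
  exact Xe.ker.fix u u.2

theorem zL_le : Xe.zL ≤ Xe.toN.K := fun _ hl => (EvenCtx.mem_zL.1 hl).1

/-- A nonlinear character of the stabiliser: its degree. -/
theorem exists_weight [Fintype Xe.toN.L] {θ : IrrCharacter Xe.toN.L} (h : ¬Xe.toN.IsLin θ) :
    ∃ w j, cdeg θ = Nat.card (twoPt G a b) * w ∧ w = 2 ^ j ∧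
      ((∀ z ∈ Xe.zL, (θ : Xe.toN.L → ℂ) z = (θ : Xe.toN.L → ℂ) 1) → w = 1) := by
  classical
  haveI := Fintype.ofFinite Xe.toN.K
  haveI : Nonempty (IrrCharacter Xe.toN.K) := ⟨⟨fun _ => 1, Char.isIrrCharacter_one⟩⟩
  obtain ⟨φ, -, hind, hdeg⟩ := Xe.toN.exists_ind h
  have hd : cdeg θ = Nat.card (twoPt G a b) * cdeg φ := by
    have h1 := hdeg
    rw [(cdeg_spec θ).2, (cdeg_spec φ).2] at h1
    exact_mod_cast h1
  obtain ⟨i, hi⟩ := IsPGroup.iff_card.1 Xe.two
  have hdvd : cdeg φ ∣ 2 ^ i := by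
    rw [← hi, show Nat.card U = Nat.card Xe.toN.K from Xe.toN.card_K.symm]
    exact Char.IsIrr.degree_dvd_card φ.2 (cdeg_spec φ).2
  obtain ⟨j, -, hj⟩ := (Nat.dvd_prime_pow Nat.prime_two).1 hdvd
  refine ⟨_, j, hd, hj, fun hZ => ?_⟩
  -- the inducing character is trivial on the centre, so factors through an abelian group
  set Zk : Subgroup Xe.toN.K := Xe.zL.subgroupOf Xe.toN.K with hZk
  haveI : Zk.Normal := (Xe.normal_zL).subgroupOf _
  have htriv : ∀ z ∈ Zk, (φ : Xe.toN.K → ℂ) z = (φ : Xe.toN.K → ℂ) 1 := by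
    intro z hz
    set n := cdeg φ with hn
    let F : Xe.toN.L → ℂ := fun x => extendByZero Xe.toN.K (φ : Xe.toN.K → ℂ) (x⁻¹ * z * x)
    have hval : ∀ x, ∃ k : Xe.toN.K, F x = (φ : Xe.toN.K → ℂ) k := fun x => by
      have hm : x⁻¹ * (z : Xe.toN.L) * x ∈ Xe.toN.K := by
        have := Xe.toN.normal_K.conj_mem _ z.2 x⁻¹
        rwa [inv_inv] at this
      exact ⟨⟨_, hm⟩, Char.extendByZero_of_mem _ _ hm⟩
    have hsum : ∑ x, F x = (Nat.card Xe.toN.L : ℂ) * (n : ℂ) := by
      have h1 : (θ : Xe.toN.L → ℂ) (z : Xe.toN.L) = (θ : Xe.toN.L → ℂ) 1 := hZ _ hz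
      rw [hind, Char.indFun_apply, Char.indFun_apply_one, Xe.toN.index_K, (cdeg_spec φ).2,
        inv_mul_eq_iff_eq_mul₀ Char.card_ne_zero] at h1
      show ∑ x, extendByZero Xe.toN.K (φ : Xe.toN.K → ℂ) (x⁻¹ * z * x) = _
      rw [h1, ← hn, show (Nat.card Xe.toN.L : ℂ) =
        (Nat.card Xe.toN.K : ℂ) * (Nat.card (twoPt G a b) : ℂ) by
          rw [← Nat.cast_mul, Xe.toN.card_K, Xe.toN.card_L]]
      ring
    have hle : ∀ x ∈ Finset.univ, (F x).re ≤ (n : ℝ) := fun x _ => by
      obtain ⟨k, hk⟩ := hval x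
      have := Char.IsChar.norm_le (Char.IsIrr.isCharacter φ.2) k
      rw [(cdeg_spec φ).2, Complex.natCast_re] at this
      rw [hk]
      exact (Complex.re_le_norm _).trans this
    have hre : ∑ x, (F x).re = ∑ _x : Xe.toN.L, (n : ℝ) := by
      rw [← Complex.re_sum, hsum, Finset.sum_const, Finset.card_univ, nsmul_eq_mul,
        ← Nat.card_eq_fintype_card, ← Nat.cast_mul, Complex.natCast_re, Nat.cast_mul]
    have h1 := (Finset.sum_eq_sum_iff_of_le hle).1 hre 1 (Finset.mem_univ _)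
    have hF1 : F 1 = (φ : Xe.toN.K → ℂ) z := by
      simp only [F, inv_one, one_mul, mul_one]
      exact Char.extendByZero_coe _ _ z
    rw [hF1] at h1
    have h2 := Char.IsChar.norm_le (Char.IsIrr.isCharacter φ.2) z
    rw [(cdeg_spec φ).2, Complex.natCast_re] at h2
    have him : ((φ : Xe.toN.K → ℂ) z).im = 0 := by
      have h3 := Complex.sq_norm ((φ : Xe.toN.K → ℂ) z)
      rw [Complex.normSq_apply, h1] at h3
      nlinarith [norm_nonneg ((φ : Xe.toN.K → ℂ) z)]
    rw [(cdeg_spec φ).2]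
    exact Complex.ext (by rw [h1, Complex.natCast_re]) (by rw [him, Complex.natCast_im])
  obtain ⟨ψ, hψ, he⟩ := Char.IsIrr.exists_quotient Zk φ.2 htriv
  have hsq : ∀ x : Xe.toN.K ⧸ Zk, x * x = 1 := fun x => by
    obtain ⟨k, rfl⟩ := QuotientGroup.mk_surjective x
    rw [← QuotientGroup.mk_mul, QuotientGroup.eq_one_iff]
    refine (EvenCtx.mem_zL (Xe := Xe)).2 ⟨U.mul_mem k.2 k.2, ?_⟩
    exact Xe.sq_mem_center ⟨((k : Xe.toN.L) : G), k.2⟩
  have hinv : ∀ x : Xe.toN.K ⧸ Zk, x⁻¹ = x := fun x => inv_eq_of_mul_eq_one_right (hsq x)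
  have hc : ∀ x y : Xe.toN.K ⧸ Zk, x * y = y * x := fun x y => by
    calc x * y = (x * y)⁻¹ := (hinv _).symm
      _ = y * x := by rw [mul_inv_rev, hinv, hinv]
  exact cdeg_eq ((he 1).trans ((Char.IsIrr.degree_one_of_comm hψ hc).trans Nat.cast_one.symm))

theorem sum_trivial [Fintype Xe.toN.L] [DecidablePred fun θ : IrrCharacter Xe.toN.L =>
      ∀ z ∈ Xe.zL, (θ : Xe.toN.L → ℂ) z = (θ : Xe.toN.L → ℂ) 1] :
    ∑ θ ∈ Finset.univ.filter (fun θ : IrrCharacter Xe.toN.L =>
      ∀ z ∈ Xe.zL, (θ : Xe.toN.L → ℂ) z = (θ : Xe.toN.L → ℂ) 1), cdeg θ ^ 2 = Xe.zL.index := by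
  classical
  have hq := Char.sum_sq_degree (G := Xe.toN.L ⧸ Xe.zL)
  simp only [(cdeg_spec _).2] at hq
  have h2 : ∑ φ : IrrCharacter (Xe.toN.L ⧸ Xe.zL), cdeg φ ^ 2 = Xe.zL.index := by
    rw [Subgroup.index_eq_card]; exact_mod_cast hq
  rw [← h2, ← Equiv.sum_comp (Char.quotientEquiv Xe.zL).symm (fun φ => cdeg φ ^ 2)]
  refine (Finset.sum_subtype _ (fun θ => by simp) (fun θ => cdeg θ ^ 2)).trans
    (Finset.sum_congr rfl fun θ _ => ?_)
  congr 1
  refine cdeg_eq ?_
  rw [← (cdeg_spec ((Char.quotientEquiv Xe.zL).symm θ)).2]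
  nth_rw 1 [← (Char.quotientEquiv Xe.zL).apply_symm_apply θ]
  rfl

/-- A character of the stabiliser that is nontrivial on the centre sums to zero there. -/
theorem sum_center [Fintype Xe.toN.L] [Fintype Xe.zL] {θ : IrrCharacter Xe.toN.L}
    (h : ¬ ∀ z ∈ Xe.zL, (θ : Xe.toN.L → ℂ) z = (θ : Xe.toN.L → ℂ) 1) :
    ∑ z : Xe.zL, (θ : Xe.toN.L → ℂ) z = 0 := by
  classical
  set Triv : IrrCharacter Xe.toN.L → Prop :=
    fun θ => ∀ z ∈ Xe.zL, (θ : Xe.toN.L → ℂ) z = (θ : Xe.toN.L → ℂ) 1 with hTriv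
  have hone : IsCharacter Xe.zL (fun _ => (1 : ℂ)) := Char.isCharacter_one
  choose r hr using fun θ : IrrCharacter Xe.toN.L => Char.classInner_isCharacter_eq_natCast hone
    (Char.isCharacter_res Xe.zL (Char.IsIrr.isCharacter θ.2))
  have hexp : Xe.zL.index = ∑ θ, r θ * cdeg θ := by
    have h1 := congrFun (Char.classFun_expansion
      (Char.isClassFunction_indFun Xe.zL (fun _ => (1 : ℂ)))) 1
    simp only [Finset.sum_apply, Pi.smul_apply, smul_eq_mul, Char.indFun_apply_one, mul_one,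
      (cdeg_spec _).2] at h1
    simp only [fun θ : IrrCharacter Xe.toN.L => Char.classInner_indFun_left Xe.zL (fun _ => (1 : ℂ))
      (Char.isClassFunction_of_isIrr θ.2), hr] at h1
    exact_mod_cast h1
  have htr : ∀ θ, Triv θ → r θ = cdeg θ := by
    intro θ hθ
    have h1 := hr θ
    simp only [classInner, one_mul] at h1
    rw [Finset.sum_congr rfl (g := fun _ => (cdeg θ : ℂ)) fun z _ => by
      rw [hθ _ z.2, (cdeg_spec θ).2, map_natCast], Finset.sum_const, Finset.card_univ,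
      nsmul_eq_mul, ← Nat.card_eq_fintype_card, inv_mul_cancel_left₀ Char.card_ne_zero] at h1
    exact_mod_cast h1.symm
  rw [← Finset.sum_filter_add_sum_filter_not Finset.univ Triv,
    Finset.sum_congr rfl (g := fun θ => cdeg θ ^ 2) fun θ hθ => by
      rw [htr θ (Finset.mem_filter.1 hθ).2, pow_two], Xe.sum_trivial, left_eq_add,
    Finset.sum_eq_zero_iff] at hexp
  have hr0 : r θ = 0 :=
    (Nat.mul_eq_zero.1 (hexp θ (Finset.mem_filter.2 ⟨Finset.mem_univ _, h⟩))).resolve_right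
      (cdeg_spec θ).1.ne'
  have h1 := hr θ
  rw [hr0, Nat.cast_zero] at h1
  simp only [classInner, one_mul, mul_eq_zero, inv_eq_zero, Char.card_ne_zero, false_or] at h1
  have h2 := congrArg conj h1
  simpa [map_sum] using h2

end EvenCtx

end Cfsg.Agent.Zassenhaus
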