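import Cfsg.Agent.Zassenhaus.OddStab
import Cfsg.Agent.Zassenhaus.AbelianKernel
import Cfsg.Agent.S1137
import Cfsg.Agent.S1138

/-!
# Simple Zassenhaus groups with a nonabelian 2-group as kernel: the kernel is a Suzuki 2-group
-/

set_option autoImplicit false

namespace Cfsg.Agent.Zassenhaus

open Subgroup MulAction

universe u v

variable {G : Type u} {Ω : Type v} [Group G] [Finite G] [MulAction G Ω] [Fintype Ω]

variable (G) in
/-- A Zassenhaus group with a nonabelian 2-group kernel and inverted two-point stabiliser. -/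
structure EvenCtx (a b : Ω) (U : Subgroup G) : Prop where
  odd : OddCtx G a b
  inv : Inverted G a b
  cyc : IsCyclic (twoPt G a b)
  ker : IsKernel U a
  two : IsPGroup 2 U
  nonab : ∃ u ∈ U, ∃ v ∈ U, u * v ≠ v * u

theorem evenCtx_of_simple [IsSimpleGroup G] (hZ : Cfsg.IsZassenhausGroup G Ω) {a b : Ω}
    (hab : a ≠ b) {U : Subgroup G} (hU : IsKernel U a) (h2 : IsPGroup 2 U)
    (hna : ∃ u ∈ U, ∃ v ∈ U, u * v ≠ v * u) : EvenCtx G a b U := by
  have C := zctx_of_zassenhaus hZ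
  have hne := twoPt_ne_bot_of_zassenhaus hZ hab
  obtain ⟨k, hk⟩ := hU.card_two_dvd C hab
  obtain ⟨j, hj⟩ := IsPGroup.iff_card.1 h2
  have hodd : Odd (Nat.card (twoPt G a b)) := by
    rcases j with _ | j
    · obtain ⟨u, hu, v, hv, huv⟩ := hna
      rw [pow_zero, Subgroup.card_eq_one] at hj
      rw [hj, Subgroup.mem_bot] at hu hv
      exact absurd (by rw [hu, hv]) huv
    refine Odd.of_dvd_nat ?_ ⟨k, hk⟩
    rw [hj, pow_succ', Nat.odd_sub (Nat.one_le_iff_ne_zero.2 (by positivity))]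
    exact iff_of_false (Nat.not_odd_iff_even.2 (even_two_mul _)) (by simp)
  have O : OddCtx G a b := ⟨hZ, hab, hodd⟩
  obtain ⟨hc, hI⟩ := O.inverted_of_no_complement O.no_complement_of_simple
  exact ⟨O, hI, hc, hU, h2, hna⟩

namespace EvenCtx

set_option linter.unusedSectionVars false

variable {a b : Ω} {U : Subgroup G} (X : EvenCtx G a b U)
include X

theorem even_card : Even (Nat.card U) := by
  obtain ⟨u, hu, v, hv, huv⟩ := X.nonab
  obtain ⟨j, hj⟩ := IsPGroup.iff_card.1 X.two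
  rcases j with _ | j
  · rw [pow_zero, Subgroup.card_eq_one] at hj
    rw [hj, Subgroup.mem_bot] at hu hv
    exact absurd (by rw [hu, hv]) huv
  · exact hj ▸ (Nat.even_pow.2 ⟨even_two, by omega⟩)

theorem card_fixed {x : G} (hx : orderOf x = 2) : Nat.card (fixedBy Ω x) = 1 := by
  rw [X.odd.card_fixed X.ker hx, if_pos X.even_card]

theorem exists_fixed {x : G} (hx : orderOf x = 2) : ∃ c : Ω, x • c = c := by
  obtain ⟨⟨c, hc⟩, -⟩ := Nat.card_eq_one_iff_exists.1 (X.card_fixed hx)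
  exact ⟨c, hc⟩

theorem fixed_eq {x : G} (hx : orderOf x = 2) {c c' : Ω} (hc : x • c = c) (hc' : x • c' = c') :
    c = c' := by
  obtain ⟨f, hf⟩ := Nat.card_eq_one_iff_exists.1 (X.card_fixed hx)
  exact congrArg Subtype.val ((hf ⟨c, hc⟩).trans (hf ⟨c', hc'⟩).symm)

theorem invol_mem {x : G} (hx : orderOf x = 2) (hxa : x • a = a) : x ∈ U :=
  X.odd.invol_stab_mem X.ker hx hxa

theorem invol_comm {x : G} (hx : orderOf x = 2) (hxU : x ∈ U) : ∀ u ∈ U, x * u = u * x :=
  X.odd.invol_central X.inv X.ker hx hxU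

/-- The centraliser of a nontrivial element of the kernel lies in the kernel. -/
theorem centralizer_le {u g : G} (hu : u ∈ U) (hu1 : u ≠ 1) (h : g * u = u * g) : g ∈ U := by
  have hga : g • a = a := OddCtx.conj_kernel_fix X.ker hu hu1
    (by rw [h, mul_inv_cancel_right]; exact X.ker.fix u hu)
  by_contra hgU
  obtain ⟨v, hv, d, hd, hd1, rfl⟩ := X.odd.conj_twoPt_of_not_mem X.ker hga hgU
  have hw : v⁻¹ * u * v ∈ U := mul_mem (mul_mem (inv_mem hv) hu) hv
  have h1 := X.ker.act_fpf X.odd.zctx X.odd.ne ⟨d, hd⟩ (fun e => hd1 (congrArg Subtype.val e))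
    ⟨v⁻¹ * u * v, hw⟩ (Subtype.ext (by
      rw [X.ker.act_coe]
      calc d * (v⁻¹ * u * v) * d⁻¹ = v⁻¹ * ((v * d * v⁻¹) * u) * v * d⁻¹ := by group
        _ = v⁻¹ * (u * (v * d * v⁻¹)) * v * d⁻¹ := by rw [h]
        _ = v⁻¹ * u * v := by group))
  refine hu1 ?_
  have h2 : v⁻¹ * u * v = 1 := congrArg Subtype.val h1
  calc u = v * (v⁻¹ * u * v) * v⁻¹ := by group
    _ = 1 := by rw [h2]; group

theorem conj_mem {g u : G} (hga : g • a = a) (hu : u ∈ U) : g * u * g⁻¹ ∈ U :=
  X.ker.norm g hga u hu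

/-- Two involutions of the kernel are conjugate under a unique element of the two-point stabiliser. -/
theorem exists_twoPt_conj {x y : G} (hx : orderOf x = 2) (hxU : x ∈ U) (hy : orderOf y = 2)
    (hyU : y ∈ U) : ∃! h : twoPt G a b, (h : G) * x * (h : G)⁻¹ = y := by
  have hx1 : x ≠ 1 := fun e => by rw [e, orderOf_one] at hx; omega
  obtain ⟨g, hg⟩ := isConj_iff.1 (X.odd.invol_conj X.inv hx hy)
  have hga := OddCtx.conj_kernel_fix X.ker (g := g) hxU hx1 (by rw [hg]; exact X.ker.fix y hyU)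
  obtain ⟨u, hu, d, hd, rfl⟩ := X.odd.decomp X.ker hga
  refine ⟨⟨d, hd⟩, ?_, fun h hh => ?_⟩
  · rw [← hg]
    have hc := X.invol_comm (x := d * x * d⁻¹) (by rw [orderOf_conj_eq, hx])
      (X.conj_mem hd.1 hxU) u hu
    calc d * x * d⁻¹ = d * x * d⁻¹ * u * u⁻¹ := by group
      _ = u * (d * x * d⁻¹) * u⁻¹ := by rw [hc]
      _ = u * d * x * (u * d)⁻¹ := by group
  · by_contra hne
    have hd' : d * x * d⁻¹ = y := by
      rw [← hg]
      have hc := X.invol_comm (x := d * x * d⁻¹) (by rw [orderOf_conj_eq, hx])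
        (X.conj_mem hd.1 hxU) u hu
      calc d * x * d⁻¹ = d * x * d⁻¹ * u * u⁻¹ := by group
        _ = u * (d * x * d⁻¹) * u⁻¹ := by rw [hc]
        _ = u * d * x * (u * d)⁻¹ := by group
    have h1 := X.ker.act_fpf X.odd.zctx X.odd.ne (⟨d, hd⟩⁻¹ * h)
      (fun e => hne (inv_mul_eq_one.1 e).symm) ⟨x, hxU⟩ (Subtype.ext (by
        rw [X.ker.act_coe, Subgroup.coe_mul, Subgroup.coe_inv]
        show d⁻¹ * h * x * (d⁻¹ * (h : G))⁻¹ = x
        calc d⁻¹ * h * x * (d⁻¹ * (h : G))⁻¹ = d⁻¹ * ((h : G) * x * (h : G)⁻¹) * d := by group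
          _ = d⁻¹ * (d * x * d⁻¹) * d := by rw [hh, hd']
          _ = x := by group))
    exact hx1 (congrArg Subtype.val h1)

theorem exists_invol : ∃ x : G, orderOf x = 2 ∧ x ∈ U := by
  have : Fact (Nat.Prime 2) := ⟨Nat.prime_two⟩
  obtain ⟨x, hx⟩ := exists_prime_orderOf_dvd_card' (G := U) 2 X.even_card.two_dvd
  exact ⟨x, (Subgroup.orderOf_coe x).trans hx, x.2⟩

theorem isSuzukiTwoGroup : Cfsg.IsSuzukiTwoGroup U := by
  obtain ⟨u, hu, v, hv, huv⟩ := X.nonab
  refine ⟨inferInstance, X.two, ⟨⟨u, hu⟩, ⟨v, hv⟩, fun e => huv (congrArg Subtype.val e)⟩, ?_, ?_⟩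
  · obtain ⟨x, hx, hxU⟩ := X.exists_invol
    obtain ⟨d, hd, hd1⟩ := X.odd.exists_ne_one
    have hx1 : x ≠ 1 := fun e => by rw [e, orderOf_one] at hx; omega
    have hyo : orderOf (d * x * d⁻¹) = 2 := by rw [orderOf_conj_eq, hx]
    refine ⟨⟨x, hxU⟩, ⟨d * x * d⁻¹, X.conj_mem hd.1 hxU⟩, fun e => hd1 ?_,
      fun e => hx1 (congrArg Subtype.val e), Subtype.ext (sq_of_orderOf_two hx),
      fun e => hx1 (conj_eq_one_iff.1 (congrArg Subtype.val e)), Subtype.ext (sq_of_orderOf_two hyo)⟩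
    have e' : x = d * x * d⁻¹ := congrArg Subtype.val e
    exact congrArg Subtype.val
      ((X.exists_twoPt_conj hx hxU hx hxU).unique (y₁ := ⟨d, hd⟩) (y₂ := 1) e'.symm (by simp))
  · set φ : twoPt G a b →* MulAut U := X.ker.act with hφ
    refine ⟨φ.range, ?_, fun x y hx1 hx hy1 hy => ?_⟩
    · haveI := X.cyc
      exact isCyclic_of_surjective φ.rangeRestrict φ.rangeRestrict_surjective
    have ho : ∀ w : U, w ≠ 1 → w * w = 1 → orderOf (w : G) = 2 := fun w hw1 hw =>
      orderOf_eq_prime (by rw [pow_two]; exact congrArg Subtype.val hw) fun e => hw1 (Subtype.ext e)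
    obtain ⟨h, hh, huniq⟩ := X.exists_twoPt_conj (ho x hx1 hx) x.2 (ho y hy1 hy) y.2
    refine ⟨⟨φ h, h, rfl⟩, Subtype.ext ?_, ?_⟩
    · rw [X.ker.act_coe]; exact hh
    rintro ⟨k, h', rfl⟩ hk
    have := huniq h' (by
      show (h' : G) * x * (h' : G)⁻¹ = y
      rw [← X.ker.act_coe]
      exact congrArg Subtype.val hk)
    exact Subtype.ext (by rw [this])

theorem invol_iff_center (x : U) : (x ≠ 1 ∧ x * x = 1) ↔ (x ∈ center U ∧ x ≠ 1) :=
  (S1137.result X.isSuzukiTwoGroup).1 x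

theorem center_sq {z : U} (hz : z ∈ center U) : z * z = 1 :=
  (S1137.result X.isSuzukiTwoGroup).2 z hz

theorem orderOf_center {z : U} (hz : z ∈ center U) (hz1 : z ≠ 1) : orderOf (z : G) = 2 :=
  orderOf_eq_prime (by rw [pow_two]; exact congrArg Subtype.val (X.center_sq hz))
    fun e => hz1 (Subtype.ext e)

theorem mem_center {x : G} (hx : orderOf x = 2) (hxU : x ∈ U) : (⟨x, hxU⟩ : U) ∈ center U :=
  ((X.invol_iff_center ⟨x, hxU⟩).1 ⟨fun e => by
      rw [show x = 1 from congrArg Subtype.val e, orderOf_one] at hx; omega,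
    Subtype.ext (sq_of_orderOf_two hx)⟩).1

theorem sq_mem_center (x : U) : x * x ∈ center U := (S1138.result X.isSuzukiTwoGroup).1 x

/-- The two-point stabiliser is regular on the nontrivial central elements of the kernel. -/
theorem card_center : Nat.card (center U) = Nat.card (twoPt G a b) + 1 := by
  classical
  haveI := Fintype.ofFinite (center U)
  obtain ⟨x, hx, hxU⟩ := X.exists_invol
  let f : twoPt G a b → {z : center U // z ≠ 1} := fun h =>
    ⟨⟨⟨(h : G) * x * (h : G)⁻¹, X.conj_mem h.2.1 hxU⟩,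
      X.mem_center (by rw [orderOf_conj_eq, hx]) _⟩, fun e => by
        have := congrArg (fun z : center U => ((z : U) : G)) e
        simp only [Subgroup.coe_one] at this
        rw [conj_eq_one_iff] at this
        rw [this, orderOf_one] at hx
        omega⟩
  have hbij : Function.Bijective f := by
    refine ⟨fun h h' e => ?_, fun z => ?_⟩
    · have e' : (h : G) * x * (h : G)⁻¹ = (h' : G) * x * (h' : G)⁻¹ :=
        congrArg (fun z : {z : center U // z ≠ 1} => ((z.1 : U) : G)) e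
      exact (X.exists_twoPt_conj hx hxU (by rw [orderOf_conj_eq, hx])
        (X.conj_mem h'.2.1 hxU)).unique e' rfl
    · obtain ⟨h, hh, -⟩ := X.exists_twoPt_conj hx hxU
        (X.orderOf_center z.1.2 fun e => z.2 (Subtype.ext e)) z.1.1.2
      exact ⟨h, Subtype.ext (Subtype.ext (Subtype.ext hh))⟩
  rw [Nat.card_congr (Equiv.ofBijective f hbij), Nat.card_eq_fintype_card,
    Nat.card_eq_fintype_card, Fintype.card_subtype_compl, Fintype.card_subtype_eq]
  have : 0 < Fintype.card (center U) := Fintype.card_pos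
  omega

theorem card_kernel : Nat.card U = (Nat.card (twoPt G a b) + 1) ^ 2 ∨
    Nat.card U = (Nat.card (twoPt G a b) + 1) ^ 3 := by
  rw [← X.card_center]
  exact (S1138.result X.isSuzukiTwoGroup).2.2.1

theorem center_two_power : ∃ n, 2 ≤ n ∧ Nat.card (twoPt G a b) + 1 = 2 ^ n := by
  obtain ⟨n, hn⟩ := IsPGroup.iff_card.1 (X.two.to_subgroup (center U))
  refine ⟨n, ?_, X.card_center ▸ hn⟩
  by_contra hlt
  have : 2 ^ n ≤ 2 ^ 1 := Nat.pow_le_pow_right two_pos (by omega)
  have := X.card_center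
  have := X.odd.three_le_card
  omega

theorem card_group : Nat.card G = (Nat.card U + 1) * (Nat.card U * Nat.card (twoPt G a b)) :=
  X.odd.card_group X.ker

theorem card_points : Nat.card Ω = Nat.card U + 1 := (X.ker.card_eq X.odd.ne).symm

theorem card_invol : Nat.card {x : G // orderOf x = 2} =
    Nat.card (twoPt G a b) * (Nat.card U + 1) := by
  rw [X.odd.card_invol X.inv X.ker, if_pos X.even_card]

end EvenCtx

end Cfsg.Agent.Zassenhaus
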