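import Cfsg.Agent.Zassenhaus.EvenTori

/-!
# Simple Zassenhaus groups with a nonabelian 2-group of order `q²` as kernel: `q` is an odd power of 2

The fixed-point-free real elements form at most two classes of tori; counting pairs of involutions
gives their orders.
-/

set_option autoImplicit false

namespace Cfsg.Agent.Zassenhaus

open Subgroup MulAction

universe u v

variable {G : Type u} {Ω : Type v} [Group G] [Finite G] [MulAction G Ω] [Fintype Ω]

namespace EvenCtx

variable {a b : Ω} {U : Subgroup G} (X : EvenCtx G a b U)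
include X

set_option linter.unusedSectionVars false

theorem fixed_two {g : G} (hg : g ≠ 1) {c c' e : Ω} (hcc : c ≠ c') (hc : g • c = c)
    (hc' : g • c' = c') (he : g • e = e) : e = c ∨ e = c' := by
  by_contra h
  push Not at h
  exact hg (X.odd.zctx.three g c c' e hcc h.2.symm h.1.symm hc hc' he)

/-- Exactly `d` involutions fix a given point. -/
theorem card_invol_stab (p : Ω) :
    Nat.card {y : G // orderOf y = 2 ∧ y • p = p} = Nat.card (twoPt G a b) := by
  classical
  obtain ⟨k, hk⟩ : ∃ k : G, k • p = a := by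
    by_cases hpa : p = a
    · exact ⟨1, by rw [hpa, one_smul]⟩
    · obtain ⟨k, hk, -⟩ := X.odd.zctx.two hpa (Ne.symm hpa)
      exact ⟨k, hk⟩
  have h1 : Nat.card {y : G // orderOf y = 2 ∧ y • p = p} =
      Nat.card {y : G // orderOf y = 2 ∧ y • a = a} := by
    refine Nat.card_congr (Equiv.subtypeEquiv (MulAut.conj k).toEquiv fun y => ?_)
    show orderOf y = 2 ∧ y • p = p ↔ orderOf (k * y * k⁻¹) = 2 ∧ (k * y * k⁻¹) • a = a
    rw [orderOf_conj_eq, ← hk, mul_smul, mul_smul, inv_smul_smul, smul_left_cancel_iff]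
  haveI := Fintype.ofFinite (center U)
  have h2 : Nat.card {y : G // orderOf y = 2 ∧ y • a = a} =
      Nat.card {z : center U // z ≠ 1} := by
    refine Nat.card_congr (Equiv.ofBijective (fun y => ⟨⟨⟨y.1, X.invol_mem y.2.1 y.2.2⟩,
      X.mem_center y.2.1 _⟩, fun e => ?_⟩) ⟨fun y y' e => ?_, fun z => ?_⟩)
    · have h := y.2.1
      rw [show (y.1 : G) = 1 from congrArg (fun z : center U => ((z : U) : G)) e, orderOf_one] at h
      omega
    · exact Subtype.ext
        (congrArg (fun z : {z : center U // z ≠ 1} => ((z.1 : U) : G)) e)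
    · exact ⟨⟨((z.1 : U) : G), X.orderOf_center z.1.2 (fun e => z.2 (Subtype.ext e)),
        X.ker.fix _ z.1.1.2⟩, Subtype.ext (Subtype.ext (Subtype.ext rfl))⟩
  rw [h1, h2, Nat.card_eq_fintype_card, Fintype.card_subtype_compl, Fintype.card_subtype_eq,
    ← Nat.card_eq_fintype_card, X.card_center, Nat.add_sub_cancel]

/-- Each involution inverts `|U| q / 2` elements without fixed points. -/
theorem card_inverted {x : G} (hx : orderOf x = 2) :
    2 * Nat.card {w : G // FpReal Ω w ∧ x * w * x⁻¹ = w⁻¹} =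
      Nat.card U * (Nat.card (twoPt G a b) + 1) := by
  classical
  haveI := Fintype.ofFinite G
  obtain ⟨p, hp⟩ := X.exists_fixed hx
  set d := Nat.card (twoPt G a b) with hd
  set N := Nat.card U with hN
  have hx2 := sq_of_orderOf_two hx
  have hx1 : x ≠ 1 := fun e => by rw [e, orderOf_one] at hx; omega
  set S := (Finset.univ : Finset G).filter fun w => orderOf (x * w) = 2 with hS
  have hSc : S.card = d * (N + 1) := by
    rw [hS, ← Fintype.card_subtype, ← Nat.card_eq_fintype_card, ← X.card_invol]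
    exact Nat.card_congr (Equiv.subtypeEquiv (Equiv.mulLeft x) fun w => Iff.rfl)
  set A := S.filter fun w => ∀ c : Ω, w • c ≠ c with hA
  have hAc : A.card = Nat.card {w : G // FpReal Ω w ∧ x * w * x⁻¹ = w⁻¹} := by
    rw [Nat.card_eq_fintype_card, Fintype.card_subtype]
    congr 1
    ext w
    simp only [hA, hS, Finset.mem_filter, Finset.mem_univ, true_and]
    constructor
    · rintro ⟨ho, hf⟩
      have h2 : x * w * x⁻¹ = w⁻¹ := by
        rw [inv_conj_of_sq hx2]
        exact eq_inv_of_mul_eq_one_left (by rw [mul_assoc (x * w)]; exact sq_of_orderOf_two ho)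
      exact ⟨⟨hf, x, hx, h2⟩, h2⟩
    · rintro ⟨⟨hf, -⟩, h⟩
      refine ⟨orderOf_eq_prime ?_ fun e => ?_, hf⟩
      · rw [pow_two]
        calc x * w * (x * w) = x * w * x⁻¹ * (x * x) * w := by group
          _ = 1 := by rw [h, hx2]; group
      · refine hf p ?_
        rw [eq_inv_of_mul_eq_one_right e, inv_smul_eq_iff, hp]
  set B := S.filter fun w => w • p = p with hB
  have hBc : B.card = d := by
    rw [hd, ← X.card_invol_stab p, hB, hS, Finset.filter_filter, ← Fintype.card_subtype,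
      ← Nat.card_eq_fintype_card]
    refine Nat.card_congr (Equiv.subtypeEquiv (Equiv.mulLeft x) fun w => ?_)
    show orderOf (x * w) = 2 ∧ w • p = p ↔ orderOf (x * w) = 2 ∧ (x * w) • p = p
    refine and_congr_right fun _ => ?_
    rw [mul_smul]
    exact ⟨fun h => by rw [h, hp], fun h => MulAction.injective x (h.trans hp.symm)⟩
  set C := (S.filter fun w => ¬ w • p = p).filter fun w => ¬ ∀ c : Ω, w • c ≠ c with hC
  have hsum : A.card + B.card + C.card = S.card := by
    have h1 := Finset.card_filter_add_card_filter_not (s := S) (fun w => w • p = p)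
    have h2 := Finset.card_filter_add_card_filter_not (s := S.filter fun w => ¬ w • p = p)
      (fun w => ∀ c : Ω, w • c ≠ c)
    have h3 : ((S.filter fun w => ¬ w • p = p).filter fun w => ∀ c : Ω, w • c ≠ c) = A := by
      rw [hA, Finset.filter_filter]
      exact Finset.filter_congr fun w _ => ⟨fun h => h.2, fun h => ⟨h p, h⟩⟩
    rw [h3, ← hC] at h2
    rw [← hB] at h1
    omega
  have hfix : ∀ {w : G}, w ∈ S → ∀ {c : Ω}, w • c = c → w • x • c = x • c := by
    intro w hw c hc
    have h := sq_of_orderOf_two (Finset.mem_filter.1 hw).2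
    have h2 : x • w • x • c = c := by
      have := congrArg (fun g : G => g • c) h
      simp only [mul_smul, one_smul] at this
      rwa [hc] at this
    refine MulAction.injective x ?_
    show x • w • x • c = x • x • c
    rw [h2, ← mul_smul, hx2, one_smul]
  have hxc : ∀ {c : Ω}, c ≠ p → x • c ≠ c ∧ x • c ≠ p := fun {c} hc =>
    ⟨fun e => hc (X.fixed_eq hx e hp), fun e => hc (MulAction.injective x (e.trans hp.symm))⟩
  have hCc : N * (d - 1) = 2 * C.card := by
    have key := Finset.sum_card_bipartiteAbove_eq_sum_card_bipartiteBelow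
      (s := (Finset.univ : Finset Ω).erase p) (t := C) (r := fun c w => w • c = c)
    simp only [Finset.bipartiteAbove, Finset.bipartiteBelow] at key
    have h1 : ∀ c ∈ (Finset.univ : Finset Ω).erase p,
        (C.filter fun w => w • c = c).card = d - 1 := by
      intro c hc
      obtain ⟨hc1, hc2⟩ := hxc (Finset.mem_erase.1 hc).1
      have e : (C.filter fun w => w • c = c) =
          ((Finset.univ : Finset G).filter
            fun w => orderOf (x * w) = 2 ∧ (x * w) • c = x • c).erase 1 := by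
        ext w
        simp only [hC, hS, Finset.mem_filter, Finset.mem_univ, true_and, Finset.mem_erase]
        constructor
        · rintro ⟨⟨⟨ho, hwp⟩, -⟩, hwc⟩
          exact ⟨fun e => hwp (by rw [e, one_smul]), ho, by rw [mul_smul, hwc]⟩
        · rintro ⟨hw1, ho, hwc⟩
          rw [mul_smul] at hwc
          have hwc' := MulAction.injective x hwc
          have hwc'' := hfix (Finset.mem_filter.2 ⟨Finset.mem_univ _, ho⟩) hwc'
          refine ⟨⟨⟨ho, fun hwp => ?_⟩, fun h => h c hwc'⟩, hwc'⟩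
          rcases X.fixed_two hw1 hc1.symm hwc' hwc'' hwp with h | h
          · exact (Finset.mem_erase.1 hc).1 h.symm
          · exact hc2 h.symm
      have hm : (1 : G) ∈ (Finset.univ : Finset G).filter
          fun w => orderOf (x * w) = 2 ∧ (x * w) • c = x • c := by
        simp only [Finset.mem_filter, Finset.mem_univ, true_and, mul_one]
        exact ⟨hx, trivial⟩
      rw [e, Finset.card_erase_of_mem hm]
      congr 1
      rw [hd, ← X.odd.card_swappers X.inv hc1.symm, ← Fintype.card_subtype,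
        ← Nat.card_eq_fintype_card]
      exact Nat.card_congr (Equiv.subtypeEquiv (Equiv.mulLeft x) fun w => Iff.rfl)
    have h2 : ∀ w ∈ C, (((Finset.univ : Finset Ω).erase p).filter fun c => w • c = c).card = 2 := by
      intro w hw
      simp only [hC, Finset.mem_filter] at hw
      obtain ⟨⟨hwS, hwp⟩, hc⟩ := hw
      push Not at hc
      obtain ⟨c, hc⟩ := hc
      have hcp : c ≠ p := fun e => hwp (e ▸ hc)
      have hc' := hfix hwS hc
      have hw1 : w ≠ 1 := fun e => hwp (by rw [e, one_smul])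
      have hne := (hxc hcp).1.symm
      rw [← Finset.card_pair hne]
      congr 1
      ext e
      simp only [Finset.mem_filter, Finset.mem_erase, Finset.mem_univ, and_true,
        Finset.mem_insert, Finset.mem_singleton]
      refine ⟨fun he => X.fixed_two hw1 hne hc hc' he.2, ?_⟩
      rintro (rfl | rfl)
      · exact ⟨hcp, hc⟩
      · exact ⟨(hxc hcp).2, hc'⟩
    rw [Finset.sum_congr rfl h1, Finset.sum_congr rfl h2, Finset.sum_const, Finset.sum_const,
      Finset.card_erase_of_mem (Finset.mem_univ _), Finset.card_univ, ← Nat.card_eq_fintype_card,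
      X.card_points, Nat.add_sub_cancel, smul_eq_mul, smul_eq_mul, mul_comm C.card 2] at key
    exact key
  obtain ⟨e, he⟩ : ∃ e, d = e + 1 := ⟨d - 1, by
    have := X.odd.three_le_card
    omega⟩
  rw [← hAc]
  rw [hBc, hSc] at hsum
  rw [he, Nat.add_sub_cancel] at hCc
  rw [he] at hsum ⊢
  linarith

/-- The involutions inverting a real element without fixed points form a coset of its centraliser. -/
theorem card_inverters {w : G} (hw : FpReal Ω w) :
    Nat.card {x : G // orderOf x = 2 ∧ x * w * x⁻¹ = w⁻¹} =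
      Nat.card (centralizer ({w} : Set G)) := by
  obtain ⟨y, hy, hyw⟩ := hw.2
  obtain ⟨hinv, -⟩ := X.invert hw.1 hy hyw
  symm
  refine Nat.card_congr (Equiv.ofBijective (fun c => ⟨y * (c : G), ?_, ?_⟩)
    ⟨fun c c' e => Subtype.ext (mul_left_cancel (congrArg Subtype.val e)), ?_⟩)
  · refine orderOf_eq_prime ?_ fun e => ?_
    · rw [pow_two]
      calc y * c * (y * c) = y * c * y⁻¹ * (y * y) * c := by group
        _ = 1 := by rw [hinv c c.2, sq_of_orderOf_two hy]; group
    · have hc : (c : G) = y := by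
        rw [eq_inv_of_mul_eq_one_right e, inv_conj_of_sq (sq_of_orderOf_two hy)]
      have := X.centralizer_inf_invol hw.1 hy (mem_centralizer_singleton_iff.1 c.2) (by rw [hc])
      rw [hc] at this
      rw [this, orderOf_one] at hy
      omega
  · calc y * c * w * (y * c)⁻¹ = y * (c * w * (c : G)⁻¹) * y⁻¹ := by group
      _ = w⁻¹ := by rw [mem_centralizer_singleton_iff.1 c.2, mul_inv_cancel_right, hyw]
  · rintro ⟨x, hx, hxw⟩
    refine ⟨⟨y⁻¹ * x, mem_centralizer_singleton_iff.2 ?_⟩, Subtype.ext (mul_inv_cancel_left _ _)⟩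
    have h1 : x * w = w⁻¹ * x := mul_inv_eq_iff_eq_mul.1 hxw
    have h2 : y⁻¹ * w⁻¹ * y = w := by rw [← hyw]; group
    calc y⁻¹ * x * w = y⁻¹ * w⁻¹ * y * (y⁻¹ * x) := by rw [mul_assoc, h1]; group
      _ = w * (y⁻¹ * x) := by rw [h2]

omit X in
/-- The elements whose centraliser is a conjugate of the torus of `w`. -/
def torusClass (w : G) : Set G :=
  {v | v ≠ 1 ∧ ∃ g : G, v ∈ centralizer ({g * w * g⁻¹} : Set G)}

theorem centralizer_of_torusClass {w v : G} (hw : FpReal Ω w) (hv : v ∈ torusClass w) :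
    FpReal Ω v ∧ ∃ g : G, centralizer ({v} : Set G) = centralizer ({g * w * g⁻¹} : Set G) := by
  obtain ⟨hv1, g, hg⟩ := hv
  obtain ⟨h1, h2⟩ := X.centralizer_eq (X.real_conj hw g) hg hv1
  exact ⟨h2, g, h1⟩

theorem card_centralizer_conj (w g : G) :
    Nat.card (centralizer ({g * w * g⁻¹} : Set G)) = Nat.card (centralizer ({w} : Set G)) := by
  refine Nat.card_congr (Equiv.subtypeEquiv (MulAut.conj g).toEquiv fun c => ?_).symm
  show c ∈ _ ↔ g * c * g⁻¹ ∈ centralizer ({g * w * g⁻¹} : Set G)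
  rw [X.mem_centralizer_conj, show g⁻¹ * (g * c * g⁻¹) * g = c by group]

theorem mem_torusClass_self {w : G} (hw : FpReal Ω w) : w ∈ torusClass w :=
  ⟨X.ne_one hw, 1, by rw [one_mul, inv_one, mul_one]; exact X.mem_centralizer_self w⟩

theorem torusClass_disjoint {w w' v : G} (hw : FpReal Ω w) (hw' : FpReal Ω w')
    (hn : w' ∉ torusClass w) (hv : v ∈ torusClass w) : v ∉ torusClass w' := by
  intro hv'
  obtain ⟨-, g, hg⟩ := X.centralizer_of_torusClass hw hv
  obtain ⟨-, g', hg'⟩ := X.centralizer_of_torusClass hw' hv'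
  refine hn ⟨X.ne_one hw', g'⁻¹ * g, ?_⟩
  have h1 : g' * w' * g'⁻¹ ∈ centralizer ({g * w * g⁻¹} : Set G) := by
    rw [← hg, hg']
    exact X.mem_centralizer_self _
  rw [X.mem_centralizer_conj] at h1 ⊢
  convert h1 using 1
  group

/-- A torus and its automizer. -/
theorem exists_automizer (hN : Nat.card U = (Nat.card (twoPt G a b) + 1) ^ 2) {w : G}
    (hw : FpReal Ω w) :
    ∃ e, (e = 2 ∨ e = 4) ∧ e + 1 ≤ Nat.card (centralizer ({w} : Set G)) ∧
      Nat.card (normalizer (centralizer ({w} : Set G) : Set G)) =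
        Nat.card (centralizer ({w} : Set G)) * e := by
  classical
  obtain ⟨y, hy, hyw⟩ := hw.2
  set T := centralizer ({w} : Set G) with hT
  refine ⟨_, X.card_automizer hN hw hy hyw, ?_, X.card_normalizer hw hy hyw⟩
  haveI := Fintype.ofFinite T
  have hlt : Nat.card {c : T // c ≠ 1} + 1 = Nat.card T := by
    rw [Nat.card_eq_fintype_card, Fintype.card_subtype_compl, Fintype.card_subtype_eq,
      Nat.card_eq_fintype_card]
    have : 0 < Fintype.card T := Fintype.card_pos
    omega
  rw [← hlt]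
  refine Nat.add_le_add_right (Nat.card_le_card_of_injective
    (fun m : (normalizer (T : Set G) ⊓ centralizer ({y} : Set G) : Subgroup G) =>
    (⟨⟨(m : G) * w * (m : G)⁻¹, (mem_normalizer_iff.1 m.2.1 w).1 (X.mem_centralizer_self w)⟩,
      fun e => X.ne_one hw (conj_eq_one_iff.1 (congrArg Subtype.val e))⟩ : {c : T // c ≠ 1})) ?_) 1
  intro m m' e
  have e' : (m : G) * w * (m : G)⁻¹ = (m' : G) * w * (m' : G)⁻¹ :=
    congrArg (fun c : {c : T // c ≠ 1} => (c.1 : G)) e
  refine Subtype.ext (inv_mul_eq_one.1 (X.centralizer_inf_invol hw.1 hy ?_ ?_))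
  · calc (m : G)⁻¹ * (m' : G) * w = (m : G)⁻¹ * ((m' : G) * w * (m' : G)⁻¹) * m' := by group
      _ = (m : G)⁻¹ * ((m : G) * w * (m : G)⁻¹) * m' := by rw [e']
      _ = w * ((m : G)⁻¹ * m') := by group
  · exact mem_centralizer_singleton_iff.1 (mul_mem (inv_mem m.2.2) m'.2.2)

theorem card_torusClass {w : G} (hw : FpReal Ω w) :
    Nat.card (torusClass w) =
      (normalizer (centralizer ({w} : Set G) : Set G)).index *
        (Nat.card (centralizer ({w} : Set G)) - 1) := by
  classical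
  set T := centralizer ({w} : Set G) with hT
  set N := normalizer (T : Set G) with hNdef
  haveI := Fintype.ofFinite T
  have h1 : Nat.card {c : T // c ≠ 1} = Nat.card T - 1 := by
    rw [Nat.card_eq_fintype_card, Fintype.card_subtype_compl, Fintype.card_subtype_eq,
      Nat.card_eq_fintype_card]
  rw [← h1, index_eq_card, ← Nat.card_prod]
  symm
  refine Nat.card_congr (Equiv.ofBijective (fun p => ⟨p.1.out * (p.2.1 : G) * p.1.out⁻¹,
    fun e => p.2.2 (Subtype.ext (conj_eq_one_iff.1 e)), p.1.out, ?_⟩) ⟨?_, ?_⟩)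
  · rw [X.mem_centralizer_conj]
    convert p.2.1.2 using 1
    group
  · rintro ⟨x, c, hc⟩ ⟨x', c', hc'⟩ e
    have e' : x.out * (c : G) * x.out⁻¹ = x'.out * (c' : G) * x'.out⁻¹ := congrArg Subtype.val e
    have hcn : (c : G) ≠ 1 := fun h => hc (Subtype.ext h)
    have hcn' : (c' : G) ≠ 1 := fun h => hc' (Subtype.ext h)
    have hmem : x.out⁻¹ * x'.out ∈ N := by
      refine Subgroup.mem_normalizer_fintype fun k hk => ?_
      have h2 := (X.centralizer_eq hw c.2 hcn).1
      have h3 := (X.centralizer_eq hw c'.2 hcn').1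
      rw [SetLike.mem_coe, ← hT] at *
      rw [← h2]
      rw [← h3] at hk
      have hk' := mem_centralizer_singleton_iff.1 hk
      have hc2 : (c : G) = x.out⁻¹ * x'.out * c' * (x.out⁻¹ * x'.out)⁻¹ := by
        calc (c : G) = x.out⁻¹ * (x.out * c * x.out⁻¹) * x.out := by group
          _ = x.out⁻¹ * (x'.out * c' * x'.out⁻¹) * x.out := by rw [e']
          _ = x.out⁻¹ * x'.out * c' * (x.out⁻¹ * x'.out)⁻¹ := by group
      rw [hc2, X.mem_centralizer_conj, mem_centralizer_singleton_iff]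
      rw [show (x.out⁻¹ * x'.out)⁻¹ * (x.out⁻¹ * x'.out * k * (x.out⁻¹ * x'.out)⁻¹) *
        (x.out⁻¹ * x'.out) = k by group]
      exact hk'
    obtain rfl : x = x' := by
      rw [← QuotientGroup.out_eq' x, ← QuotientGroup.out_eq' x', QuotientGroup.eq]
      exact hmem
    obtain rfl : c = c' := Subtype.ext (mul_left_cancel (mul_right_cancel e'))
    rfl
  · rintro ⟨v, hv1, g, hg⟩
    rw [X.mem_centralizer_conj] at hg
    obtain ⟨n, hn⟩ := QuotientGroup.mk_out_eq_mul N g
    have hk : (n : G)⁻¹ * (g⁻¹ * v * g) * n ∈ T := by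
      have := (mem_normalizer_iff.1 (N.inv_mem n.2) (g⁻¹ * v * g)).1 hg
      rwa [inv_inv] at this
    refine ⟨(QuotientGroup.mk g, ⟨⟨_, hk⟩, fun e => hv1 ?_⟩), Subtype.ext ?_⟩
    · have e2 : (n : G)⁻¹ * (g⁻¹ * v * g) * n = 1 := congrArg Subtype.val e
      calc v = g * n * ((n : G)⁻¹ * (g⁻¹ * v * g) * n) * (g * n)⁻¹ := by group
        _ = 1 := by rw [e2]; group
    · show (QuotientGroup.mk g : G ⧸ N).out * ((n : G)⁻¹ * (g⁻¹ * v * g) * n) *
        (QuotientGroup.mk g : G ⧸ N).out⁻¹ = v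
      rw [hn]
      group

theorem index_modEq (hN : Nat.card U = (Nat.card (twoPt G a b) + 1) ^ 2) {w : G}
    (hw : FpReal Ω w) :
    (Nat.card (centralizer ({w} : Set G)) : ℤ) ∣
      ((normalizer (centralizer ({w} : Set G) : Set G)).index : ℤ) - 1 := by
  classical
  obtain ⟨e, he, -, hcard⟩ := X.exists_automizer hN hw
  set T := centralizer ({w} : Set G) with hT
  set N := normalizer (T : Set G) with hNdef
  have hTN : T ≤ N := Subgroup.le_normalizer
  set x0 : G ⧸ N := ((1 : G) : G ⧸ N) with hx0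
  have hfix : ∀ c : T, c • x0 = x0 := fun c => by
    show ((((c : G) * 1 : G)) : G ⧸ N) = x0
    rw [mul_one, hx0, QuotientGroup.eq]
    simpa using hTN c.2
  let Y : SubMulAction T (G ⧸ N) :=
    { carrier := {x | x ≠ x0}
      smul_mem' := fun c x hx h => hx (by rw [← inv_smul_smul c x, h, hfix]) }
  have hY : Nat.card Y + 1 = N.index := by
    rw [index_eq_card]
    have h1 := Set.ncard_add_ncard_compl ({x0} : Set (G ⧸ N))
    rw [Set.ncard_singleton] at h1
    rw [← h1, add_comm 1]
    exact congrArg (· + 1) (Nat.card_coe_set_eq _)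
  have hd : Nat.card T ∣ Nat.card Y := by
    refine Core.card_dvd_of_free fun x => eq_bot_iff.mpr fun c hc => mem_bot.mpr ?_
    obtain ⟨⟨g⟩, hg⟩ := x
    have h1 : (((c : G) * g : G) : G ⧸ N) = (g : G ⧸ N) := congrArg Subtype.val hc
    rw [eq_comm, QuotientGroup.eq] at h1
    by_contra hc1
    have hcn : (c : G) ≠ 1 := fun h => hc1 (Subtype.ext h)
    set h := g⁻¹ * ((c : G) * g) with hh
    have hodd : Odd (orderOf h) := by
      rw [hh, ← mul_assoc]
      have := orderOf_conj_eq g⁻¹ (c : G)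
      rw [inv_inv] at this
      rw [this]
      exact (X.odd_centralizer hw.1).of_dvd_nat (orderOf_dvd_natCard T c.2)
    have hhT : h ∈ T := by
      have hi : (T.subgroupOf N).index = e := by
        have h2 := (T.subgroupOf N).card_mul_index
        rw [Nat.card_congr (Subgroup.subgroupOfEquivOfLe hTN).toEquiv, hcard] at h2
        exact Nat.eq_of_mul_eq_mul_left Nat.card_pos h2
      have h3 : h ^ e ∈ T := by
        have := (T.subgroupOf N).pow_index_mem (⟨h, h1⟩ : N)
        rw [hi] at this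
        simpa [Subgroup.mem_subgroupOf] using this
      have hco : e.Coprime (orderOf h) := by
        rcases he with rfl | rfl
        · exact Nat.coprime_two_left.2 hodd
        · exact Nat.Coprime.pow_left 2 (Nat.coprime_two_left.2 hodd)
      obtain ⟨m, hm⟩ := exists_pow_eq_self_of_coprime hco
      rw [← hm]
      exact pow_mem h3 m
    have hh1 : h ≠ 1 := fun e1 => hcn (by
      calc (c : G) = g * h * g⁻¹ := by rw [hh]; group
        _ = 1 := by rw [e1]; group)
    have h4 := (X.centralizer_eq hw hhT hh1).1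
    have h5 := (X.centralizer_eq hw c.2 hcn).1
    refine hg ?_
    show (g : G ⧸ N) = x0
    rw [hx0, QuotientGroup.eq, mul_one]
    refine N.inv_mem (Subgroup.mem_normalizer_fintype fun k hk => ?_)
    rw [SetLike.mem_coe, ← hT] at *
    rw [← h5]
    have hk' : k ∈ centralizer ({h} : Set G) := by rw [h4]; exact hk
    have hc2 : (c : G) = g * h * g⁻¹ := by rw [hh]; group
    rw [hc2, X.mem_centralizer_conj, show g⁻¹ * (g * k * g⁻¹) * g = k by group]
    exact hk'
  rw [← hY]
  push_cast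
  rw [add_sub_cancel_right]
  exact_mod_cast hd

theorem sylow_mem_torus {w : G} (hw : FpReal Ω w) {r : ℕ} (hr : r.Prime)
    (hd : r ∣ Nat.card (centralizer ({w} : Set G))) :
    ∃ (R : Sylow r G) (v : G), v ≠ 1 ∧ v ∈ R ∧ (R : Subgroup G) ≤ centralizer ({w} : Set G) := by
  haveI := Fact.mk hr
  obtain ⟨v, hv⟩ := exists_prime_orderOf_dvd_card' r hd
  have hvo : orderOf (v : G) = r := (Subgroup.orderOf_coe v).trans hv
  have hv1 : (v : G) ≠ 1 := fun e => hr.ne_one (by rw [← hvo, e, orderOf_one])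
  obtain ⟨R, hR⟩ := (IsPGroup.of_card (n := 1)
    (by rw [Nat.card_zpowers, hvo, pow_one] : Nat.card (zpowers (v : G)) = r ^ 1)).exists_le_sylow
  have hvR : (v : G) ∈ R := hR (mem_zpowers _)
  haveI : Nontrivial (R : Subgroup G) :=
    ⟨⟨v, hvR⟩, 1, fun e => hv1 (congrArg Subtype.val e)⟩
  obtain ⟨z, hz, hz1⟩ := (center (R : Subgroup G)).bot_or_exists_ne_one.resolve_left
    ((Subgroup.nontrivial_iff_ne_bot _).1 R.isPGroup'.center_nontrivial)
  have hz1' : (z : G) ≠ 1 := fun e => hz1 (Subtype.ext e)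
  have hcv := (X.centralizer_eq hw v.2 hv1).1
  have hzT : (z : G) ∈ centralizer ({w} : Set G) := by
    rw [← hcv, mem_centralizer_singleton_iff]
    exact (congrArg Subtype.val (mem_center_iff.1 hz ⟨v, hvR⟩)).symm
  refine ⟨R, v, hv1, hvR, fun g hg => ?_⟩
  rw [← (X.centralizer_eq hw hzT hz1').1, mem_centralizer_singleton_iff]
  exact congrArg Subtype.val (mem_center_iff.1 hz ⟨g, hg⟩)

theorem coprime_tori {w w' : G} (hw : FpReal Ω w) (hw' : FpReal Ω w')
    (hn : w' ∉ torusClass w) :
    (Nat.card (centralizer ({w} : Set G))).Coprime (Nat.card (centralizer ({w'} : Set G))) := by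
  refine Nat.coprime_of_dvd fun r hr h1 h2 => ?_
  haveI := Fact.mk hr
  obtain ⟨R, v, hv1, hvR, hR⟩ := X.sylow_mem_torus hw hr h1
  obtain ⟨R', -, -, -, hR'⟩ := X.sylow_mem_torus hw' hr h2
  obtain ⟨g, hg⟩ := MulAction.exists_smul_eq G R R'
  have hv' : g * v * g⁻¹ ∈ centralizer ({w'} : Set G) := by
    refine hR' ?_
    rw [← hg]
    exact Subgroup.smul_mem_pointwise_smul v (MulAut.conj g) (R : Subgroup G) hvR
  have hv'1 : g * v * g⁻¹ ≠ 1 := fun e => hv1 (conj_eq_one_iff.1 e)
  refine hn ⟨X.ne_one hw', g, ?_⟩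
  have h3 : w' ∈ centralizer ({g * v * g⁻¹} : Set G) := by
    rw [(X.centralizer_eq hw' hv' hv'1).1]
    exact X.mem_centralizer_self w'
  rw [X.mem_centralizer_conj] at h3 ⊢
  rwa [(X.centralizer_eq hw (hR hvR) hv1).1] at h3

theorem card_fpf_le : 2 * Nat.card {g : G // ∀ c : Ω, g • c ≠ c} < Nat.card G + Nat.card U := by
  classical
  haveI := Fintype.ofFinite G
  set s := Nat.card U * Nat.card (twoPt G a b) with hs
  set t := (Finset.univ : Finset G).filter fun g => g ≠ 1 ∧ ∃ c : Ω, g • c = c with ht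
  have hstab : ∀ c : Ω, ((Finset.univ : Finset G).filter fun g => g • c = c).card = s := by
    intro c
    haveI : IsPretransitive G Ω := ⟨fun x y => by
      by_cases hxy : x = y
      · exact ⟨1, by rw [hxy, one_smul]⟩
      · obtain ⟨g, hg, -⟩ := X.odd.zctx.two hxy (Ne.symm hxy)
        exact ⟨g, hg⟩⟩
    obtain ⟨k, hk⟩ := MulAction.exists_smul_eq G c a
    rw [← Fintype.card_subtype, ← Nat.card_eq_fintype_card, hs, ← X.odd.card_stab X.ker]
    refine Nat.card_congr (Equiv.subtypeEquiv (MulAut.conj k).toEquiv fun y => ?_)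
    show y • c = c ↔ (k * y * k⁻¹) • a = a
    rw [← hk, mul_smul, mul_smul, inv_smul_smul, smul_left_cancel_iff]
  have key : (Finset.univ : Finset Ω).card * (s - 1) ≤ t.card * 2 := by
    refine Finset.card_mul_le_card_mul (fun c g => g • c = c) (fun c _ => ?_) (fun g hg => ?_)
    · refine le_of_eq ?_
      rw [← hstab c, ← Finset.card_erase_of_mem (a := (1 : G))
        (Finset.mem_filter.2 ⟨Finset.mem_univ _, one_smul G c⟩)]
      congr 1
      ext g
      simp only [Finset.bipartiteAbove, ht, Finset.mem_filter, Finset.mem_univ, true_and,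
        Finset.mem_erase]
      exact ⟨fun h => ⟨⟨h.1, c, h.2⟩, h.2⟩, fun h => ⟨h.1.1, h.2⟩⟩
    · simp only [ht, Finset.mem_filter, Finset.mem_univ, true_and] at hg
      by_contra h
      obtain ⟨c₁, c₂, c₃, h1, h2, h3, h12, h13, h23⟩ :=
        Finset.two_lt_card_iff.1 (not_le.1 h)
      simp only [Finset.bipartiteBelow, Finset.mem_filter, Finset.mem_univ, true_and] at h1 h2 h3
      exact hg.1 (X.odd.zctx.three g c₁ c₂ c₃ h12 h23 h13 h1 h2 h3)
  have hsplit : Nat.card {g : G // ∀ c : Ω, g • c ≠ c} + t.card + 1 ≤ Nat.card G := by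
    rw [Nat.card_eq_fintype_card, Fintype.card_subtype, Nat.card_eq_fintype_card (α := G),
      ← Finset.card_univ, ← Finset.card_union_of_disjoint (by
        simp only [ht, Finset.disjoint_left, Finset.mem_filter, Finset.mem_univ, true_and]
        rintro g hg ⟨-, c, hc⟩
        exact hg c hc)]
    refine Finset.card_lt_card (Finset.ssubset_univ_iff.2 fun e => ?_)
    have h1 := Finset.mem_univ (1 : G)
    rw [← e] at h1
    simp only [ht, Finset.mem_union, Finset.mem_filter, Finset.mem_univ, true_and] at h1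
    exact h1.elim (fun h => h a (one_smul G a)) fun h => h.1 rfl
  rw [Finset.card_univ, ← Nat.card_eq_fintype_card, X.card_points] at key
  have hG := X.card_group
  obtain ⟨s', hs'⟩ : ∃ s', s = s' + 1 := ⟨s - 1, by
    have : 0 < s := Nat.mul_pos Nat.card_pos Nat.card_pos
    omega⟩
  rw [← hs, hs', Nat.mul_succ] at hG
  rw [hs', Nat.add_sub_cancel] at key
  omega

/-- `q` is an odd power of 2. -/
theorem odd_exponent (hN : Nat.card U = (Nat.card (twoPt G a b) + 1) ^ 2) {n : ℕ}
    (hn : Nat.card (twoPt G a b) + 1 = 2 ^ n) : Odd n := by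
  classical
  haveI := Fintype.ofFinite G
  have hd3 := X.odd.three_le_card
  have hG := X.card_group
  set d := Nat.card (twoPt G a b) with hd
  set q := d + 1 with hq
  rw [hN] at hG
  set T : G → ℕ := fun w => Nat.card (centralizer ({w} : Set G)) with hTdef
  set F := (Finset.univ : Finset G).filter fun w => FpReal Ω w with hF
  have hFm : ∀ {w : G}, w ∈ F ↔ FpReal Ω w := fun {w} => by simp [hF]
  -- counting pairs of involutions
  have hsum : 2 * ∑ w ∈ F, T w = Nat.card G * q := by
    set I := (Finset.univ : Finset G).filter fun x => orderOf x = 2 with hI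
    have key := Finset.sum_card_bipartiteAbove_eq_sum_card_bipartiteBelow
      (s := I) (t := F) (r := fun x w => x * w * x⁻¹ = w⁻¹)
    simp only [Finset.bipartiteAbove, Finset.bipartiteBelow] at key
    have h1 : ∀ x ∈ I, 2 * (F.filter fun w => x * w * x⁻¹ = w⁻¹).card = q ^ 2 * q := by
      intro x hx
      rw [← hN, hF, Finset.filter_filter, ← Fintype.card_subtype, ← Nat.card_eq_fintype_card]
      exact X.card_inverted (Finset.mem_filter.1 hx).2
    have h2 : ∀ w ∈ F, (I.filter fun x => x * w * x⁻¹ = w⁻¹).card = T w := by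
      intro w hw
      rw [hI, Finset.filter_filter, ← Fintype.card_subtype, ← Nat.card_eq_fintype_card]
      exact X.card_inverters (hFm.1 hw)
    rw [← Finset.sum_congr rfl h2, ← key, Finset.mul_sum, Finset.sum_congr rfl h1,
      Finset.sum_const, hI, ← Fintype.card_subtype, ← Nat.card_eq_fintype_card, X.card_invol,
      hN, smul_eq_mul, hG]
    ring
  -- one class of tori
  let K : G → Finset G := fun w => (torusClass w).toFinset
  have hKm : ∀ {w v : G}, v ∈ K w ↔ v ∈ torusClass w := fun {w v} => Set.mem_toFinset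
  have hKF : ∀ {w}, w ∈ F → K w ⊆ F := fun {w} hw v hv =>
    hFm.2 (X.centralizer_of_torusClass (hFm.1 hw) (hKm.1 hv)).1
  have hKT : ∀ {w}, w ∈ F → ∑ v ∈ K w, T v = (K w).card * T w := by
    intro w hw
    rw [Finset.sum_congr rfl fun v hv => ?_, Finset.sum_const, smul_eq_mul]
    obtain ⟨g, hg⟩ := (X.centralizer_of_torusClass (hFm.1 hw) (hKm.1 hv)).2
    show Nat.card _ = Nat.card _
    rw [hg, X.card_centralizer_conj]
  have hcls : ∀ {w}, w ∈ F → ∃ e i, (e = 2 ∨ e = 4) ∧ e + 1 ≤ T w ∧ Odd (T w) ∧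
      T w ∣ q ^ 2 + 1 ∧ i * (T w * e) = Nat.card G ∧ (K w).card = i * (T w - 1) ∧
      (T w : ℤ) ∣ (i : ℤ) - 1 := by
    intro w hw
    have hw' := hFm.1 hw
    obtain ⟨e, he, hle, hcard⟩ := X.exists_automizer hN hw'
    refine ⟨e, _, he, hle, X.odd_centralizer hw'.1, hN ▸ X.card_centralizer_dvd hw'.1, ?_, ?_,
      X.index_modEq hN hw'⟩
    · show _ * (Nat.card (centralizer ({w} : Set G)) * e) = _
      rw [← hcard, Subgroup.index_mul_card]
    · rw [← X.card_torusClass hw']
      exact (Nat.card_eq_card_toFinset _).symm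
  have hbound : 2 * F.card < Nat.card G + q ^ 2 := by
    refine lt_of_le_of_lt ?_ (hN ▸ X.card_fpf_le)
    rw [Nat.card_eq_fintype_card, Fintype.card_subtype]
    exact Nat.mul_le_mul_left 2 (Finset.card_le_card fun w hw =>
      Finset.mem_filter.2 ⟨Finset.mem_univ _, (hFm.1 hw).1⟩)
  have hbig : q ^ 2 * 15 < Nat.card G := by
    rw [hG, ← mul_assoc, mul_comm ((q ^ 2 + 1)) (q ^ 2), mul_assoc]
    refine Nat.mul_lt_mul_of_pos_left ?_ (pow_pos (Nat.succ_pos d) 2)
    have : (q ^ 2 + 1) * 3 ≤ (q ^ 2 + 1) * d := Nat.mul_le_mul_left _ hd3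
    have : 4 ^ 2 ≤ q ^ 2 := Nat.pow_le_pow_left (by omega) 2
    omega
  have hfrac : ∀ {w}, w ∈ F → (∀ e i, (e = 2 ∨ e = 4) → i * (T w * e) = Nat.card G →
      (K w).card = i * (T w - 1) → e + 1 ≤ T w →
      Nat.card G ≤ 5 * (K w).card ∧ (e = 2 → Nat.card G ≤ 3 * (K w).card)) := by
    intro w _ e i he hi hK hle
    rw [← hi, hK]
    obtain ⟨t, ht⟩ : ∃ t, T w = t + 1 := ⟨T w - 1, by omega⟩
    rw [ht] at hle ⊢
    rw [Nat.add_sub_cancel]
    refine ⟨?_, fun h2 => ?_⟩
    · rcases he with rfl | rfl <;>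
      · calc i * ((t + 1) * _) ≤ i * (5 * t) := Nat.mul_le_mul_left i (by omega)
          _ = 5 * (i * t) := by ring
    · subst h2
      calc i * ((t + 1) * 2) ≤ i * (3 * t) := Nat.mul_le_mul_left i (by omega)
        _ = 3 * (i * t) := by ring
  obtain ⟨w1, hw1⟩ : F.Nonempty := by
    by_contra h
    rw [Finset.not_nonempty_iff_eq_empty] at h
    rw [h, Finset.sum_empty, Nat.mul_zero] at hsum
    rcases Nat.mul_eq_zero.1 hsum.symm with h0 | h0
    · exact Nat.card_pos.ne' h0
    · omega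
  obtain ⟨e1, i1, he1, hle1, hodd1, hdvd1, hi1, hK1, hmod1⟩ := hcls hw1
  obtain ⟨hb1, hb1'⟩ := hfrac hw1 e1 i1 he1 hi1 hK1 hle1
  have hGpos : 0 < Nat.card G := Nat.card_pos
  by_cases hall1 : F ⊆ K w1
  · exfalso
    have hFK : K w1 = F := Finset.Subset.antisymm (hKF hw1) hall1
    rw [← hFK, hKT hw1, hK1] at hsum
    have h1 : 2 * (T w1 - 1) = e1 * q := by
      refine Nat.eq_of_mul_eq_mul_left hGpos ?_
      calc Nat.card G * (2 * (T w1 - 1)) = e1 * (2 * (i1 * (T w1 - 1) * T w1)) := by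
            rw [← hi1]; ring
        _ = e1 * (Nat.card G * q) := by rw [hsum]
        _ = Nat.card G * (e1 * q) := by ring
    rcases he1 with rfl | rfl
    · have hT1 : T w1 = q + 1 := by omega
      rw [hT1, hq] at hdvd1
      have h2 : (d + 1 + 1) ∣ 2 := by
        have h3 : (d + 1) ^ 2 + 1 = (d + 1 + 1) * d + 2 := by ring
        rw [h3] at hdvd1
        exact (Nat.dvd_add_right (dvd_mul_right _ _)).1 hdvd1
      have := Nat.le_of_dvd two_pos h2
      omega
    · have hT1 : T w1 = 2 * q + 1 := by omega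
      rw [hT1, hq] at hdvd1
      have h2 : (2 * (d + 1) + 1) ∣ 5 := by
        have h3 : 4 * ((d + 1) ^ 2 + 1) = (2 * (d + 1) + 1) * (2 * d + 1) + 5 := by ring
        have h4 := hdvd1.mul_left 4
        rw [h3] at h4
        exact (Nat.dvd_add_right (dvd_mul_right _ _)).1 h4
      have := Nat.le_of_dvd (by norm_num) h2
      omega
  obtain ⟨w2, hw2, hw2n⟩ := Finset.not_subset.1 hall1
  obtain ⟨e2, i2, he2, hle2, hodd2, hdvd2, hi2, hK2, hmod2⟩ := hcls hw2
  obtain ⟨hb2, hb2'⟩ := hfrac hw2 e2 i2 he2 hi2 hK2 hle2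
  have hdis : Disjoint (K w1) (K w2) := Finset.disjoint_left.2 fun v hv hv' =>
    X.torusClass_disjoint (hFm.1 hw1) (hFm.1 hw2) (fun h => hw2n (hKm.2 h)) (hKm.1 hv) (hKm.1 hv')
  have hcU : (K w1).card + (K w2).card ≤ F.card := by
    rw [← Finset.card_union_of_disjoint hdis]
    exact Finset.card_le_card (Finset.union_subset (hKF hw1) (hKF hw2))
  have he14 : e1 = 4 := he1.resolve_left fun h => by have := hb1' h; omega
  have he24 : e2 = 4 := he2.resolve_left fun h => by have := hb2' h; omega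
  subst he14 he24
  have hFK : K w1 ∪ K w2 = F := by
    refine Finset.Subset.antisymm (Finset.union_subset (hKF hw1) (hKF hw2)) fun w3 hw3 => ?_
    by_contra h3
    rw [Finset.mem_union, not_or] at h3
    obtain ⟨e3, i3, he3, hle3, -, -, hi3, hK3, -⟩ := hcls hw3
    obtain ⟨hb3, -⟩ := hfrac hw3 e3 i3 he3 hi3 hK3 hle3
    have hd13 : Disjoint (K w1 ∪ K w2) (K w3) := by
      rw [Finset.disjoint_union_left]
      exact ⟨Finset.disjoint_left.2 fun v hv hv' => X.torusClass_disjoint (hFm.1 hw1) (hFm.1 hw3)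
          (fun h => h3.1 (hKm.2 h)) (hKm.1 hv) (hKm.1 hv'),
        Finset.disjoint_left.2 fun v hv hv' => X.torusClass_disjoint (hFm.1 hw2) (hFm.1 hw3)
          (fun h => h3.2 (hKm.2 h)) (hKm.1 hv) (hKm.1 hv')⟩
    have h4 : (K w1).card + (K w2).card + (K w3).card ≤ F.card := by
      rw [← Finset.card_union_of_disjoint hdis, ← Finset.card_union_of_disjoint hd13]
      exact Finset.card_le_card
        (Finset.union_subset (Finset.union_subset (hKF hw1) (hKF hw2)) (hKF hw3))
    omega
  rw [← hFK, Finset.sum_union hdis, hKT hw1, hKT hw2, hK1, hK2] at hsum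
  have ht : T w1 + T w2 = 2 * q + 2 := by
    have h1 : (T w1 - 1) + (T w2 - 1) = 2 * q := by
      refine Nat.eq_of_mul_eq_mul_left hGpos ?_
      calc Nat.card G * ((T w1 - 1) + (T w2 - 1))
          = i1 * (T w1 * 4) * (T w1 - 1) + i2 * (T w2 * 4) * (T w2 - 1) := by
            rw [hi1, hi2]; ring
        _ = 2 * (2 * (i1 * (T w1 - 1) * T w1 + i2 * (T w2 - 1) * T w2)) := by ring
        _ = Nat.card G * (2 * q) := by rw [hsum]; ring
    omega
  have hcop : (T w1).Coprime (T w2) :=
    X.coprime_tori (hFm.1 hw1) (hFm.1 hw2) fun h => hw2n (hKm.2 h)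
  obtain ⟨k, hk⟩ := hcop.mul_dvd_of_dvd_of_dvd hdvd1 hdvd2
  have hk1 : ∀ (t t' i : ℕ), t + t' = 2 * q + 2 → q ^ 2 + 1 = t * t' * k →
      i * (t * 4) = Nat.card G → (t : ℤ) ∣ (i : ℤ) - 1 → Odd t → (t : ℤ) ∣ (k : ℤ) - 1 := by
    intro t t' i hs hqk hi hmod hodd
    have ht0 : 0 < t := hodd.pos
    have h4 : i * 4 = k * t' * (q ^ 2 * d) := by
      refine Nat.eq_of_mul_eq_mul_left ht0 ?_
      calc t * (i * 4) = i * (t * 4) := by ring
        _ = (q ^ 2 + 1) * (q ^ 2 * d) := by rw [hi, hG]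
        _ = t * (k * t' * (q ^ 2 * d)) := by rw [hqk]; ring
    have h4' : (i : ℤ) * 4 = k * t' * ((q : ℤ) ^ 2 * d) := by exact_mod_cast h4
    have hs' : (t : ℤ) + t' = 2 * q + 2 := by exact_mod_cast hs
    have hqd : (q : ℤ) = d + 1 := by rw [hq]; push_cast; ring
    have h5 : (t : ℤ) ∣ 4 * ((k : ℤ) - 1) := by
      obtain ⟨c, hc⟩ := hmod
      have hqk' : (q : ℤ) ^ 2 + 1 = t * t' * k := by exact_mod_cast hqk
      refine ⟨4 * c + k * (q : ℤ) ^ 2 * d - 2 * k * (t' * k) * ((q : ℤ) ^ 2 - 2), ?_⟩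
      linear_combination (4 : ℤ) * hc - h4' - (k : ℤ) * (q : ℤ) ^ 2 * d * hs'
        + (2 : ℤ) * k * (q : ℤ) ^ 2 * ((q : ℤ) + 1) * hqd
        - (2 : ℤ) * k * ((q : ℤ) ^ 2 - 2) * hqk'
    refine IsCoprime.dvd_of_dvd_mul_left (Int.isCoprime_iff_nat_coprime.2 ?_) h5
    exact Nat.Coprime.pow_right 2 (Nat.coprime_two_right.2 hodd)
  have hk11 := hk1 _ _ _ ht hk hi1 hmod1 hodd1
  have hk22 := hk1 _ _ _ ((add_comm _ _).trans ht) (by rw [hk, mul_comm (T w2)]) hi2 hmod2 hodd2
  have hk12 : ((T w1 : ℤ) * T w2) ∣ (k : ℤ) - 1 :=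
    (Nat.Coprime.cast hcop).mul_dvd hk11 hk22
  have hkpos : 1 ≤ k := by
    rcases Nat.eq_zero_or_pos k with rfl | h
    · rw [Nat.mul_zero] at hk; omega
    · exact h
  obtain rfl : k = 1 := by
    by_contra hne
    have h1 := Int.le_of_dvd (by omega : (0 : ℤ) < (k : ℤ) - 1) hk12
    have hP : q + 2 ≤ T w1 * T w2 := by
      have : T w1 * 5 ≤ T w1 * T w2 := Nat.mul_le_mul_left _ hle2
      have : 5 * T w2 ≤ T w1 * T w2 := Nat.mul_le_mul_right _ hle1
      omega
    have h2 : T w1 * T w2 + 1 ≤ k := by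
      have : ((T w1 * T w2 : ℕ) : ℤ) ≤ (k : ℤ) - 1 := by push_cast; exact h1
      omega
    have h3 : (q + 2) * (q + 3) ≤ T w1 * T w2 * k := Nat.mul_le_mul hP (by omega)
    rw [← hk] at h3
    nlinarith
  -- `(t₁ - t₂)² = 8 q`
  have hsq : ((T w1 : ℤ) - T w2) ^ 2 = 2 ^ (n + 3) := by
    have h1 : (T w1 : ℤ) + T w2 = 2 * q + 2 := by exact_mod_cast ht
    have h2 : (q : ℤ) ^ 2 + 1 = T w1 * T w2 := by
      rw [Nat.mul_one] at hk; exact_mod_cast hk
    have h3 : (q : ℤ) = 2 ^ n := by exact_mod_cast hn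
    rw [pow_add, ← h3]
    linear_combination ((T w1 : ℤ) + T w2 + 2 * q + 2) * h1 + (4 : ℤ) * h2
  have hsq' : ((T w1 : ℤ) - T w2).natAbs ^ 2 = 2 ^ (n + 3) := by
    rw [← Int.natAbs_pow, hsq, Int.natAbs_pow]; rfl
  obtain ⟨j, -, hj⟩ := (Nat.dvd_prime_pow Nat.prime_two).1 (hsq' ▸ dvd_pow_self _ two_ne_zero :
    ((T w1 : ℤ) - T w2).natAbs ∣ 2 ^ (n + 3))
  rw [hj, ← pow_mul] at hsq'
  have := Nat.pow_right_injective le_rfl hsq'
  exact Nat.odd_iff.2 (by omega)

end EvenCtx

end Cfsg.Agent.Zassenhaus
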