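import Cfsg.Agent.Zassenhaus.EvenKernel

/-!
# Simple Zassenhaus groups with a nonabelian 2-group as kernel: fixed-point-free real elements
-/

set_option autoImplicit false

namespace Cfsg.Agent.Zassenhaus

open Subgroup MulAction

universe u v

variable {G : Type u} {Ω : Type v} [Group G] [Finite G] [MulAction G Ω] [Fintype Ω]

variable (Ω) in
/-- An element without fixed points inverted by an involution. -/
def FpReal (w : G) : Prop :=
  (∀ c : Ω, w • c ≠ c) ∧ ∃ x : G, orderOf x = 2 ∧ x * w * x⁻¹ = w⁻¹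

namespace EvenCtx

variable {a b : Ω} {U : Subgroup G} (X : EvenCtx G a b U)
include X

set_option linter.unusedSectionVars false

theorem smul_smul_ne {w : G} (hw : ∀ c : Ω, w • c ≠ c) (c : Ω) : w • w • c ≠ c := by
  intro h
  obtain ⟨g, hg1, hg2⟩ := X.odd.zctx.two (Ne.symm (hw c)) X.odd.ne
  have ha : (g * w * g⁻¹) • a = b := by rw [← hg1, mul_smul, inv_smul_smul, mul_smul, hg2]
  have hb : (g * w * g⁻¹) • b = a := by rw [← hg2, mul_smul, inv_smul_smul, mul_smul, h, hg1]
  have h2 := X.odd.swap_invol X.inv ha hb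
  obtain ⟨p, hp⟩ := X.exists_fixed h2
  refine hw (g⁻¹ • p) (MulAction.injective g ?_)
  show g • w • g⁻¹ • p = g • g⁻¹ • p
  rw [mul_smul, mul_smul] at hp
  rw [smul_inv_smul]
  exact hp

/-- The centraliser of an element without fixed points is semiregular. -/
theorem semireg {w c : G} (hw : ∀ x : Ω, w • x ≠ x) (h : c * w = w * c) {x : Ω}
    (hc : c • x = x) : c = 1 := by
  have h1 : c • w • x = w • x := by rw [← mul_smul, h, mul_smul, hc]
  exact X.odd.zctx.three c x (w • x) (w • w • x) (Ne.symm (hw x)) (Ne.symm (hw _))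
    (Ne.symm (X.smul_smul_ne hw x)) hc h1 (by rw [← mul_smul, h, mul_smul, h1])

theorem card_centralizer_dvd {w : G} (hw : ∀ c : Ω, w • c ≠ c) :
    Nat.card (centralizer ({w} : Set G)) ∣ Nat.card U + 1 := by
  rw [← X.card_points]
  refine Core.card_dvd_of_free fun x => ?_
  rw [eq_bot_iff]
  intro c hc
  rw [mem_bot]
  exact Subtype.ext (X.semireg hw (mem_centralizer_singleton_iff.1 c.2) hc)

theorem odd_centralizer {w : G} (hw : ∀ c : Ω, w • c ≠ c) :
    Odd (Nat.card (centralizer ({w} : Set G))) :=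
  Odd.of_dvd_nat X.even_card.add_one (X.card_centralizer_dvd hw)

theorem centralizer_inf_invol {w x : G} (hw : ∀ c : Ω, w • c ≠ c) (hx : orderOf x = 2)
    {c : G} (hc : c * w = w * c) (hcx : c * x = x * c) : c = 1 := by
  obtain ⟨p, hp⟩ := X.exists_fixed hx
  refine X.semireg hw hc (x := p) (X.fixed_eq hx ?_ hp)
  rw [← mul_smul, ← hcx, mul_smul, hp]

/-- An involution normalising the centraliser of an element without fixed points inverts it. -/
theorem invert_of_normalize {w x : G} (hw : ∀ c : Ω, w • c ≠ c) (hx : orderOf x = 2)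
    (hn : ∀ c ∈ centralizer ({w} : Set G), x * c * x⁻¹ ∈ centralizer ({w} : Set G)) :
    (∀ c ∈ centralizer ({w} : Set G), x * c * x⁻¹ = c⁻¹) ∧
      ∀ c ∈ centralizer ({w} : Set G), ∀ c' ∈ centralizer ({w} : Set G), c * c' = c' * c := by
  let φ : centralizer ({w} : Set G) →* centralizer ({w} : Set G) :=
    { toFun := fun c => ⟨x * c * x⁻¹, hn c c.2⟩
      map_one' := Subtype.ext (by simp)
      map_mul' := fun c c' => Subtype.ext (by simp [mul_assoc]) }
  have hfix : MonoidHom.FixedPointFree φ := fun c hc => Subtype.ext <|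
    X.centralizer_inf_invol hw hx (mem_centralizer_singleton_iff.1 c.2)
      (mul_inv_eq_iff_eq_mul.1 (congrArg Subtype.val hc)).symm
  have hinv : Function.Involutive φ := fun c => Subtype.ext (by
    show x * (x * c * x⁻¹) * x⁻¹ = c
    rw [inv_conj_of_sq (sq_of_orderOf_two hx), ← mul_assoc x (x * c), ← mul_assoc x x,
      sq_of_orderOf_two hx, one_mul, mul_assoc, sq_of_orderOf_two hx, mul_one])
  refine ⟨fun c hc => congrArg Subtype.val (congrFun (hfix.coe_eq_inv_of_involutive hinv) ⟨c, hc⟩),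
    fun c hc c' hc' => congrArg Subtype.val
      (hfix.commute_all_of_involutive hinv ⟨c, hc⟩ ⟨c', hc'⟩).eq⟩

theorem invert {w x : G} (hw : ∀ c : Ω, w • c ≠ c) (hx : orderOf x = 2)
    (hxw : x * w * x⁻¹ = w⁻¹) :
    (∀ c ∈ centralizer ({w} : Set G), x * c * x⁻¹ = c⁻¹) ∧
      ∀ c ∈ centralizer ({w} : Set G), ∀ c' ∈ centralizer ({w} : Set G), c * c' = c' * c := by
  refine X.invert_of_normalize hw hx fun c hc => ?_
  rw [mem_centralizer_singleton_iff] at hc ⊢
  have hc' : c * w⁻¹ = w⁻¹ * c := ((Commute.inv_right hc : Commute c w⁻¹)).eq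
  calc x * c * x⁻¹ * w = x * (c * (x⁻¹ * w * x)) * x⁻¹ := by group
    _ = x * (c * w⁻¹) * x⁻¹ := by
      rw [inv_conj_of_sq (sq_of_orderOf_two hx)] at hxw ⊢
      rw [hxw]
    _ = x * (w⁻¹ * c) * x⁻¹ := by rw [hc']
    _ = (x * w * x⁻¹)⁻¹ * (x * c * x⁻¹) := by group
    _ = w * (x * c * x⁻¹) := by rw [hxw, inv_inv]

theorem centralizer_eq {w c : G} (hw : FpReal Ω w) (hc : c ∈ centralizer ({w} : Set G))
    (hc1 : c ≠ 1) :
    centralizer ({c} : Set G) = centralizer ({w} : Set G) ∧ FpReal Ω c := by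
  obtain ⟨hf, x, hx, hxw⟩ := hw
  obtain ⟨hinv, hab⟩ := X.invert hf hx hxw
  have hcw := mem_centralizer_singleton_iff.1 hc
  have hcf : ∀ p : Ω, c • p ≠ p := fun p hp => hc1 (X.semireg hf hcw hp)
  refine ⟨le_antisymm (fun d hd => ?_) (fun d hd => ?_), hcf, x, hx, hinv c hc⟩
  · obtain ⟨-, hab'⟩ := X.invert hcf hx (hinv c hc)
    refine mem_centralizer_singleton_iff.2 (hab' d hd w ?_)
    exact mem_centralizer_singleton_iff.2 hcw.symm
  · exact mem_centralizer_singleton_iff.2 (hab d hd c hc)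

theorem ne_one {w : G} (hw : FpReal Ω w) : w ≠ 1 := fun e => hw.1 a (by rw [e, one_smul])

theorem mem_centralizer_self (w : G) : w ∈ centralizer ({w} : Set G) :=
  mem_centralizer_singleton_iff.2 rfl

theorem real_conj {w : G} (hw : FpReal Ω w) (g : G) : FpReal Ω (g * w * g⁻¹) := by
  obtain ⟨hf, x, hx, hxw⟩ := hw
  refine ⟨fun c hc => hf (g⁻¹ • c) (MulAction.injective g ?_), g * x * g⁻¹,
    by rw [orderOf_conj_eq, hx], ?_⟩
  · rw [mul_smul, mul_smul] at hc
    show g • w • g⁻¹ • c = g • g⁻¹ • c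
    rw [smul_inv_smul]
    exact hc
  · calc g * x * g⁻¹ * (g * w * g⁻¹) * (g * x * g⁻¹)⁻¹ = g * (x * w * x⁻¹) * g⁻¹ := by group
      _ = (g * w * g⁻¹)⁻¹ := by rw [hxw]; group

theorem mem_centralizer_conj {w g c : G} :
    c ∈ centralizer ({g * w * g⁻¹} : Set G) ↔ g⁻¹ * c * g ∈ centralizer ({w} : Set G) := by
  rw [mem_centralizer_singleton_iff, mem_centralizer_singleton_iff]
  constructor <;> intro h
  · calc g⁻¹ * c * g * w = g⁻¹ * (c * (g * w * g⁻¹)) * g := by group
      _ = g⁻¹ * ((g * w * g⁻¹) * c) * g := by rw [h]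
      _ = w * (g⁻¹ * c * g) := by group
  · calc c * (g * w * g⁻¹) = g * (g⁻¹ * c * g * w) * g⁻¹ := by group
      _ = g * (w * (g⁻¹ * c * g)) * g⁻¹ := by rw [h]
      _ = g * w * g⁻¹ * c := by group

/-- The normaliser of a torus is the torus times the centraliser in it of an inverting involution. -/
theorem card_normalizer {w y : G} (hw : FpReal Ω w) (hy : orderOf y = 2)
    (hyw : y * w * y⁻¹ = w⁻¹) :
    Nat.card (normalizer (centralizer ({w} : Set G) : Set G)) =
      Nat.card (centralizer ({w} : Set G)) *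
        Nat.card (normalizer (centralizer ({w} : Set G) : Set G) ⊓ centralizer ({y} : Set G) :
          Subgroup G) := by
  set T := centralizer ({w} : Set G) with hT
  set N := normalizer (T : Set G) with hN
  obtain ⟨hinv, hab⟩ := X.invert hw.1 hy hyw
  have hTN : T ≤ N := Subgroup.le_normalizer
  rw [← Nat.card_prod]
  symm
  refine Nat.card_congr (Equiv.ofBijective (fun p : T × (N ⊓ centralizer ({y} : Set G) : Subgroup G)
    => (⟨(p.1 : G) * p.2, N.mul_mem (hTN p.1.2) p.2.2.1⟩ : N)) ⟨?_, ?_⟩)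
  · intro p p' e
    have hdisj : Disjoint T (N ⊓ centralizer ({y} : Set G)) := by
      rw [disjoint_iff, eq_bot_iff]
      rintro c ⟨hc, -, hcy⟩
      exact Subgroup.mem_bot.2 (X.centralizer_inf_invol hw.1 hy
        (mem_centralizer_singleton_iff.1 hc) (mem_centralizer_singleton_iff.1 hcy))
    exact Subgroup.mul_injective_of_disjoint hdisj (congrArg Subtype.val e)
  · rintro ⟨g, hg⟩
    have hgy : orderOf (g * y * g⁻¹) = 2 := by rw [orderOf_conj_eq, hy]
    -- `g * y * g⁻¹ * y` centralises `w`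
    have hd : g * y * g⁻¹ * y ∈ T := by
      rw [hT, mem_centralizer_singleton_iff]
      have hwg : g⁻¹ * w * g ∈ T := by
        have := (mem_normalizer_iff.1 (N.inv_mem hg) w).1 (X.mem_centralizer_self w)
        rwa [inv_inv] at this
      have h1 : g * y * g⁻¹ * w * (g * y * g⁻¹)⁻¹ = w⁻¹ := by
        calc g * y * g⁻¹ * w * (g * y * g⁻¹)⁻¹ = g * (y * (g⁻¹ * w * g) * y⁻¹) * g⁻¹ := by group
          _ = g * (g⁻¹ * w * g)⁻¹ * g⁻¹ := by rw [hinv _ hwg]
          _ = w⁻¹ := by group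
      calc g * y * g⁻¹ * y * w = g * y * g⁻¹ * (y * w * y⁻¹) * y := by group
        _ = (g * y * g⁻¹ * w * (g * y * g⁻¹)⁻¹)⁻¹ * (g * y * g⁻¹ * y) := by rw [hyw]; group
        _ = w * (g * y * g⁻¹ * y) := by rw [h1, inv_inv]
    obtain ⟨d, hddef⟩ : ∃ d, d = g * y * g⁻¹ * y := ⟨_, rfl⟩
    rw [← hddef] at hd
    obtain ⟨i, hi⟩ : Odd (orderOf d) :=
      (X.odd_centralizer hw.1).of_dvd_nat (orderOf_dvd_natCard T hd)
    set c := d ^ (i + 1) with hc
    have hcT : c ∈ T := pow_mem hd _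
    have hcd : c * c = d := by
      rw [hc, ← pow_add, show i + 1 + (i + 1) = orderOf d + 1 by omega, pow_succ, pow_orderOf_eq_one,
        one_mul]
    have hm : c⁻¹ * g * y = y * (c⁻¹ * g) := by
      have h2 : y * c⁻¹ = c * y := by
        have h3 := hinv c⁻¹ (inv_mem hcT)
        rw [inv_inv] at h3
        exact mul_inv_eq_iff_eq_mul.1 h3
      have hgy' : g * y * g⁻¹ = d * y := by
        rw [hddef, mul_assoc _ y y, sq_of_orderOf_two hy, mul_one]
      calc c⁻¹ * g * y = c⁻¹ * (g * y * g⁻¹) * g := by group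
        _ = c⁻¹ * (c * c * y) * g := by rw [hgy', hcd]
        _ = c * y * g := by group
        _ = y * (c⁻¹ * g) := by rw [← h2, mul_assoc]
    exact ⟨(⟨c, hcT⟩, ⟨c⁻¹ * g, N.mul_mem (N.inv_mem (hTN hcT)) hg,
      mem_centralizer_singleton_iff.2 hm⟩), Subtype.ext (mul_inv_cancel_left c g)⟩

theorem sq_inj (hN : Nat.card U = (Nat.card (twoPt G a b) + 1) ^ 2) {u v : U}
    (h : u * u = v * v) : u⁻¹ * v ∈ center U := by
  have hwd : ∀ u v : U, (QuotientGroup.mk u : U ⧸ center U) = QuotientGroup.mk v → u * u = v * v := by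
    intro u v e
    obtain ⟨z, hz, rfl⟩ : ∃ z ∈ center U, u * z = v :=
      ⟨u⁻¹ * v, QuotientGroup.eq.1 e, mul_inv_cancel_left u v⟩
    have hz2 := X.center_sq hz
    calc u * u = u * u * (z * z) := by rw [hz2, mul_one]
      _ = u * (u * z) * z := by group
      _ = u * (z * u) * z := by rw [mem_center_iff.1 hz u]
      _ = u * z * (u * z) := by group
  let f : U ⧸ center U → center U := Quotient.lift
    (fun u : U => (⟨u * u, X.sq_mem_center u⟩ : center U))
    (fun u v e => Subtype.ext (hwd u v (Quotient.sound e)))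
  have hsurj : Function.Surjective f := by
    rintro ⟨z, hz⟩
    rcases eq_or_ne z 1 with rfl | hz1
    · exact ⟨QuotientGroup.mk 1, Subtype.ext (one_mul 1)⟩
    obtain ⟨u, hu, v, hv, huv⟩ := X.nonab
    obtain ⟨u0, hu0⟩ : ∃ u0 : U, u0 ∉ center U := by
      refine ⟨⟨u, hu⟩, fun hc => huv ?_⟩
      exact (congrArg Subtype.val (mem_center_iff.1 hc ⟨v, hv⟩)).symm
    have hne : u0 * u0 ≠ 1 := fun e => hu0 <|
      ((X.invol_iff_center u0).1 ⟨fun e1 => hu0 (e1 ▸ one_mem _), e⟩).1
    obtain ⟨h, hh, -⟩ := X.exists_twoPt_conj (X.orderOf_center (X.sq_mem_center u0) hne)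
      (u0 * u0).2 (X.orderOf_center hz hz1) z.2
    refine ⟨QuotientGroup.mk (⟨(h : G) * u0 * (h : G)⁻¹, X.conj_mem h.2.1 u0.2⟩ : U),
      Subtype.ext (Subtype.ext ?_)⟩
    rw [← hh]
    show (h : G) * u0 * (h : G)⁻¹ * ((h : G) * u0 * (h : G)⁻¹) = _
    simp only [Subgroup.coe_mul]
    group
  have hcard : Nat.card (U ⧸ center U) = Nat.card (center U) := by
    refine Nat.eq_of_mul_eq_mul_right (Nat.card_pos (α := center U)) ?_
    rw [← Subgroup.card_eq_card_quotient_mul_card_subgroup, hN, ← X.card_center, pow_two]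
  have hinj : Function.Injective f :=
    ((Nat.bijective_iff_surjective_and_card f).2 ⟨hsurj, hcard⟩).1
  exact QuotientGroup.eq.1 (hinj (a₁ := QuotientGroup.mk u) (a₂ := QuotientGroup.mk v)
    (Subtype.ext h))

/-- The order of the automizer of a torus. -/
theorem card_automizer (hN : Nat.card U = (Nat.card (twoPt G a b) + 1) ^ 2) {w y : G}
    (hw : FpReal Ω w) (hy : orderOf y = 2) (hyw : y * w * y⁻¹ = w⁻¹) :
    Nat.card (normalizer (centralizer ({w} : Set G) : Set G) ⊓ centralizer ({y} : Set G) :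
        Subgroup G) = 2 ∨
      Nat.card (normalizer (centralizer ({w} : Set G) : Set G) ⊓ centralizer ({y} : Set G) :
        Subgroup G) = 4 := by
  classical
  set T := centralizer ({w} : Set G) with hT
  set M := normalizer (T : Set G) ⊓ centralizer ({y} : Set G) with hM
  obtain ⟨hinv, -⟩ := X.invert hw.1 hy hyw
  obtain ⟨p, hp⟩ := X.exists_fixed hy
  obtain ⟨k, hk⟩ : ∃ k : G, k • p = a := by
    by_cases hpa : p = a
    · exact ⟨1, by rw [hpa, one_smul]⟩
    · obtain ⟨k, hk, -⟩ := X.odd.zctx.two hpa (Ne.symm hpa)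
      exact ⟨k, hk⟩
  have hyo : orderOf (k * y * k⁻¹) = 2 := by rw [orderOf_conj_eq, hy]
  have hyU : k * y * k⁻¹ ∈ U := X.invol_mem hyo (by
    rw [← hk, mul_smul, mul_smul, inv_smul_smul, hp])
  have hMU : ∀ m ∈ M, k * m * k⁻¹ ∈ U := fun m hm => by
    refine X.centralizer_le hyU (fun e => ?_) ?_
    · rw [e, orderOf_one] at hyo; omega
    · have h1 := mem_centralizer_singleton_iff.1 hm.2
      calc k * m * k⁻¹ * (k * y * k⁻¹) = k * (m * y) * k⁻¹ := by group
        _ = k * (y * m) * k⁻¹ := by rw [h1]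
        _ = k * y * k⁻¹ * (k * m * k⁻¹) := by group
  have hyM : y ∈ M := ⟨Subgroup.mem_normalizer_fintype fun c hc => by
    rw [SetLike.mem_coe, hinv c hc]; exact inv_mem hc, mem_centralizer_singleton_iff.2 rfl⟩
  -- the involution is unique
  have huniq : ∀ m ∈ M, m * m = 1 → m = 1 ∨ m = y := by
    intro m hm hmm
    refine or_iff_not_imp_left.2 fun hm1 => ?_
    have hmo : orderOf m = 2 := orderOf_eq_prime (by rw [pow_two]; exact hmm) hm1
    obtain ⟨hminv, -⟩ := X.invert_of_normalize hw.1 hmo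
      (fun c hc => (mem_normalizer_iff.1 hm.1 c).1 hc)
    have hmy := mem_centralizer_singleton_iff.1 hm.2
    have hcy : m * y = 1 := by
      refine X.centralizer_inf_invol hw.1 hy ?_ (by rw [mul_assoc, ← mul_assoc y m y, ← hmy, mul_assoc])
      have hwT := X.mem_centralizer_self w
      calc m * y * w = m * (y * w * y⁻¹) * y := by group
        _ = (m * w * m⁻¹)⁻¹ * m * y := by rw [hyw]; group
        _ = w * (m * y) := by rw [hminv w hwT, inv_inv, mul_assoc]
    rw [eq_inv_of_mul_eq_one_left hcy, inv_conj_of_sq (sq_of_orderOf_two hy)]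
  have hsq : ∀ m ∈ M, m * m = 1 ∨ m * m = y := by
    intro m hm
    refine huniq _ (mul_mem hm hm) ?_
    have h1 := congrArg Subtype.val (X.center_sq (X.sq_mem_center ⟨_, hMU m hm⟩))
    simp only [Subgroup.coe_mul, Subgroup.coe_one] at h1
    refine (conj_eq_one_iff (a := k)).1 ?_
    rw [← h1]; group
  have hbound : ∃ v, ∀ m ∈ M, m = 1 ∨ m = y ∨ m = v ∨ m = v * y := by
    by_cases hall : ∀ m ∈ M, m * m = 1
    · exact ⟨1, fun m hm => (huniq m hm (hall m hm)).elim Or.inl fun h => Or.inr (Or.inl h)⟩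
    push Not at hall
    obtain ⟨v, hv, hv1⟩ := hall
    refine ⟨v, fun m hm => ?_⟩
    by_cases hm1 : m * m = 1
    · exact (huniq m hm hm1).elim Or.inl fun h => Or.inr (Or.inl h)
    have e : m * m = v * v :=
      ((hsq m hm).resolve_left hm1).trans ((hsq v hv).resolve_left hv1).symm
    have hz := X.sq_inj hN (u := ⟨_, hMU v hv⟩) (v := ⟨_, hMU m hm⟩) (Subtype.ext (by
      show k * v * k⁻¹ * (k * v * k⁻¹) = k * m * k⁻¹ * (k * m * k⁻¹)
      calc k * v * k⁻¹ * (k * v * k⁻¹) = k * (v * v) * k⁻¹ := by group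
        _ = k * (m * m) * k⁻¹ := by rw [e]
        _ = k * m * k⁻¹ * (k * m * k⁻¹) := by group))
    have h2 := congrArg Subtype.val (X.center_sq hz)
    simp only [Subgroup.coe_mul, Subgroup.coe_one, Subgroup.coe_inv] at h2
    have h3 : v⁻¹ * m * (v⁻¹ * m) = 1 := (conj_eq_one_iff (a := k)).1 (by rw [← h2]; group)
    rcases huniq _ (mul_mem (inv_mem hv) hm) h3 with h | h
    · exact Or.inr (Or.inr (Or.inl (inv_mul_eq_one.1 h).symm))
    · exact Or.inr (Or.inr (Or.inr (by rw [← h, mul_inv_cancel_left])))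
  obtain ⟨v, hv⟩ := hbound
  have hle : Nat.card M ≤ 4 := by
    rw [← SetLike.coe_sort_coe, Nat.card_coe_set_eq]
    refine le_trans (Set.ncard_le_ncard (t := ↑({1, y, v, v * y} : Finset G)) (fun m hm => ?_)
      (Finset.finite_toSet _)) (by rw [Set.ncard_coe_finset]; exact Finset.card_le_four)
    simpa using hv m hm
  have h2 : 2 ∣ Nat.card M := hy ▸ orderOf_dvd_natCard M hyM
  have h4 : Nat.card M ≠ 3 := fun e => by rw [e] at h2; omega
  have := Nat.card_pos (α := M)
  omega

end EvenCtx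

end Cfsg.Agent.Zassenhaus
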