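import Cfsg.Agent.Zassenhaus.NilBound

/-!
A Zassenhaus group with kernel of odd order and inverting swappers: the involutions form one class
of `n d` elements without fixed points; a norm inequality for irreducible characters.
-/

set_option autoImplicit false
set_option linter.unusedSectionVars false
set_option linter.style.haveILetI false

namespace Cfsg.Agent.Zassenhaus

open Subgroup MulAction
open scoped ComplexConjugate

universe u v

namespace NCtx

variable {G : Type u} {Ω : Type v} [Group G] [MulAction G Ω] [Fintype G] [Finite Ω]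
  (X : NCtx G Ω) (hodd : Odd (Nat.card X.F))

include hodd

theorem odd_card_L : Odd (Nat.card X.L) := X.card_L ▸ hodd.mul X.odd

theorem eq_one_of_sq_fix {g : G} (hg : g * g = 1) {x : Ω} (hx : g • x = x) : g = 1 := by
  obtain ⟨k, hk⟩ : ∃ k : G, k • x = X.a := by
    by_cases hxa : x = X.a
    · exact ⟨1, by rw [one_smul, hxa]⟩
    · obtain ⟨k, hk, -⟩ := X.C.two hxa X.hab
      exact ⟨k, hk⟩
  let l : X.L := ⟨k * g * k⁻¹, mem_stabilizer_iff.2 (by
    rw [← hk, mul_smul, mul_smul, inv_smul_smul, hx])⟩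
  have h2 : orderOf l ∣ 2 := orderOf_dvd_of_pow_eq_one (Subtype.ext (by
    show (k * g * k⁻¹) ^ 2 = 1
    rw [conj_pow, pow_two, hg, mul_one, mul_inv_cancel]))
  rcases (Nat.dvd_prime Nat.prime_two).1 h2 with h3 | h3
  · exact conj_eq_one_iff.1 (congrArg Subtype.val (orderOf_eq_one_iff.1 h3))
  · have h4 := (X.odd_card_L hodd).of_dvd_nat (_root_.orderOf_dvd_natCard l)
    rw [h3] at h4
    exact absurd h4 (by decide)

omit hodd in
theorem exists_swap : ∃ s : G, s • X.a = X.b ∧ s • X.b = X.a ∧ s * s = 1 ∧ s ≠ 1 := by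
  obtain ⟨s, hsa, hsb⟩ := X.C.two X.hab (Ne.symm X.hab)
  refine ⟨s, hsa, hsb, X.swap_sq hsa hsb, fun e => X.hab ?_⟩
  rw [← hsa, e, one_smul]

theorem indFun_swap {s : G} (hs : s * s = 1) (hs1 : s ≠ 1) (θ : X.L → ℂ) :
    indFun X.L θ s = 0 := by
  refine Char.indFun_apply_eq_zero X.L θ fun x hx => hs1 ?_
  refine X.eq_one_of_sq_fix hodd hs (x := x • X.a) ?_
  have h := mem_stabilizer_iff.1 hx
  rw [mul_smul, mul_smul, inv_smul_eq_iff] at h
  exact h

/-- The involutions: one class, parametrised by the kernel and the two-point stabiliser. -/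
theorem involution_class {s : G} (hsa : s • X.a = X.b) (hsb : s • X.b = X.a) :
    Nat.card {g : G // g * g = 1 ∧ g ≠ 1} = Nat.card X.F * Nat.card (twoPt G X.a X.b) ∧
      ∀ g : G, IsConj s g ↔ (g * g = 1 ∧ g ≠ 1) := by
  have hsh : ∀ h : twoPt G X.a X.b, (s * h) • X.a = X.b ∧ (s * h) • X.b = X.a := fun h =>
    ⟨by rw [mul_smul, h.2.1, hsa], by rw [mul_smul, h.2.2, hsb]⟩
  let φ : X.F × twoPt G X.a X.b → {g : G // g * g = 1 ∧ g ≠ 1} := fun q =>
    ⟨(q.1 : G) * (s * q.2) * (q.1 : G)⁻¹, by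
      rw [← pow_two, conj_pow, pow_two, X.swap_sq (hsh q.2).1 (hsh q.2).2, mul_one, mul_inv_cancel],
      fun e => X.hab (by
        have e' := conj_eq_one_iff.1 e
        rw [← (hsh q.2).1, e', one_smul])⟩
  have hφa : ∀ q, ((φ q : G)) • X.a = (q.1 : G) • X.b := fun q => by
    show ((q.1 : G) * (s * q.2) * (q.1 : G)⁻¹) • X.a = _
    rw [mul_smul, mul_smul, inv_smul_eq_iff.2 (X.ker.fix _ q.1.2).symm, (hsh q.2).1]
  have hφ : Function.Bijective φ := by
    refine ⟨fun q q' e => ?_, fun g => ?_⟩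
    · have h1 : (q.1 : G) • X.b = (q'.1 : G) • X.b := by rw [← hφa, ← hφa, e]
      have h2 : q.1 = q'.1 :=
        Subtype.ext (X.ker.eq_of_smul q.1.2 q'.1.2 (Ne.symm X.hab) h1)
      refine Prod.ext h2 (Subtype.ext ?_)
      have e' : (q.1 : G) * (s * q.2) * (q.1 : G)⁻¹ = (q'.1 : G) * (s * q'.2) * (q'.1 : G)⁻¹ :=
        congrArg Subtype.val e
      rw [h2] at e'
      exact mul_left_cancel (mul_left_cancel (mul_right_cancel e'))
    · obtain ⟨g, hg, hg1⟩ := g
      have hga : g • X.a ≠ X.a := fun e => hg1 (X.eq_one_of_sq_fix hodd hg e)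
      obtain ⟨u, hu, -⟩ := X.ker.reg X.b (g • X.a) (Ne.symm X.hab) hga
      have h1 : ((u : G)⁻¹ * g * u) • X.a = X.b := by
        rw [mul_smul, mul_smul, X.ker.fix _ u.2, inv_smul_eq_iff, hu]
      have h2 : ((u : G)⁻¹ * g * u) • X.b = X.a := by
        rw [mul_smul, mul_smul, hu, ← mul_smul g g, hg, one_smul, inv_smul_eq_iff, X.ker.fix _ u.2]
      refine ⟨(u, ⟨s⁻¹ * ((u : G)⁻¹ * g * u), ?_, ?_⟩), Subtype.ext ?_⟩
      · show (s⁻¹ * ((u : G)⁻¹ * g * u)) • X.a = X.a
        rw [mul_smul, h1, inv_smul_eq_iff, hsa]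
      · show (s⁻¹ * ((u : G)⁻¹ * g * u)) • X.b = X.b
        rw [mul_smul, h2, inv_smul_eq_iff, hsb]
      · show (u : G) * (s * (s⁻¹ * ((u : G)⁻¹ * g * u))) * (u : G)⁻¹ = g
        group
  refine ⟨by rw [← Nat.card_prod]; exact (Nat.card_eq_of_bijective φ hφ).symm, fun g => ⟨?_, ?_⟩⟩
  · intro hc
    obtain ⟨c, rfl⟩ := isConj_iff.1 hc
    have hs1 : s ≠ 1 := fun e => X.hab (by rw [← hsa, e, one_smul])
    exact ⟨by rw [← pow_two, conj_pow, pow_two, X.swap_sq hsa hsb, mul_one, mul_inv_cancel],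
      fun e => hs1 (conj_eq_one_iff.1 e)⟩
  · intro hg
    obtain ⟨⟨u, h⟩, he⟩ := hφ.2 ⟨g, hg⟩
    have he' : (u : G) * (s * h) * (u : G)⁻¹ = g := congrArg Subtype.val he
    obtain ⟨k, hk⟩ : ∃ k : twoPt G X.a X.b, k * k = h := by
      refine ⟨(powCoprime (Nat.coprime_two_right.2 X.odd)).symm h, ?_⟩
      have := (powCoprime (Nat.coprime_two_right.2 X.odd)).apply_symm_apply h
      simpa [pow_two] using this
    have hinv := X.inv s hsa hsb _ k.2
    have h3 : (k : G)⁻¹ * s * k = s * h := by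
      rw [← hinv, ← hk, Subgroup.coe_mul]
      group
    refine isConj_iff.2 ⟨(u : G) * (k : G)⁻¹, ?_⟩
    rw [← he', ← h3]
    group

theorem card_sqrt_one :
    Nat.card {g : G // g * g = 1} = Nat.card X.F * Nat.card (twoPt G X.a X.b) + 1 := by
  classical
  obtain ⟨s, hsa, hsb, -, -⟩ := X.exists_swap
  rw [← (X.involution_class hodd hsa hsb).1, Nat.card_eq_fintype_card, Nat.card_eq_fintype_card,
    Fintype.card_subtype, Fintype.card_subtype,
    ← Finset.card_erase_add_one (s := Finset.univ.filter fun g : G => g * g = 1) (a := 1) (by simp)]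
  congr 2
  ext g
  simp [and_comm]

theorem card_sqrt_kernel {u : X.L} (hu : u ∈ X.K) (hu1 : u ≠ 1) :
    Nat.card {g : G // g * g = (u : G)} = 1 := by
  let e := powCoprime (G := X.L) (Nat.coprime_two_right.2 (X.odd_card_L hodd))
  refine Nat.card_eq_one_iff_exists.2 ⟨⟨(e.symm u : X.L), ?_⟩, ?_⟩
  · have := congrArg Subtype.val (e.apply_symm_apply u)
    simpa [e, pow_two] using this
  · rintro ⟨g, hg⟩
    have hga : g • X.a = X.a := X.fix_eq hu (fun h => hu1 (Subtype.ext h)) (by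
      show (u : G) • g • X.a = g • X.a
      rw [← hg, ← mul_smul, mul_assoc, mul_smul, hg, mem_stabilizer_iff.1 u.2])
    refine Subtype.ext (congrArg Subtype.val (a₁ := (⟨g, hga⟩ : X.L)) ?_)
    refine e.injective ?_
    rw [e.apply_symm_apply]
    exact Subtype.ext (by simpa [e, pow_two] using hg)

/-- The norm inequality: values at involutions, at the kernels and at one. -/
theorem norm_ineq [Fintype Ω] [Fintype X.L] {s : G} (hsa : s • X.a = X.b) (hsb : s • X.b = X.a)
    (χ : IrrCharacter G) (hoff : ∀ l : X.L, l ∉ X.K → (χ : G → ℂ) l = 0) :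
    ((Nat.card X.F * Nat.card (twoPt G X.a X.b) : ℕ) : ℝ) * Complex.normSq ((χ : G → ℂ) s) +
        (Nat.card Ω : ℝ) * ∑ l : X.L, Complex.normSq ((χ : G → ℂ) l) ≤
      (Nat.card G : ℝ) + (Nat.card X.F : ℝ) * Complex.normSq ((χ : G → ℂ) 1) := by
  classical
  set f : G → ℝ := fun g => Complex.normSq ((χ : G → ℂ) g) with hf
  have hcls : ∀ g c : G, f (c * g * c⁻¹) = f g := fun g c => by
    simp only [hf]
    exact congrArg Complex.normSq (Char.classFun_isConj (Char.isClassFunction_of_isIrr χ.2)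
      (isConj_iff.2 ⟨c, rfl⟩)).symm
  have htot : ∑ g, f g = (Nat.card G : ℝ) := by
    have h1 := Char.classInner_irr_self χ.2
    rw [classInner, inv_mul_eq_one₀ Char.card_ne_zero] at h1
    have h2 := congrArg Complex.re h1
    rw [Complex.natCast_re, Complex.re_sum] at h2
    rw [h2]
    exact Finset.sum_congr rfl fun g _ => by rw [hf, Complex.mul_conj, Complex.ofReal_re]
  have htr : ∀ x : Ω, ∃ g : G, g • X.a = x := fun x => by
    by_cases hx : X.a = x
    · exact ⟨1, by rw [one_smul, hx]⟩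
    · obtain ⟨g, hg, -⟩ := X.C.two X.hab (Ne.symm hx)
      exact ⟨g, hg⟩
  choose c hc using htr
  let Ks : Finset X.L := (Finset.univ.filter fun l : X.L => l ∈ X.K).erase 1
  let ψ : Ω × X.L → G := fun q => c q.1 * (q.2 : G) * (c q.1)⁻¹
  have hfix : ∀ q : Ω × X.L, ψ q • q.1 = q.1 := fun q => by
    show (c q.1 * (q.2 : G) * (c q.1)⁻¹) • q.1 = q.1
    rw [mul_smul, mul_smul, inv_smul_eq_iff.2 (hc q.1).symm, q.2.2, hc]
  have hne : ∀ q ∈ (Finset.univ : Finset Ω) ×ˢ Ks, ψ q ≠ 1 := fun q hq e =>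
    Finset.ne_of_mem_erase (Finset.mem_product.1 hq).2 (Subtype.ext (conj_eq_one_iff.1 e))
  have hinj : Set.InjOn ψ ((Finset.univ : Finset Ω) ×ˢ Ks : Finset (Ω × X.L)) := by
    rintro ⟨x, l⟩ hq ⟨y, k⟩ hq' e
    have hxy : x = y := by
      have hlK : (l : G) ∈ X.F :=
        (Finset.mem_filter.1 (Finset.mem_of_mem_erase (Finset.mem_product.1 hq).2)).2
      have hl1 : (l : G) ≠ 1 := fun h =>
        Finset.ne_of_mem_erase (Finset.mem_product.1 hq).2 (Subtype.ext h)
      have h1 : (c x * (l : G) * (c x)⁻¹) • y = y := by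
        have h2 := hfix (y, k)
        rw [← e] at h2
        exact h2
      rw [mul_smul, mul_smul, ← eq_inv_smul_iff] at h1
      have h3 := X.fix_eq hlK hl1 h1
      rw [inv_smul_eq_iff, hc] at h3
      exact h3.symm
    subst hxy
    have e' : c x * (l : G) * (c x)⁻¹ = c x * (k : G) * (c x)⁻¹ := e
    exact Prod.ext rfl (Subtype.ext (mul_left_cancel (mul_right_cancel e')))
  let I : Finset G := Finset.univ.filter fun g => g * g = 1 ∧ g ≠ 1
  let U : Finset G := ((Finset.univ : Finset Ω) ×ˢ Ks).image ψ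
  have hIU : Disjoint I U := Finset.disjoint_left.2 fun g hg hg' => by
    obtain ⟨q, -, rfl⟩ := Finset.mem_image.1 hg'
    exact (Finset.mem_filter.1 hg).2.2 (X.eq_one_of_sq_fix hodd (Finset.mem_filter.1 hg).2.1 (hfix q))
  have h1U : (1 : G) ∉ I ∪ U := fun h => by
    rcases Finset.mem_union.1 h with h | h
    · exact (Finset.mem_filter.1 h).2.2 rfl
    · obtain ⟨q, hq, e⟩ := Finset.mem_image.1 h
      exact hne q hq e
  have hle : f 1 + (∑ g ∈ I, f g + ∑ g ∈ U, f g) ≤ ∑ g, f g := by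
    rw [← Finset.sum_union hIU, ← Finset.sum_insert h1U]
    exact Finset.sum_le_sum_of_subset_of_nonneg (Finset.subset_univ _)
      fun g _ _ => Complex.normSq_nonneg _
  obtain ⟨hcard, hconj⟩ := X.involution_class hodd hsa hsb
  have hIsum : ∑ g ∈ I, f g = ((Nat.card X.F * Nat.card (twoPt G X.a X.b) : ℕ) : ℝ) * f s := by
    rw [Finset.sum_congr rfl (g := fun _ => f s) fun g hg => by
      obtain ⟨c', rfl⟩ := isConj_iff.1 ((hconj g).2 (Finset.mem_filter.1 hg).2)
      exact hcls s c', Finset.sum_const, nsmul_eq_mul, ← hcard, Nat.card_eq_fintype_card,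
      Fintype.card_subtype]
  have hKsum : ∑ l ∈ Ks, f l = ∑ l : X.L, f l - f 1 := by
    have h1 : (1 : X.L) ∈ Finset.univ.filter fun l : X.L => l ∈ X.K :=
      Finset.mem_filter.2 ⟨Finset.mem_univ _, X.K.one_mem⟩
    have h2 := Finset.add_sum_erase _ (fun l : X.L => f l) h1
    rw [Finset.sum_filter_of_ne fun l _ hl => by
      by_contra h
      exact hl (by simp [hf, hoff l h])] at h2
    rw [← h2, OneMemClass.coe_one]
    ring
  have hUsum : ∑ g ∈ U, f g = (Nat.card Ω : ℝ) * (∑ l : X.L, f l - f 1) := by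
    rw [Finset.sum_image hinj, Finset.sum_product, Finset.sum_congr rfl
      (g := fun _ => ∑ l : X.L, f l - f 1) fun x _ => by
        rw [← hKsum]
        exact Finset.sum_congr rfl fun l _ => hcls _ _,
      Finset.sum_const, Finset.card_univ, nsmul_eq_mul, ← Nat.card_eq_fintype_card]
  rw [htot, hIsum, hUsum] at hle
  have hN : (Nat.card X.F : ℝ) + 1 = (Nat.card Ω : ℝ) := by exact_mod_cast X.card_F
  show _ * f s + _ * ∑ l : X.L, f l ≤ _ + _ * f 1
  rw [← hN] at hle ⊢
  linarith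

end NCtx

end Cfsg.Agent.Zassenhaus
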